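import Cfsg.Agent.SpFourCover.Small

/-!
The certificates over the field with 5 elements (found by search, checked by the kernel).
-/

set_option autoImplicit false
set_option maxHeartbeats 2000000
set_option maxRecDepth 200000
-- the kernel checks below are large: run them one after the other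
set_option Elab.async false

namespace CfsgLib.SpFourCover.Five


local instance fact_prime : Fact (Nat.Prime 5) := ⟨by decide⟩

/-- The element whose class is squared. -/
def x : M4 (ZMod 5) := ⟨0, 2, 3, 0, 2, 2, 2, 3, 2, 4, 2, 1, 1, 3, 2, 4⟩

/-- Left factors. -/
def Y0 : List (M4 (ZMod 5) × M4 (ZMod 5)) := [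
  (⟨1, 3, 1, 1, 1, 2, 1, 4, 0, 1, 3, 3, 2, 3, 0, 0⟩, ⟨3, 2, 1, 2, 3, 2, 4, 0, 4, 3, 4, 2, 4, 4, 3, 4⟩),
  (⟨3, 3, 4, 3, 1, 0, 3, 0, 2, 4, 1, 1, 1, 4, 4, 3⟩, ⟨1, 0, 3, 3, 0, 0, 0, 1, 1, 0, 4, 0, 2, 4, 3, 3⟩),
  (⟨0, 2, 4, 1, 2, 2, 1, 0, 2, 4, 2, 4, 2, 4, 3, 1⟩, ⟨4, 3, 3, 3, 3, 3, 3, 2, 3, 3, 4, 1, 3, 2, 1, 2⟩),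
  (⟨4, 2, 1, 4, 0, 3, 0, 1, 3, 4, 1, 3, 0, 4, 4, 0⟩, ⟨4, 3, 3, 1, 3, 1, 0, 0, 4, 2, 4, 3, 1, 0, 4, 4⟩),
  (⟨3, 0, 3, 1, 2, 3, 3, 4, 3, 2, 4, 3, 4, 3, 0, 0⟩, ⟨1, 1, 4, 0, 2, 2, 1, 2, 0, 1, 1, 0, 4, 1, 2, 4⟩),
  (⟨2, 1, 2, 3, 3, 0, 3, 0, 4, 0, 4, 1, 1, 3, 3, 0⟩, ⟨2, 3, 1, 2, 2, 4, 2, 2, 0, 1, 3, 4, 3, 0, 3, 4⟩),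
  (⟨4, 4, 2, 4, 1, 0, 3, 0, 0, 0, 0, 4, 3, 0, 0, 4⟩, ⟨4, 3, 2, 4, 1, 4, 0, 1, 3, 4, 0, 1, 2, 1, 2, 0⟩),
  (⟨3, 2, 0, 0, 0, 4, 0, 0, 2, 3, 2, 0, 0, 0, 4, 4⟩, ⟨4, 1, 1, 4, 4, 4, 3, 3, 0, 2, 0, 4, 2, 0, 3, 0⟩),
  (⟨0, 4, 0, 3, 2, 0, 1, 0, 4, 4, 2, 2, 2, 3, 4, 1⟩, ⟨4, 1, 0, 2, 4, 2, 0, 4, 3, 4, 3, 2, 2, 4, 1, 4⟩),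
  (⟨2, 2, 0, 2, 0, 0, 2, 3, 1, 1, 2, 2, 4, 2, 0, 2⟩, ⟨2, 4, 3, 1, 4, 1, 4, 0, 1, 3, 1, 0, 4, 3, 2, 4⟩),
  (⟨0, 4, 3, 3, 0, 2, 1, 4, 4, 2, 0, 1, 2, 0, 3, 4⟩, ⟨0, 2, 0, 1, 3, 2, 2, 1, 3, 4, 0, 0, 0, 2, 2, 1⟩),
  (⟨4, 4, 2, 4, 1, 4, 2, 0, 1, 4, 4, 2, 2, 1, 1, 1⟩, ⟨4, 3, 2, 0, 3, 1, 0, 2, 2, 0, 4, 3, 2, 1, 3, 4⟩),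
  (⟨4, 2, 3, 4, 1, 1, 1, 4, 0, 0, 3, 2, 4, 4, 3, 3⟩, ⟨4, 0, 4, 2, 4, 4, 1, 2, 0, 4, 1, 1, 0, 1, 3, 4⟩),
  (⟨2, 4, 0, 0, 4, 4, 2, 4, 3, 2, 4, 2, 0, 2, 2, 4⟩, ⟨0, 0, 1, 0, 0, 1, 4, 2, 4, 0, 2, 1, 0, 2, 3, 0⟩),
  (⟨3, 3, 3, 0, 2, 2, 4, 3, 1, 4, 4, 4, 4, 2, 4, 0⟩, ⟨0, 0, 3, 1, 0, 0, 3, 3, 2, 3, 2, 4, 1, 2, 1, 1⟩),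
  (⟨0, 4, 4, 3, 0, 4, 1, 3, 3, 3, 1, 3, 2, 2, 0, 1⟩, ⟨3, 3, 2, 4, 3, 4, 0, 4, 1, 0, 4, 2, 2, 2, 2, 2⟩),
  (⟨2, 2, 3, 4, 0, 2, 3, 1, 1, 4, 4, 1, 3, 3, 4, 4⟩, ⟨4, 2, 3, 1, 4, 0, 1, 4, 1, 1, 0, 0, 0, 2, 1, 4⟩),
  (⟨4, 0, 4, 4, 4, 3, 2, 2, 2, 0, 1, 0, 0, 0, 0, 2⟩, ⟨1, 2, 0, 1, 0, 1, 4, 1, 1, 1, 2, 0, 4, 2, 4, 4⟩),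
  (⟨3, 1, 3, 3, 1, 0, 4, 1, 4, 1, 2, 0, 2, 1, 0, 4⟩, ⟨2, 2, 2, 0, 3, 0, 2, 1, 0, 1, 2, 1, 4, 1, 0, 4⟩),
  (⟨3, 0, 0, 0, 4, 3, 0, 2, 0, 1, 2, 3, 4, 1, 0, 1⟩, ⟨3, 0, 2, 4, 4, 0, 1, 4, 3, 4, 1, 1, 3, 2, 3, 4⟩),
  (⟨2, 2, 2, 2, 0, 3, 2, 1, 1, 1, 4, 1, 0, 4, 4, 0⟩, ⟨3, 1, 4, 1, 4, 4, 3, 1, 1, 0, 4, 3, 1, 0, 4, 2⟩),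
  (⟨4, 4, 3, 3, 2, 3, 1, 4, 3, 3, 3, 3, 2, 3, 0, 0⟩, ⟨0, 0, 4, 0, 0, 3, 3, 1, 1, 4, 0, 4, 0, 4, 1, 0⟩),
  (⟨2, 3, 2, 2, 2, 1, 2, 4, 3, 4, 4, 4, 4, 0, 1, 2⟩, ⟨3, 0, 0, 4, 0, 2, 1, 2, 1, 2, 3, 0, 3, 3, 4, 0⟩),
  (⟨0, 3, 1, 4, 3, 4, 2, 3, 4, 3, 2, 4, 4, 1, 1, 1⟩, ⟨0, 4, 3, 2, 3, 2, 4, 2, 3, 1, 1, 3, 2, 2, 1, 0⟩),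
  (⟨1, 4, 0, 1, 0, 4, 0, 1, 4, 1, 1, 4, 0, 3, 4, 1⟩, ⟨3, 1, 4, 1, 2, 4, 3, 3, 1, 3, 3, 4, 4, 4, 4, 3⟩),
  (⟨3, 2, 0, 0, 0, 0, 4, 4, 1, 4, 0, 3, 1, 0, 2, 2⟩, ⟨3, 0, 1, 4, 3, 4, 3, 0, 4, 3, 4, 0, 2, 3, 3, 2⟩),
  (⟨4, 0, 3, 2, 3, 4, 3, 4, 3, 3, 4, 1, 3, 0, 1, 3⟩, ⟨4, 0, 2, 2, 4, 4, 4, 1, 0, 3, 3, 4, 4, 1, 0, 2⟩),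
  (⟨4, 4, 3, 1, 0, 3, 0, 2, 2, 0, 3, 0, 4, 3, 1, 4⟩, ⟨4, 0, 2, 0, 4, 0, 2, 2, 4, 3, 1, 2, 0, 2, 0, 3⟩),
  (⟨4, 0, 4, 0, 3, 2, 3, 4, 1, 1, 0, 1, 4, 3, 4, 4⟩, ⟨0, 1, 3, 3, 2, 4, 2, 3, 3, 1, 1, 3, 4, 2, 4, 3⟩),
  (⟨4, 1, 2, 3, 3, 1, 4, 3, 1, 1, 4, 0, 1, 1, 2, 2⟩, ⟨0, 1, 4, 2, 3, 3, 4, 3, 0, 0, 4, 1, 1, 1, 0, 1⟩)]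

/-- Left factors. -/
def Y1 : List (M4 (ZMod 5) × M4 (ZMod 5)) := [
  (⟨2, 1, 0, 3, 1, 2, 1, 4, 1, 1, 1, 2, 0, 4, 4, 4⟩, ⟨1, 0, 3, 4, 4, 1, 1, 0, 1, 2, 2, 3, 1, 1, 2, 4⟩),
  (⟨2, 1, 2, 4, 0, 0, 3, 4, 1, 3, 4, 2, 0, 1, 3, 3⟩, ⟨4, 2, 2, 1, 2, 3, 1, 4, 0, 2, 1, 2, 2, 4, 2, 0⟩),
  (⟨1, 1, 1, 2, 2, 4, 4, 1, 2, 0, 2, 1, 0, 1, 3, 4⟩, ⟨4, 2, 4, 2, 2, 0, 0, 4, 1, 4, 3, 3, 3, 3, 4, 1⟩),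
  (⟨1, 3, 2, 2, 0, 4, 1, 4, 2, 2, 4, 0, 4, 0, 3, 0⟩, ⟨1, 3, 1, 1, 2, 0, 4, 1, 2, 4, 1, 2, 2, 1, 0, 1⟩),
  (⟨4, 2, 1, 2, 4, 2, 3, 3, 1, 4, 0, 0, 4, 1, 1, 1⟩, ⟨3, 2, 1, 3, 3, 3, 0, 1, 1, 2, 0, 4, 0, 2, 4, 2⟩),
  (⟨4, 2, 0, 3, 2, 2, 2, 4, 3, 1, 2, 3, 0, 1, 4, 1⟩, ⟨3, 1, 1, 2, 3, 2, 2, 1, 3, 4, 3, 3, 3, 4, 2, 0⟩),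
  (⟨4, 0, 3, 2, 4, 1, 1, 1, 2, 0, 3, 0, 3, 2, 2, 3⟩, ⟨0, 1, 2, 0, 4, 1, 3, 3, 4, 3, 3, 4, 2, 4, 0, 4⟩),
  (⟨4, 2, 3, 2, 4, 4, 2, 1, 4, 4, 0, 3, 3, 1, 1, 1⟩, ⟨3, 2, 2, 3, 0, 4, 2, 3, 0, 4, 4, 3, 3, 2, 1, 2⟩),
  (⟨1, 1, 1, 3, 1, 0, 0, 1, 2, 4, 4, 1, 4, 3, 4, 4⟩, ⟨0, 1, 1, 1, 3, 2, 3, 0, 1, 1, 4, 3, 0, 2, 4, 2⟩),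
  (⟨3, 3, 4, 4, 2, 3, 3, 2, 1, 1, 4, 4, 1, 4, 3, 2⟩, ⟨2, 2, 3, 0, 1, 1, 3, 1, 0, 3, 3, 0, 2, 1, 1, 2⟩),
  (⟨0, 3, 0, 2, 3, 2, 4, 3, 4, 0, 4, 2, 3, 1, 1, 4⟩, ⟨1, 4, 2, 1, 2, 2, 1, 0, 4, 1, 1, 1, 1, 1, 2, 4⟩),
  (⟨3, 2, 1, 3, 3, 2, 2, 4, 1, 0, 3, 4, 3, 1, 3, 1⟩, ⟨3, 3, 3, 1, 1, 2, 1, 4, 2, 1, 1, 0, 0, 3, 4, 2⟩),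
  (⟨3, 2, 4, 0, 2, 4, 3, 2, 2, 0, 3, 0, 4, 0, 1, 4⟩, ⟨4, 2, 0, 4, 0, 0, 4, 2, 4, 2, 3, 1, 4, 4, 1, 1⟩),
  (⟨3, 2, 3, 2, 2, 0, 1, 4, 1, 4, 1, 2, 3, 0, 2, 4⟩, ⟨2, 2, 1, 2, 2, 4, 4, 1, 1, 3, 2, 2, 2, 2, 3, 0⟩),
  (⟨2, 4, 4, 2, 3, 3, 4, 0, 2, 4, 1, 0, 4, 4, 1, 3⟩, ⟨0, 0, 3, 3, 1, 4, 1, 2, 1, 2, 2, 2, 2, 3, 1, 2⟩),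
  (⟨1, 0, 3, 1, 0, 2, 2, 4, 1, 2, 1, 0, 1, 3, 1, 0⟩, ⟨2, 0, 3, 2, 3, 4, 1, 3, 3, 1, 1, 2, 2, 2, 0, 1⟩),
  (⟨0, 4, 2, 0, 0, 2, 3, 0, 4, 4, 0, 1, 2, 4, 0, 1⟩, ⟨2, 1, 2, 2, 0, 0, 1, 3, 2, 1, 1, 0, 2, 4, 1, 0⟩),
  (⟨0, 0, 1, 0, 0, 2, 1, 1, 4, 1, 0, 0, 0, 3, 2, 2⟩, ⟨1, 4, 3, 1, 2, 3, 3, 4, 1, 0, 3, 4, 0, 2, 3, 1⟩),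
  (⟨4, 3, 1, 4, 2, 3, 0, 3, 1, 2, 2, 4, 1, 4, 2, 3⟩, ⟨4, 2, 3, 4, 4, 3, 0, 2, 1, 2, 2, 2, 0, 1, 4, 4⟩),
  (⟨4, 3, 2, 3, 3, 0, 2, 1, 0, 4, 3, 2, 1, 3, 2, 1⟩, ⟨4, 0, 2, 2, 0, 4, 2, 3, 3, 1, 1, 1, 1, 1, 1, 4⟩),
  (⟨2, 0, 1, 1, 0, 3, 4, 3, 4, 0, 0, 2, 0, 2, 1, 4⟩, ⟨2, 2, 1, 0, 2, 1, 2, 4, 4, 2, 1, 4, 4, 4, 3, 4⟩),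
  (⟨4, 4, 3, 4, 4, 4, 1, 1, 2, 0, 2, 1, 4, 1, 2, 2⟩, ⟨3, 4, 1, 2, 2, 0, 4, 0, 1, 1, 2, 2, 1, 3, 0, 3⟩),
  (⟨1, 4, 4, 1, 1, 3, 1, 4, 2, 4, 3, 0, 3, 3, 4, 4⟩, ⟨4, 1, 4, 3, 4, 4, 1, 4, 2, 2, 0, 0, 1, 2, 0, 0⟩),
  (⟨1, 3, 1, 0, 1, 2, 2, 3, 1, 2, 0, 4, 1, 3, 4, 4⟩, ⟨2, 4, 3, 4, 0, 4, 1, 1, 3, 3, 3, 4, 1, 4, 4, 4⟩),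
  (⟨4, 3, 4, 1, 4, 4, 2, 4, 0, 1, 4, 2, 2, 1, 1, 0⟩, ⟨4, 2, 0, 3, 1, 2, 3, 2, 1, 4, 4, 1, 2, 0, 1, 3⟩),
  (⟨3, 0, 2, 0, 1, 0, 4, 2, 1, 1, 1, 4, 3, 2, 2, 4⟩, ⟨0, 1, 1, 4, 4, 2, 0, 2, 3, 1, 4, 3, 3, 1, 1, 2⟩),
  (⟨2, 3, 3, 0, 1, 1, 3, 4, 0, 1, 1, 3, 3, 1, 3, 1⟩, ⟨1, 2, 1, 1, 4, 0, 3, 3, 1, 0, 2, 0, 3, 3, 1, 0⟩),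
  (⟨3, 3, 1, 4, 0, 2, 2, 4, 2, 0, 4, 2, 2, 0, 4, 0⟩, ⟨4, 3, 4, 1, 4, 1, 2, 3, 1, 4, 1, 0, 4, 4, 1, 2⟩),
  (⟨3, 4, 4, 2, 0, 0, 3, 4, 2, 1, 0, 4, 2, 2, 0, 3⟩, ⟨2, 2, 4, 2, 4, 1, 0, 4, 1, 4, 4, 0, 3, 3, 3, 1⟩),
  (⟨4, 0, 1, 3, 0, 2, 4, 0, 4, 0, 0, 3, 0, 3, 1, 3⟩, ⟨3, 4, 2, 1, 2, 2, 1, 2, 4, 3, 3, 2, 1, 2, 3, 0⟩)]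

/-- Left factors. -/
def Y2 : List (M4 (ZMod 5) × M4 (ZMod 5)) := [
  (⟨4, 4, 2, 2, 1, 4, 1, 4, 3, 0, 3, 0, 0, 2, 0, 1⟩, ⟨3, 1, 2, 2, 4, 3, 0, 4, 3, 2, 4, 4, 2, 2, 0, 3⟩),
  (⟨0, 3, 3, 4, 4, 4, 0, 1, 1, 2, 4, 4, 0, 2, 1, 1⟩, ⟨3, 0, 1, 2, 3, 1, 0, 3, 0, 3, 4, 2, 2, 1, 3, 0⟩),
  (⟨2, 2, 4, 0, 4, 1, 1, 2, 1, 3, 4, 1, 4, 0, 4, 4⟩, ⟨4, 2, 3, 2, 3, 4, 0, 1, 2, 2, 2, 4, 1, 0, 3, 3⟩),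
  (⟨3, 2, 2, 1, 1, 0, 4, 0, 3, 4, 2, 0, 0, 4, 1, 3⟩, ⟨3, 4, 2, 3, 2, 1, 2, 4, 0, 2, 0, 3, 3, 1, 1, 4⟩),
  (⟨0, 1, 4, 1, 0, 4, 0, 4, 1, 2, 4, 2, 1, 2, 1, 1⟩, ⟨2, 3, 1, 0, 1, 0, 0, 2, 2, 2, 4, 0, 1, 2, 0, 2⟩),
  (⟨3, 1, 1, 4, 2, 4, 3, 4, 3, 4, 2, 4, 4, 1, 0, 3⟩, ⟨4, 3, 4, 2, 2, 0, 3, 2, 1, 1, 0, 4, 1, 2, 4, 4⟩),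
  (⟨0, 2, 4, 4, 0, 2, 3, 4, 4, 2, 1, 0, 1, 4, 4, 0⟩, ⟨4, 0, 0, 1, 2, 3, 2, 1, 0, 3, 1, 2, 3, 1, 4, 0⟩),
  (⟨4, 0, 4, 3, 0, 2, 4, 2, 4, 0, 3, 3, 0, 2, 4, 0⟩, ⟨3, 2, 1, 2, 1, 0, 0, 3, 3, 1, 3, 1, 3, 3, 0, 2⟩),
  (⟨3, 4, 4, 4, 0, 3, 0, 3, 4, 2, 4, 2, 0, 4, 4, 1⟩, ⟨3, 4, 4, 0, 1, 2, 4, 3, 1, 3, 4, 2, 0, 0, 3, 4⟩),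
  (⟨1, 1, 1, 1, 1, 2, 2, 1, 3, 4, 1, 2, 0, 4, 3, 1⟩, ⟨3, 4, 1, 4, 1, 1, 4, 2, 2, 1, 3, 2, 2, 2, 2, 1⟩),
  (⟨4, 4, 3, 3, 0, 3, 3, 3, 3, 0, 2, 3, 1, 2, 1, 0⟩, ⟨4, 1, 4, 4, 2, 4, 2, 1, 1, 0, 2, 2, 0, 3, 1, 3⟩),
  (⟨4, 0, 0, 4, 1, 4, 4, 3, 1, 2, 1, 1, 2, 0, 0, 1⟩, ⟨2, 0, 0, 3, 3, 0, 0, 1, 2, 1, 2, 3, 2, 1, 4, 4⟩),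
  (⟨1, 0, 4, 0, 3, 2, 2, 3, 2, 0, 4, 1, 2, 3, 3, 0⟩, ⟨3, 0, 4, 1, 0, 2, 4, 1, 2, 1, 0, 2, 4, 4, 0, 3⟩),
  (⟨2, 2, 3, 3, 3, 4, 2, 1, 0, 3, 2, 3, 1, 1, 3, 0⟩, ⟨0, 1, 0, 0, 2, 3, 3, 0, 1, 0, 0, 1, 1, 2, 2, 0⟩),
  (⟨4, 2, 2, 4, 4, 0, 3, 3, 2, 1, 1, 0, 0, 0, 4, 2⟩, ⟨2, 2, 3, 0, 1, 4, 2, 2, 0, 1, 0, 3, 4, 4, 4, 2⟩),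
  (⟨3, 4, 4, 2, 3, 1, 4, 3, 2, 3, 2, 1, 2, 2, 2, 4⟩, ⟨2, 4, 4, 1, 2, 0, 3, 3, 2, 0, 3, 2, 1, 4, 3, 3⟩),
  (⟨1, 4, 2, 3, 0, 4, 0, 3, 2, 2, 0, 4, 1, 1, 1, 1⟩, ⟨4, 0, 4, 3, 2, 0, 2, 0, 0, 3, 0, 3, 0, 4, 3, 4⟩),
  (⟨4, 4, 1, 0, 3, 1, 1, 1, 1, 1, 2, 1, 3, 1, 4, 3⟩, ⟨0, 1, 0, 4, 2, 2, 2, 3, 4, 1, 3, 0, 0, 2, 3, 3⟩),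
  (⟨2, 1, 1, 1, 4, 0, 2, 0, 0, 0, 0, 1, 0, 0, 4, 2⟩, ⟨3, 1, 4, 3, 1, 3, 4, 1, 3, 0, 4, 1, 2, 4, 4, 3⟩),
  (⟨1, 2, 3, 2, 3, 1, 1, 0, 1, 4, 0, 1, 4, 4, 1, 2⟩, ⟨4, 4, 2, 1, 3, 0, 0, 4, 1, 4, 2, 1, 1, 1, 0, 2⟩),
  (⟨2, 3, 0, 1, 3, 1, 1, 3, 1, 0, 1, 3, 1, 3, 0, 1⟩, ⟨2, 0, 4, 4, 1, 4, 0, 3, 4, 0, 1, 1, 4, 1, 0, 1⟩),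
  (⟨2, 1, 0, 0, 4, 3, 3, 4, 2, 4, 3, 0, 1, 3, 2, 1⟩, ⟨3, 3, 4, 1, 2, 4, 2, 2, 2, 2, 0, 2, 3, 1, 0, 1⟩),
  (⟨2, 0, 4, 2, 1, 2, 4, 2, 3, 2, 1, 0, 2, 0, 4, 0⟩, ⟨2, 4, 4, 0, 1, 3, 1, 3, 2, 4, 3, 2, 3, 4, 1, 0⟩),
  (⟨0, 2, 2, 2, 2, 4, 2, 1, 4, 4, 4, 1, 3, 0, 0, 3⟩, ⟨1, 3, 1, 0, 3, 4, 4, 3, 3, 0, 1, 1, 4, 0, 3, 2⟩),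
  (⟨2, 1, 4, 1, 3, 2, 0, 4, 0, 0, 2, 2, 1, 4, 4, 0⟩, ⟨2, 2, 3, 1, 0, 3, 0, 4, 0, 1, 3, 3, 4, 1, 4, 0⟩),
  (⟨3, 2, 0, 0, 3, 1, 1, 1, 0, 1, 2, 0, 0, 4, 0, 0⟩, ⟨2, 1, 1, 1, 2, 3, 1, 3, 2, 0, 3, 2, 4, 2, 3, 0⟩),
  (⟨4, 0, 1, 4, 2, 3, 1, 0, 1, 2, 0, 2, 3, 3, 0, 3⟩, ⟨2, 0, 1, 4, 4, 0, 2, 0, 0, 1, 0, 3, 4, 2, 1, 1⟩)]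

/-- Left factors. -/
def Y : List (M4 (ZMod 5) × M4 (ZMod 5)) :=
  Y0 ++ Y1 ++ Y2

/-- Certificates. -/
def data0 : List (Cert (ZMod 5)) := [
  ⟨3, false, ⟨3, 4, 4, 0, 3, 1, 4, 0, 4, 4, 3, 2, 1, 0, 4, 3⟩⟩,
  ⟨22, false, ⟨0, 2, 0, 0, 1, 0, 0, 0, 0, 2, 0, 3, 0, 0, 1, 0⟩⟩,
  ⟨4, false, ⟨2, 2, 3, 3, 3, 4, 1, 2, 0, 1, 1, 1, 0, 1, 3, 1⟩⟩,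
  ⟨8, true, ⟨0, 2, 4, 1, 1, 4, 1, 4, 3, 4, 0, 1, 0, 1, 3, 3⟩⟩,
  ⟨11, true, ⟨2, 4, 0, 2, 3, 0, 4, 3, 1, 2, 0, 0, 0, 0, 2, 4⟩⟩,
  ⟨19, true, ⟨3, 4, 1, 0, 4, 4, 1, 4, 4, 4, 0, 0, 0, 1, 0, 0⟩⟩,
  ⟨9, false, ⟨2, 4, 0, 0, 2, 3, 3, 1, 2, 3, 4, 2, 1, 0, 3, 1⟩⟩,
  ⟨12, false, ⟨2, 3, 2, 1, 0, 4, 1, 4, 3, 2, 1, 4, 0, 2, 2, 1⟩⟩,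
  ⟨0, false, ⟨4, 3, 4, 0, 2, 2, 2, 0, 1, 1, 2, 4, 0, 2, 1, 2⟩⟩,
  ⟨1, true, ⟨0, 0, 3, 2, 4, 4, 4, 3, 1, 3, 3, 4, 0, 0, 1, 3⟩⟩,
  ⟨4, false, ⟨3, 1, 2, 2, 0, 3, 1, 3, 4, 3, 3, 1, 0, 0, 1, 2⟩⟩,
  ⟨5, true, ⟨3, 3, 4, 0, 4, 1, 0, 2, 4, 4, 3, 1, 0, 0, 2, 3⟩⟩,
  ⟨4, true, ⟨4, 2, 1, 1, 4, 3, 0, 1, 4, 2, 3, 0, 0, 0, 2, 1⟩⟩,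
  ⟨18, true, ⟨0, 2, 2, 1, 4, 0, 1, 4, 4, 4, 0, 4, 0, 2, 1, 1⟩⟩,
  ⟨27, true, ⟨4, 2, 0, 1, 2, 1, 3, 2, 1, 0, 3, 2, 0, 1, 2, 4⟩⟩,
  ⟨7, true, ⟨3, 3, 0, 4, 1, 3, 2, 2, 0, 0, 3, 4, 0, 0, 2, 3⟩⟩,
  ⟨0, false, ⟨4, 2, 1, 0, 0, 1, 1, 3, 2, 1, 2, 0, 0, 0, 2, 1⟩⟩,
  ⟨12, false, ⟨3, 0, 1, 3, 3, 1, 2, 3, 2, 3, 4, 1, 0, 2, 2, 1⟩⟩,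
  ⟨2, false, ⟨4, 1, 0, 1, 3, 1, 4, 0, 4, 4, 4, 4, 0, 1, 0, 1⟩⟩,
  ⟨7, true, ⟨2, 3, 4, 3, 2, 4, 3, 3, 4, 1, 0, 0, 0, 0, 1, 1⟩⟩,
  ⟨38, true, ⟨1, 3, 0, 0, 3, 1, 3, 4, 2, 3, 1, 0, 0, 1, 0, 0⟩⟩,
  ⟨17, false, ⟨3, 2, 1, 2, 3, 1, 2, 2, 4, 0, 2, 2, 0, 1, 3, 4⟩⟩,
  ⟨11, false, ⟨2, 4, 1, 3, 0, 3, 1, 3, 2, 4, 4, 3, 0, 0, 1, 2⟩⟩,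
  ⟨4, true, ⟨2, 4, 0, 1, 3, 0, 4, 3, 2, 4, 0, 0, 0, 0, 2, 4⟩⟩,
  ⟨30, true, ⟨0, 0, 1, 0, 0, 1, 3, 3, 4, 0, 4, 2, 0, 2, 1, 2⟩⟩,
  ⟨1, true, ⟨1, 4, 0, 0, 1, 4, 4, 4, 2, 2, 3, 2, 0, 1, 3, 3⟩⟩,
  ⟨11, true, ⟨0, 4, 4, 4, 4, 3, 1, 2, 1, 4, 3, 4, 0, 1, 0, 1⟩⟩,
  ⟨2, false, ⟨0, 0, 1, 2, 4, 3, 1, 4, 2, 1, 2, 1, 0, 0, 2, 1⟩⟩,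
  ⟨23, true, ⟨3, 0, 1, 4, 1, 1, 0, 1, 0, 0, 2, 3, 0, 0, 0, 1⟩⟩,
  ⟨4, false, ⟨1, 4, 0, 4, 2, 1, 0, 1, 0, 0, 2, 1, 0, 0, 2, 2⟩⟩,
  ⟨1, true, ⟨1, 0, 0, 3, 4, 2, 1, 2, 0, 1, 4, 3, 0, 1, 3, 3⟩⟩,
  ⟨12, false, ⟨4, 2, 4, 3, 4, 2, 2, 2, 0, 4, 1, 2, 0, 1, 3, 3⟩⟩,
  ⟨7, false, ⟨0, 0, 2, 3, 1, 1, 0, 4, 3, 1, 0, 4, 0, 0, 2, 4⟩⟩,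
  ⟨0, false, ⟨3, 0, 2, 0, 0, 2, 0, 1, 2, 0, 0, 0, 0, 1, 0, 1⟩⟩,
  ⟨18, false, ⟨2, 0, 2, 1, 3, 0, 3, 1, 0, 2, 4, 1, 0, 2, 1, 1⟩⟩,
  ⟨8, false, ⟨0, 0, 4, 0, 0, 0, 2, 4, 1, 2, 2, 0, 0, 1, 0, 0⟩⟩,
  ⟨22, false, ⟨0, 3, 3, 3, 1, 4, 1, 0, 2, 1, 2, 0, 1, 0, 3, 1⟩⟩,
  ⟨31, true, ⟨3, 4, 0, 2, 0, 2, 2, 2, 3, 4, 2, 2, 0, 1, 2, 4⟩⟩,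
  ⟨5, true, ⟨1, 4, 1, 3, 4, 1, 3, 1, 0, 1, 3, 4, 0, 1, 2, 4⟩⟩,
  ⟨14, true, ⟨1, 4, 2, 2, 1, 4, 1, 1, 0, 4, 4, 0, 1, 0, 3, 1⟩⟩,
  ⟨8, true, ⟨0, 3, 4, 1, 4, 3, 4, 3, 4, 3, 0, 0, 1, 0, 4, 3⟩⟩,
  ⟨1, true, ⟨2, 0, 2, 2, 1, 3, 4, 2, 0, 4, 2, 2, 0, 2, 2, 1⟩⟩,
  ⟨2, false, ⟨0, 4, 4, 4, 4, 1, 1, 0, 2, 1, 0, 2, 0, 2, 1, 2⟩⟩,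
  ⟨4, false, ⟨3, 3, 2, 1, 0, 4, 3, 0, 1, 1, 1, 2, 0, 0, 1, 4⟩⟩,
  ⟨11, true, ⟨4, 0, 2, 0, 0, 0, 0, 4, 1, 0, 2, 0, 0, 1, 0, 1⟩⟩,
  ⟨23, false, ⟨0, 3, 4, 4, 1, 1, 0, 1, 0, 0, 3, 2, 0, 0, 1, 0⟩⟩,
  ⟨31, false, ⟨3, 3, 0, 3, 4, 4, 1, 3, 0, 2, 2, 2, 0, 1, 0, 1⟩⟩,
  ⟨6, false, ⟨1, 0, 1, 3, 3, 3, 2, 1, 2, 0, 3, 0, 0, 0, 0, 2⟩⟩,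
  ⟨6, true, ⟨4, 0, 4, 2, 4, 1, 2, 2, 2, 0, 1, 0, 0, 0, 0, 1⟩⟩,
  ⟨7, false, ⟨4, 4, 4, 1, 2, 0, 1, 1, 1, 3, 2, 0, 0, 1, 1, 3⟩⟩,
  ⟨0, false, ⟨0, 2, 0, 2, 3, 2, 0, 2, 0, 1, 3, 4, 0, 0, 2, 0⟩⟩,
  ⟨2, false, ⟨0, 0, 0, 1, 1, 0, 0, 0, 3, 4, 0, 3, 0, 0, 1, 3⟩⟩,
  ⟨19, true, ⟨2, 0, 4, 0, 3, 3, 1, 4, 1, 1, 0, 0, 0, 1, 0, 0⟩⟩,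
  ⟨10, false, ⟨1, 3, 1, 3, 2, 4, 4, 0, 1, 2, 0, 1, 1, 0, 3, 1⟩⟩,
  ⟨18, true, ⟨2, 1, 1, 3, 2, 1, 4, 2, 0, 4, 1, 1, 0, 1, 2, 4⟩⟩,
  ⟨17, false, ⟨3, 2, 0, 0, 2, 1, 4, 4, 1, 0, 2, 0, 0, 1, 0, 0⟩⟩,
  ⟨27, true, ⟨0, 0, 3, 0, 0, 3, 1, 2, 3, 0, 3, 1, 0, 0, 0, 2⟩⟩,
  ⟨16, false, ⟨2, 4, 0, 2, 2, 1, 1, 0, 2, 2, 3, 1, 1, 0, 3, 1⟩⟩,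
  ⟨22, false, ⟨0, 3, 4, 0, 1, 2, 0, 3, 0, 3, 0, 2, 0, 0, 1, 0⟩⟩,
  ⟨14, true, ⟨2, 3, 4, 3, 1, 3, 0, 1, 0, 4, 4, 0, 1, 0, 3, 1⟩⟩,
  ⟨7, true, ⟨3, 0, 3, 2, 0, 1, 4, 0, 2, 0, 4, 3, 0, 0, 0, 1⟩⟩,
  ⟨2, false, ⟨4, 1, 1, 0, 3, 1, 3, 1, 4, 4, 4, 4, 0, 1, 3, 3⟩⟩,
  ⟨0, false, ⟨2, 3, 4, 4, 3, 3, 3, 1, 3, 2, 0, 2, 0, 0, 1, 1⟩⟩,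
  ⟨7, false, ⟨0, 4, 4, 0, 1, 3, 0, 1, 0, 4, 2, 4, 0, 0, 1, 0⟩⟩,
  ⟨11, false, ⟨2, 3, 3, 2, 2, 1, 0, 1, 0, 0, 1, 3, 0, 0, 2, 2⟩⟩,
  ⟨5, true, ⟨2, 2, 1, 3, 0, 2, 2, 1, 1, 1, 1, 4, 0, 1, 3, 1⟩⟩,
  ⟨17, false, ⟨3, 1, 3, 0, 1, 3, 3, 4, 3, 4, 0, 0, 0, 1, 0, 0⟩⟩,
  ⟨7, false, ⟨3, 0, 3, 1, 1, 0, 1, 1, 1, 3, 4, 4, 0, 1, 2, 4⟩⟩,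
  ⟨45, false, ⟨0, 0, 4, 4, 3, 2, 2, 3, 0, 1, 0, 4, 0, 0, 2, 0⟩⟩,
  ⟨4, true, ⟨0, 0, 3, 3, 4, 1, 2, 2, 1, 2, 2, 3, 0, 0, 1, 2⟩⟩,
  ⟨5, true, ⟨1, 3, 1, 4, 2, 3, 1, 1, 2, 1, 1, 2, 0, 0, 1, 3⟩⟩,
  ⟨1, true, ⟨4, 4, 3, 1, 3, 3, 4, 4, 2, 3, 4, 1, 0, 2, 2, 1⟩⟩,
  ⟨7, true, ⟨4, 1, 1, 1, 4, 3, 0, 2, 0, 4, 4, 4, 0, 1, 0, 1⟩⟩,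
  ⟨9, true, ⟨2, 2, 2, 4, 2, 1, 0, 4, 3, 3, 0, 2, 0, 0, 1, 4⟩⟩,
  ⟨32, false, ⟨1, 0, 0, 3, 0, 3, 4, 0, 2, 0, 1, 1, 0, 2, 1, 2⟩⟩,
  ⟨0, false, ⟨1, 1, 3, 3, 4, 3, 0, 1, 4, 4, 4, 1, 0, 0, 1, 4⟩⟩,
  ⟨20, false, ⟨2, 4, 0, 2, 4, 1, 1, 0, 1, 0, 2, 3, 0, 1, 3, 4⟩⟩,
  ⟨14, true, ⟨3, 2, 1, 4, 1, 2, 4, 1, 0, 4, 4, 0, 1, 0, 3, 1⟩⟩,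
  ⟨23, true, ⟨1, 4, 1, 0, 4, 4, 4, 0, 0, 0, 3, 2, 0, 0, 2, 2⟩⟩,
  ⟨0, false, ⟨1, 4, 3, 0, 2, 2, 0, 4, 2, 1, 2, 0, 0, 1, 0, 0⟩⟩,
  ⟨16, false, ⟨4, 2, 3, 3, 2, 3, 0, 0, 1, 3, 3, 3, 0, 0, 1, 3⟩⟩,
  ⟨7, false, ⟨0, 1, 3, 4, 2, 2, 3, 4, 3, 1, 0, 4, 1, 0, 4, 3⟩⟩,
  ⟨16, false, ⟨4, 2, 4, 4, 4, 3, 0, 4, 0, 4, 1, 4, 0, 1, 3, 1⟩⟩,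
  ⟨1, true, ⟨4, 4, 2, 4, 4, 3, 0, 0, 0, 4, 1, 2, 0, 1, 3, 3⟩⟩,
  ⟨3, false, ⟨4, 3, 3, 0, 0, 0, 2, 4, 4, 3, 2, 0, 0, 1, 3, 1⟩⟩,
  ⟨3, true, ⟨0, 0, 2, 0, 0, 4, 2, 4, 2, 4, 1, 0, 0, 0, 2, 4⟩⟩,
  ⟨37, false, ⟨0, 3, 2, 4, 4, 0, 3, 1, 1, 1, 1, 4, 0, 2, 2, 1⟩⟩,
  ⟨0, false, ⟨0, 1, 2, 4, 1, 3, 4, 4, 0, 1, 4, 0, 0, 0, 1, 0⟩⟩,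
  ⟨8, true, ⟨4, 2, 3, 3, 0, 1, 2, 0, 3, 4, 0, 1, 0, 0, 2, 1⟩⟩,
  ⟨20, true, ⟨2, 1, 4, 0, 3, 3, 4, 4, 2, 2, 2, 0, 0, 1, 0, 0⟩⟩]

/-- Certificates. -/
def data1 : List (Cert (ZMod 5)) := [
  ⟨2, false, ⟨0, 3, 3, 0, 1, 1, 0, 1, 0, 4, 2, 2, 0, 0, 1, 0⟩⟩,
  ⟨4, true, ⟨3, 0, 3, 0, 0, 0, 0, 4, 2, 0, 4, 0, 0, 1, 0, 1⟩⟩,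
  ⟨1, true, ⟨3, 3, 1, 2, 1, 2, 1, 4, 0, 1, 3, 3, 0, 2, 2, 1⟩⟩,
  ⟨3, false, ⟨2, 4, 2, 4, 2, 2, 0, 3, 1, 2, 3, 0, 0, 0, 1, 2⟩⟩,
  ⟨3, true, ⟨3, 0, 4, 4, 1, 2, 4, 2, 3, 1, 4, 0, 0, 2, 1, 2⟩⟩,
  ⟨28, false, ⟨1, 3, 3, 0, 2, 2, 0, 2, 2, 4, 0, 4, 0, 1, 1, 3⟩⟩,
  ⟨8, true, ⟨3, 2, 1, 1, 4, 3, 1, 2, 4, 0, 2, 2, 0, 2, 1, 2⟩⟩,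
  ⟨33, false, ⟨4, 3, 0, 4, 1, 2, 4, 4, 3, 4, 4, 2, 1, 0, 4, 3⟩⟩,
  ⟨7, false, ⟨4, 0, 2, 3, 3, 1, 1, 2, 4, 0, 1, 1, 0, 0, 0, 1⟩⟩,
  ⟨4, true, ⟨1, 1, 0, 1, 4, 3, 1, 2, 2, 3, 1, 3, 0, 1, 0, 1⟩⟩,
  ⟨2, false, ⟨4, 1, 4, 2, 3, 1, 0, 4, 4, 4, 4, 4, 0, 1, 2, 4⟩⟩,
  ⟨23, true, ⟨2, 4, 3, 3, 1, 1, 4, 2, 0, 0, 2, 3, 0, 0, 2, 4⟩⟩,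
  ⟨17, false, ⟨3, 4, 3, 3, 1, 4, 3, 4, 2, 1, 0, 0, 0, 0, 2, 1⟩⟩,
  ⟨6, false, ⟨1, 2, 3, 3, 3, 0, 4, 0, 3, 1, 4, 2, 0, 0, 2, 4⟩⟩,
  ⟨0, false, ⟨0, 3, 2, 3, 4, 3, 0, 4, 3, 2, 0, 1, 0, 1, 3, 1⟩⟩,
  ⟨16, false, ⟨2, 1, 1, 2, 0, 0, 4, 2, 1, 3, 1, 1, 0, 2, 1, 2⟩⟩,
  ⟨3, true, ⟨1, 3, 3, 0, 2, 2, 3, 1, 1, 0, 4, 0, 1, 0, 4, 3⟩⟩,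
  ⟨8, false, ⟨2, 3, 1, 1, 3, 3, 1, 3, 2, 3, 0, 2, 0, 0, 1, 1⟩⟩,
  ⟨4, false, ⟨0, 1, 0, 1, 3, 4, 0, 4, 0, 0, 2, 1, 0, 0, 2, 0⟩⟩,
  ⟨2, false, ⟨1, 1, 4, 4, 3, 0, 0, 2, 3, 3, 2, 3, 0, 0, 2, 3⟩⟩,
  ⟨3, false, ⟨3, 0, 2, 1, 3, 4, 0, 1, 1, 4, 4, 3, 0, 1, 2, 4⟩⟩,
  ⟨8, false, ⟨2, 3, 4, 4, 0, 1, 0, 3, 2, 3, 2, 4, 0, 0, 1, 1⟩⟩,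
  ⟨34, false, ⟨3, 3, 0, 2, 2, 0, 4, 1, 3, 4, 3, 0, 0, 1, 1, 3⟩⟩,
  ⟨1, true, ⟨4, 0, 2, 2, 3, 1, 2, 1, 3, 3, 2, 3, 0, 1, 3, 3⟩⟩,
  ⟨5, true, ⟨1, 2, 0, 4, 1, 4, 0, 3, 1, 1, 2, 4, 1, 0, 4, 3⟩⟩,
  ⟨17, true, ⟨0, 0, 4, 0, 0, 1, 0, 0, 1, 2, 2, 0, 0, 1, 3, 1⟩⟩,
  ⟨0, false, ⟨1, 2, 3, 0, 2, 2, 2, 2, 3, 4, 4, 3, 0, 1, 3, 1⟩⟩,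
  ⟨7, true, ⟨1, 2, 0, 1, 4, 2, 2, 0, 0, 0, 3, 4, 0, 0, 2, 4⟩⟩,
  ⟨12, false, ⟨1, 2, 3, 4, 4, 1, 3, 4, 0, 1, 4, 3, 0, 1, 3, 3⟩⟩,
  ⟨3, false, ⟨0, 4, 4, 4, 0, 1, 0, 1, 1, 4, 2, 4, 1, 0, 3, 1⟩⟩,
  ⟨3, true, ⟨3, 0, 4, 0, 4, 0, 2, 4, 3, 2, 1, 2, 0, 1, 0, 1⟩⟩,
  ⟨32, false, ⟨1, 4, 0, 4, 0, 3, 1, 4, 2, 3, 1, 3, 0, 0, 2, 2⟩⟩,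
  ⟨22, false, ⟨4, 4, 4, 0, 2, 4, 3, 4, 4, 1, 3, 0, 0, 1, 0, 0⟩⟩,
  ⟨14, true, ⟨4, 1, 3, 0, 1, 1, 3, 1, 0, 4, 4, 0, 1, 0, 3, 1⟩⟩,
  ⟨2, false, ⟨3, 2, 4, 4, 1, 0, 2, 4, 2, 3, 1, 4, 0, 0, 1, 1⟩⟩,
  ⟨8, true, ⟨3, 2, 2, 4, 4, 4, 3, 0, 4, 1, 2, 1, 0, 0, 2, 2⟩⟩,
  ⟨32, false, ⟨4, 1, 3, 0, 2, 1, 2, 3, 2, 3, 2, 4, 0, 0, 2, 2⟩⟩,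
  ⟨34, true, ⟨1, 4, 2, 4, 0, 2, 4, 1, 0, 0, 1, 0, 0, 1, 0, 1⟩⟩,
  ⟨2, false, ⟨0, 0, 2, 2, 2, 3, 3, 3, 2, 0, 3, 0, 0, 0, 0, 2⟩⟩,
  ⟨2, true, ⟨3, 0, 1, 4, 3, 1, 4, 3, 2, 0, 1, 0, 0, 0, 0, 1⟩⟩,
  ⟨7, false, ⟨1, 2, 3, 0, 2, 1, 3, 4, 0, 1, 4, 1, 0, 2, 1, 2⟩⟩,
  ⟨10, false, ⟨1, 4, 1, 3, 3, 2, 2, 3, 1, 1, 4, 4, 0, 1, 1, 3⟩⟩,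
  ⟨6, true, ⟨0, 0, 1, 1, 1, 4, 3, 1, 0, 4, 2, 3, 0, 0, 1, 0⟩⟩,
  ⟨1, false, ⟨4, 4, 2, 0, 2, 1, 0, 1, 1, 1, 4, 3, 0, 0, 1, 4⟩⟩,
  ⟨15, true, ⟨0, 0, 1, 0, 0, 3, 3, 1, 4, 0, 2, 4, 0, 0, 0, 2⟩⟩,
  ⟨5, false, ⟨3, 2, 3, 1, 1, 0, 3, 2, 3, 2, 3, 4, 1, 0, 4, 3⟩⟩,
  ⟨16, true, ⟨2, 4, 0, 3, 3, 4, 3, 4, 2, 4, 4, 0, 0, 0, 1, 2⟩⟩,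
  ⟨0, false, ⟨1, 2, 3, 0, 0, 3, 4, 3, 1, 2, 4, 0, 0, 0, 1, 2⟩⟩,
  ⟨9, false, ⟨1, 3, 0, 4, 1, 4, 2, 3, 4, 2, 4, 0, 0, 0, 2, 1⟩⟩,
  ⟨20, true, ⟨2, 4, 1, 4, 2, 2, 1, 2, 1, 1, 0, 4, 0, 1, 1, 3⟩⟩,
  ⟨0, true, ⟨4, 4, 0, 4, 1, 3, 4, 4, 2, 4, 0, 3, 0, 2, 1, 1⟩⟩,
  ⟨6, true, ⟨4, 1, 4, 3, 0, 3, 3, 2, 3, 4, 4, 4, 1, 0, 4, 3⟩⟩,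
  ⟨12, true, ⟨3, 4, 3, 4, 1, 0, 4, 4, 4, 2, 4, 1, 0, 0, 1, 3⟩⟩,
  ⟨28, false, ⟨0, 2, 0, 4, 3, 2, 4, 4, 0, 0, 3, 3, 0, 0, 2, 0⟩⟩,
  ⟨18, true, ⟨2, 2, 0, 2, 1, 4, 2, 2, 0, 4, 0, 2, 0, 2, 1, 1⟩⟩,
  ⟨49, true, ⟨1, 4, 4, 3, 1, 3, 0, 2, 0, 3, 4, 4, 0, 2, 2, 1⟩⟩,
  ⟨19, true, ⟨2, 2, 4, 1, 3, 2, 2, 0, 4, 4, 2, 1, 0, 0, 1, 4⟩⟩,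
  ⟨4, true, ⟨3, 0, 4, 3, 2, 2, 3, 2, 4, 1, 0, 2, 0, 1, 1, 3⟩⟩,
  ⟨4, false, ⟨3, 4, 1, 0, 2, 4, 1, 1, 2, 3, 3, 1, 0, 2, 2, 1⟩⟩,
  ⟨3, false, ⟨0, 3, 4, 0, 3, 3, 1, 4, 1, 2, 3, 0, 0, 1, 0, 0⟩⟩,
  ⟨1, false, ⟨1, 1, 2, 1, 3, 2, 4, 4, 4, 4, 1, 2, 0, 0, 1, 4⟩⟩,
  ⟨40, false, ⟨1, 2, 0, 1, 2, 3, 4, 2, 3, 4, 0, 0, 0, 1, 3, 4⟩⟩,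
  ⟨12, true, ⟨2, 1, 1, 3, 0, 2, 3, 0, 1, 3, 1, 4, 0, 0, 1, 3⟩⟩,
  ⟨35, false, ⟨1, 4, 1, 3, 3, 1, 4, 3, 1, 0, 4, 2, 1, 0, 4, 3⟩⟩,
  ⟨5, false, ⟨2, 1, 4, 2, 0, 1, 2, 3, 4, 2, 1, 4, 0, 0, 2, 1⟩⟩,
  ⟨9, false, ⟨1, 2, 3, 0, 3, 4, 0, 2, 1, 4, 0, 2, 0, 1, 3, 1⟩⟩,
  ⟨44, true, ⟨1, 3, 4, 0, 1, 1, 1, 1, 4, 0, 0, 4, 0, 2, 2, 1⟩⟩,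
  ⟨10, true, ⟨4, 4, 3, 4, 3, 0, 3, 3, 4, 2, 1, 3, 0, 1, 3, 3⟩⟩,
  ⟨1, false, ⟨4, 4, 2, 0, 2, 1, 1, 0, 1, 1, 4, 3, 0, 0, 1, 4⟩⟩,
  ⟨6, true, ⟨2, 0, 4, 3, 4, 3, 0, 2, 0, 0, 3, 1, 0, 0, 0, 2⟩⟩,
  ⟨26, false, ⟨3, 1, 4, 1, 2, 3, 2, 0, 0, 1, 3, 3, 0, 1, 1, 3⟩⟩,
  ⟨7, false, ⟨0, 3, 2, 4, 4, 0, 1, 1, 1, 0, 4, 1, 0, 2, 2, 1⟩⟩,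
  ⟨20, false, ⟨2, 4, 4, 4, 2, 0, 1, 4, 2, 2, 0, 3, 0, 2, 2, 1⟩⟩,
  ⟨10, false, ⟨1, 1, 2, 1, 3, 0, 3, 3, 1, 3, 4, 2, 0, 1, 3, 3⟩⟩,
  ⟨8, true, ⟨2, 1, 0, 2, 0, 2, 4, 1, 4, 2, 3, 4, 0, 0, 1, 3⟩⟩,
  ⟨5, false, ⟨2, 3, 0, 2, 3, 3, 0, 2, 3, 2, 4, 4, 0, 0, 1, 1⟩⟩,
  ⟨19, true, ⟨3, 3, 2, 3, 2, 4, 0, 2, 1, 1, 3, 4, 0, 0, 2, 3⟩⟩,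
  ⟨9, false, ⟨2, 3, 3, 0, 3, 0, 1, 4, 4, 2, 4, 0, 0, 1, 0, 0⟩⟩,
  ⟨19, false, ⟨2, 2, 1, 4, 2, 4, 0, 4, 4, 4, 3, 0, 0, 0, 2, 3⟩⟩,
  ⟨3, false, ⟨2, 3, 4, 3, 0, 3, 2, 0, 2, 3, 2, 3, 0, 0, 2, 2⟩⟩,
  ⟨3, true, ⟨0, 0, 2, 4, 1, 2, 3, 2, 3, 2, 0, 4, 0, 0, 2, 2⟩⟩,
  ⟨33, false, ⟨0, 2, 3, 3, 4, 1, 2, 0, 2, 0, 2, 1, 0, 1, 3, 4⟩⟩,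
  ⟨18, false, ⟨1, 3, 1, 0, 0, 0, 3, 4, 0, 0, 1, 0, 0, 1, 0, 0⟩⟩,
  ⟨8, false, ⟨4, 2, 0, 0, 1, 0, 4, 2, 4, 2, 0, 3, 0, 0, 1, 3⟩⟩,
  ⟨26, false, ⟨4, 2, 1, 0, 2, 1, 1, 4, 2, 3, 4, 1, 0, 1, 1, 3⟩⟩,
  ⟨1, false, ⟨1, 1, 2, 1, 3, 2, 3, 0, 4, 4, 1, 2, 0, 0, 1, 4⟩⟩,
  ⟨32, false, ⟨4, 1, 3, 0, 1, 2, 3, 1, 2, 3, 0, 2, 0, 0, 2, 2⟩⟩,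
  ⟨12, false, ⟨3, 2, 0, 1, 4, 1, 2, 0, 4, 0, 4, 2, 0, 2, 1, 2⟩⟩,
  ⟨26, false, ⟨4, 2, 3, 3, 2, 3, 4, 2, 3, 3, 2, 3, 0, 2, 1, 1⟩⟩,
  ⟨3, false, ⟨2, 2, 0, 3, 3, 2, 2, 1, 4, 1, 0, 2, 0, 2, 2, 1⟩⟩]

/-- Certificates. -/
def data2 : List (Cert (ZMod 5)) := [
  ⟨3, true, ⟨0, 1, 4, 3, 3, 3, 2, 1, 3, 2, 2, 4, 0, 1, 1, 3⟩⟩,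
  ⟨7, false, ⟨1, 4, 3, 4, 1, 2, 0, 4, 0, 0, 4, 3, 0, 0, 2, 2⟩⟩,
  ⟨0, false, ⟨0, 2, 2, 1, 4, 2, 2, 0, 4, 0, 1, 2, 0, 2, 1, 1⟩⟩,
  ⟨1, false, ⟨4, 4, 2, 0, 2, 1, 2, 4, 1, 1, 4, 3, 0, 0, 1, 4⟩⟩,
  ⟨5, false, ⟨0, 3, 3, 3, 4, 1, 4, 0, 3, 1, 4, 1, 0, 1, 0, 1⟩⟩,
  ⟨0, true, ⟨0, 0, 2, 0, 0, 3, 3, 0, 2, 4, 4, 2, 0, 0, 1, 2⟩⟩,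
  ⟨12, false, ⟨2, 1, 1, 2, 0, 2, 0, 4, 2, 1, 4, 2, 0, 2, 1, 2⟩⟩,
  ⟨27, false, ⟨2, 3, 1, 4, 2, 1, 4, 1, 4, 1, 3, 1, 0, 0, 2, 2⟩⟩,
  ⟨6, true, ⟨3, 2, 4, 0, 1, 2, 4, 1, 0, 0, 3, 1, 0, 0, 2, 2⟩⟩,
  ⟨10, true, ⟨4, 1, 4, 2, 3, 2, 2, 3, 4, 4, 1, 1, 0, 1, 1, 3⟩⟩,
  ⟨17, true, ⟨0, 0, 1, 3, 2, 1, 4, 1, 3, 2, 2, 0, 0, 0, 2, 2⟩⟩,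
  ⟨8, true, ⟨2, 3, 1, 2, 0, 3, 3, 0, 4, 1, 0, 4, 0, 0, 2, 2⟩⟩,
  ⟨9, false, ⟨0, 0, 3, 2, 1, 1, 1, 4, 0, 2, 3, 0, 0, 0, 1, 0⟩⟩,
  ⟨17, true, ⟨0, 4, 2, 0, 3, 4, 1, 4, 2, 3, 3, 0, 0, 1, 0, 0⟩⟩,
  ⟨10, false, ⟨1, 1, 4, 0, 4, 0, 1, 0, 4, 4, 1, 1, 1, 0, 3, 1⟩⟩,
  ⟨5, false, ⟨0, 3, 3, 3, 1, 0, 1, 1, 0, 0, 0, 2, 0, 0, 1, 0⟩⟩,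
  ⟨17, true, ⟨4, 2, 4, 3, 3, 1, 1, 3, 4, 2, 1, 2, 0, 0, 1, 3⟩⟩,
  ⟨0, true, ⟨4, 4, 0, 3, 1, 3, 4, 2, 2, 2, 1, 2, 0, 0, 2, 3⟩⟩,
  ⟨16, false, ⟨2, 4, 0, 4, 1, 2, 4, 0, 2, 0, 1, 1, 1, 0, 3, 1⟩⟩,
  ⟨0, false, ⟨0, 0, 0, 3, 3, 0, 3, 2, 3, 3, 0, 2, 0, 0, 2, 3⟩⟩,
  ⟨1, false, ⟨1, 1, 2, 1, 3, 2, 2, 1, 4, 4, 1, 2, 0, 0, 1, 4⟩⟩,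
  ⟨6, true, ⟨2, 1, 1, 0, 1, 1, 0, 1, 2, 0, 3, 2, 0, 2, 2, 1⟩⟩,
  ⟨17, true, ⟨3, 0, 0, 3, 3, 4, 4, 4, 0, 4, 1, 2, 0, 1, 1, 3⟩⟩,
  ⟨16, true, ⟨2, 3, 2, 1, 2, 1, 4, 4, 4, 1, 0, 0, 0, 0, 2, 2⟩⟩,
  ⟨4, true, ⟨4, 0, 4, 1, 2, 3, 4, 1, 1, 0, 0, 3, 0, 0, 0, 2⟩⟩,
  ⟨4, false, ⟨2, 2, 4, 4, 1, 4, 2, 3, 3, 0, 0, 4, 0, 1, 3, 4⟩⟩,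
  ⟨30, false, ⟨3, 1, 1, 1, 3, 1, 2, 3, 4, 1, 3, 2, 0, 2, 2, 1⟩⟩,
  ⟨8, false, ⟨2, 4, 3, 0, 0, 2, 2, 4, 3, 1, 0, 0, 0, 1, 0, 0⟩⟩,
  ⟨1, false, ⟨4, 4, 2, 0, 2, 1, 3, 3, 1, 1, 4, 3, 0, 0, 1, 4⟩⟩,
  ⟨9, false, ⟨1, 1, 1, 2, 1, 0, 2, 4, 3, 3, 3, 2, 0, 0, 1, 4⟩⟩,
  ⟨17, true, ⟨2, 3, 1, 3, 3, 4, 3, 3, 3, 3, 2, 3, 0, 1, 0, 1⟩⟩,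
  ⟨41, false, ⟨4, 0, 4, 4, 2, 3, 0, 1, 4, 0, 3, 3, 0, 0, 0, 2⟩⟩,
  ⟨8, false, ⟨4, 1, 1, 0, 2, 4, 3, 0, 1, 3, 0, 2, 0, 2, 1, 1⟩⟩,
  ⟨2, false, ⟨2, 4, 0, 0, 4, 2, 4, 3, 3, 1, 4, 2, 0, 0, 2, 4⟩⟩,
  ⟨2, true, ⟨1, 0, 2, 3, 0, 1, 3, 0, 2, 0, 0, 1, 0, 1, 3, 1⟩⟩,
  ⟨6, true, ⟨0, 0, 3, 4, 2, 1, 3, 2, 2, 2, 4, 2, 0, 0, 1, 4⟩⟩,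
  ⟨17, true, ⟨4, 0, 2, 1, 0, 3, 2, 3, 3, 2, 1, 4, 1, 0, 3, 1⟩⟩,
  ⟨20, true, ⟨4, 2, 0, 1, 1, 0, 2, 1, 2, 2, 1, 2, 0, 1, 2, 4⟩⟩,
  ⟨11, false, ⟨1, 4, 2, 4, 4, 2, 0, 4, 4, 1, 0, 2, 0, 0, 1, 1⟩⟩,
  ⟨11, true, ⟨3, 2, 0, 0, 3, 3, 1, 1, 1, 4, 1, 4, 0, 0, 1, 1⟩⟩,
  ⟨10, true, ⟨0, 2, 3, 3, 4, 3, 3, 3, 2, 1, 1, 0, 0, 1, 3, 4⟩⟩,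
  ⟨9, false, ⟨0, 3, 4, 4, 3, 0, 4, 4, 0, 2, 1, 3, 0, 0, 2, 0⟩⟩,
  ⟨11, true, ⟨1, 1, 1, 2, 1, 3, 3, 4, 3, 2, 1, 2, 0, 1, 3, 4⟩⟩,
  ⟨43, false, ⟨3, 1, 0, 3, 1, 1, 4, 1, 4, 1, 1, 1, 0, 1, 3, 4⟩⟩,
  ⟨10, false, ⟨0, 0, 3, 4, 1, 3, 3, 1, 2, 2, 1, 4, 0, 0, 2, 3⟩⟩,
  ⟨1, false, ⟨1, 1, 2, 1, 3, 2, 1, 2, 4, 4, 1, 2, 0, 0, 1, 4⟩⟩,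
  ⟨37, true, ⟨0, 3, 3, 3, 3, 2, 4, 0, 1, 3, 4, 1, 0, 1, 3, 1⟩⟩,
  ⟨31, true, ⟨2, 1, 1, 3, 1, 3, 2, 1, 2, 0, 3, 2, 1, 0, 4, 3⟩⟩,
  ⟨2, false, ⟨4, 0, 3, 3, 1, 3, 3, 2, 4, 0, 2, 0, 0, 0, 0, 2⟩⟩,
  ⟨2, true, ⟨0, 0, 4, 2, 2, 1, 3, 0, 1, 0, 4, 0, 0, 0, 0, 1⟩⟩,
  ⟨5, false, ⟨1, 2, 2, 0, 1, 1, 1, 3, 2, 4, 3, 1, 0, 0, 2, 4⟩⟩,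
  ⟨12, false, ⟨3, 2, 3, 1, 2, 3, 4, 1, 3, 4, 1, 3, 0, 2, 1, 2⟩⟩,
  ⟨36, true, ⟨1, 3, 1, 0, 0, 3, 3, 4, 2, 1, 3, 0, 0, 1, 0, 0⟩⟩,
  ⟨1, false, ⟨4, 4, 2, 0, 2, 1, 4, 2, 1, 1, 4, 3, 0, 0, 1, 4⟩⟩,
  ⟨4, true, ⟨1, 0, 4, 3, 1, 3, 3, 4, 1, 4, 2, 4, 0, 1, 3, 4⟩⟩,
  ⟨4, false, ⟨3, 0, 2, 2, 1, 3, 1, 3, 2, 0, 0, 4, 0, 0, 0, 2⟩⟩,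
  ⟨22, true, ⟨0, 4, 2, 2, 1, 0, 1, 3, 0, 2, 1, 0, 0, 0, 1, 0⟩⟩,
  ⟨35, true, ⟨1, 2, 1, 0, 0, 1, 0, 0, 0, 0, 1, 0, 0, 1, 3, 1⟩⟩,
  ⟨2, false, ⟨3, 1, 4, 0, 2, 1, 3, 4, 4, 0, 0, 2, 0, 2, 1, 2⟩⟩,
  ⟨2, true, ⟨4, 3, 3, 1, 0, 3, 3, 2, 4, 3, 2, 1, 0, 0, 1, 2⟩⟩,
  ⟨3, true, ⟨1, 0, 1, 0, 0, 2, 0, 4, 3, 0, 4, 0, 0, 1, 0, 0⟩⟩,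
  ⟨33, true, ⟨4, 2, 2, 3, 4, 4, 0, 0, 4, 2, 0, 0, 0, 0, 1, 3⟩⟩,
  ⟨0, true, ⟨2, 4, 0, 4, 3, 0, 1, 2, 2, 4, 0, 3, 1, 0, 4, 3⟩⟩,
  ⟨4, false, ⟨2, 3, 1, 4, 4, 2, 0, 4, 3, 2, 0, 4, 0, 0, 1, 1⟩⟩,
  ⟨0, false, ⟨0, 0, 0, 3, 1, 0, 2, 4, 4, 3, 0, 1, 1, 0, 3, 1⟩⟩,
  ⟨12, false, ⟨2, 1, 4, 2, 3, 1, 1, 2, 1, 0, 1, 3, 0, 2, 1, 2⟩⟩,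
  ⟨7, false, ⟨0, 2, 1, 1, 1, 0, 3, 3, 0, 2, 1, 4, 0, 0, 1, 0⟩⟩,
  ⟨28, false, ⟨3, 0, 3, 3, 2, 3, 0, 0, 0, 0, 2, 2, 0, 0, 0, 2⟩⟩,
  ⟨18, true, ⟨3, 3, 2, 1, 1, 4, 4, 3, 0, 3, 1, 2, 0, 1, 3, 4⟩⟩,
  ⟨8, false, ⟨4, 3, 3, 0, 1, 1, 1, 3, 2, 0, 1, 1, 0, 1, 3, 1⟩⟩,
  ⟨1, false, ⟨1, 1, 2, 1, 3, 2, 0, 3, 4, 4, 1, 2, 0, 0, 1, 4⟩⟩,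
  ⟨2, false, ⟨3, 0, 4, 1, 4, 4, 0, 3, 3, 3, 2, 4, 1, 0, 3, 1⟩⟩,
  ⟨5, true, ⟨4, 3, 0, 2, 0, 3, 4, 0, 1, 2, 4, 3, 0, 0, 1, 2⟩⟩,
  ⟨33, false, ⟨2, 3, 0, 4, 0, 3, 3, 2, 1, 4, 3, 2, 0, 0, 2, 2⟩⟩,
  ⟨4, true, ⟨2, 0, 4, 4, 4, 3, 4, 3, 1, 0, 0, 3, 0, 0, 0, 2⟩⟩,
  ⟨4, false, ⟨1, 4, 0, 4, 2, 2, 1, 3, 3, 0, 0, 4, 0, 1, 3, 4⟩⟩,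
  ⟨10, true, ⟨3, 2, 4, 4, 4, 0, 3, 1, 3, 1, 0, 1, 0, 2, 2, 1⟩⟩,
  ⟨15, false, ⟨0, 1, 3, 1, 2, 0, 2, 1, 0, 4, 2, 0, 1, 0, 4, 3⟩⟩,
  ⟨34, false, ⟨4, 1, 3, 4, 1, 0, 3, 1, 0, 0, 0, 1, 0, 0, 1, 1⟩⟩,
  ⟨17, false, ⟨1, 0, 4, 2, 4, 3, 2, 4, 2, 1, 1, 3, 0, 1, 2, 4⟩⟩,
  ⟨43, false, ⟨3, 1, 2, 1, 2, 3, 3, 3, 0, 2, 4, 1, 0, 2, 2, 1⟩⟩,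
  ⟨1, true, ⟨1, 1, 3, 0, 2, 4, 1, 0, 4, 4, 4, 4, 0, 0, 2, 3⟩⟩,
  ⟨11, false, ⟨4, 3, 0, 4, 2, 2, 1, 3, 4, 0, 0, 2, 0, 1, 3, 4⟩⟩,
  ⟨11, true, ⟨3, 0, 3, 0, 4, 3, 4, 3, 3, 0, 0, 4, 0, 0, 0, 2⟩⟩,
  ⟨16, false, ⟨2, 4, 1, 2, 4, 2, 4, 0, 0, 0, 4, 2, 0, 0, 2, 4⟩⟩,
  ⟨35, false, ⟨4, 2, 3, 1, 1, 4, 3, 0, 3, 4, 2, 3, 0, 0, 2, 1⟩⟩,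
  ⟨17, false, ⟨1, 1, 3, 2, 0, 3, 0, 1, 4, 4, 3, 3, 0, 1, 3, 4⟩⟩,
  ⟨8, true, ⟨2, 3, 1, 2, 2, 1, 4, 2, 4, 1, 3, 2, 0, 0, 2, 2⟩⟩,
  ⟨6, false, ⟨3, 0, 4, 2, 2, 3, 3, 4, 2, 0, 3, 0, 0, 0, 0, 2⟩⟩,
  ⟨6, true, ⟨1, 0, 0, 4, 3, 1, 4, 1, 2, 0, 1, 0, 0, 0, 0, 1⟩⟩]

/-- Certificates. -/
def data3 : List (Cert (ZMod 5)) := [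
  ⟨1, true, ⟨4, 4, 0, 2, 1, 3, 0, 4, 1, 1, 1, 1, 0, 0, 2, 3⟩⟩,
  ⟨4, true, ⟨0, 0, 1, 0, 0, 2, 1, 0, 4, 1, 0, 2, 0, 1, 1, 3⟩⟩,
  ⟨4, false, ⟨4, 2, 4, 0, 1, 1, 3, 1, 2, 3, 3, 1, 0, 2, 2, 1⟩⟩,
  ⟨2, false, ⟨1, 1, 2, 2, 3, 0, 2, 4, 4, 4, 3, 4, 0, 0, 2, 3⟩⟩,
  ⟨36, false, ⟨2, 2, 3, 1, 4, 1, 3, 1, 1, 1, 3, 2, 0, 0, 2, 3⟩⟩,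
  ⟨22, false, ⟨1, 4, 4, 4, 1, 2, 3, 1, 3, 1, 3, 1, 0, 1, 0, 1⟩⟩,
  ⟨8, true, ⟨3, 3, 2, 1, 1, 1, 3, 3, 4, 1, 3, 2, 1, 0, 3, 1⟩⟩,
  ⟨9, false, ⟨3, 1, 3, 2, 1, 1, 0, 0, 0, 3, 1, 4, 0, 1, 3, 3⟩⟩,
  ⟨10, false, ⟨0, 0, 2, 0, 0, 0, 2, 4, 2, 4, 0, 2, 0, 1, 3, 4⟩⟩,
  ⟨41, false, ⟨1, 0, 0, 3, 4, 1, 3, 4, 2, 0, 1, 2, 0, 0, 0, 1⟩⟩,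
  ⟨12, false, ⟨0, 3, 2, 4, 2, 0, 0, 3, 3, 3, 2, 3, 0, 2, 1, 1⟩⟩,
  ⟨24, true, ⟨4, 1, 3, 1, 4, 4, 4, 0, 1, 4, 4, 2, 0, 0, 2, 2⟩⟩,
  ⟨12, false, ⟨1, 4, 4, 0, 2, 1, 4, 1, 0, 1, 4, 3, 0, 2, 1, 1⟩⟩,
  ⟨5, true, ⟨0, 4, 4, 1, 1, 1, 1, 0, 4, 1, 2, 2, 0, 1, 2, 4⟩⟩,
  ⟨22, true, ⟨0, 1, 0, 4, 3, 3, 2, 2, 3, 0, 1, 1, 0, 1, 2, 4⟩⟩,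
  ⟨16, true, ⟨0, 2, 4, 4, 1, 1, 2, 4, 0, 2, 1, 2, 0, 0, 1, 0⟩⟩,
  ⟨1, true, ⟨1, 1, 3, 0, 2, 4, 2, 4, 4, 4, 4, 4, 0, 0, 2, 3⟩⟩,
  ⟨5, true, ⟨3, 2, 2, 3, 2, 1, 4, 0, 1, 4, 3, 3, 0, 0, 2, 2⟩⟩,
  ⟨7, true, ⟨0, 3, 1, 3, 3, 1, 3, 2, 2, 0, 0, 1, 0, 2, 1, 2⟩⟩,
  ⟨12, false, ⟨2, 1, 4, 0, 2, 0, 1, 1, 0, 4, 2, 2, 0, 1, 1, 3⟩⟩,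
  ⟨24, true, ⟨1, 1, 3, 4, 3, 4, 1, 4, 2, 4, 4, 4, 0, 1, 1, 3⟩⟩,
  ⟨10, true, ⟨0, 0, 3, 0, 0, 0, 2, 4, 3, 1, 0, 3, 0, 1, 3, 4⟩⟩,
  ⟨15, false, ⟨1, 0, 1, 4, 3, 3, 0, 2, 1, 0, 2, 3, 0, 0, 0, 2⟩⟩,
  ⟨31, true, ⟨3, 1, 2, 0, 4, 1, 0, 3, 1, 2, 3, 4, 0, 0, 1, 2⟩⟩,
  ⟨35, false, ⟨1, 1, 3, 1, 1, 0, 2, 1, 0, 0, 0, 1, 0, 0, 1, 4⟩⟩,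
  ⟨1, true, ⟨4, 4, 0, 2, 1, 3, 4, 0, 1, 1, 1, 1, 0, 0, 2, 3⟩⟩,
  ⟨66, false, ⟨0, 1, 1, 2, 3, 1, 4, 0, 4, 0, 2, 0, 1, 0, 3, 1⟩⟩,
  ⟨29, true, ⟨3, 0, 2, 2, 2, 3, 0, 4, 1, 0, 1, 1, 0, 0, 0, 2⟩⟩,
  ⟨2, false, ⟨1, 4, 2, 0, 2, 4, 2, 3, 0, 0, 4, 3, 0, 0, 1, 1⟩⟩,
  ⟨11, false, ⟨1, 0, 4, 2, 0, 3, 1, 2, 1, 0, 0, 2, 0, 0, 0, 2⟩⟩,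
  ⟨8, true, ⟨2, 0, 0, 1, 4, 2, 1, 0, 4, 1, 1, 0, 0, 2, 1, 1⟩⟩,
  ⟨3, true, ⟨1, 4, 2, 3, 0, 4, 3, 1, 3, 2, 2, 4, 0, 1, 1, 3⟩⟩,
  ⟨6, false, ⟨4, 3, 1, 3, 4, 2, 0, 0, 3, 1, 4, 2, 0, 0, 2, 4⟩⟩,
  ⟨6, true, ⟨4, 0, 2, 2, 0, 4, 2, 3, 2, 0, 0, 1, 0, 1, 3, 1⟩⟩,
  ⟨10, true, ⟨4, 1, 3, 3, 3, 4, 2, 3, 2, 4, 0, 4, 1, 0, 3, 1⟩⟩,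
  ⟨3, false, ⟨0, 2, 3, 1, 4, 2, 3, 2, 4, 1, 0, 2, 0, 2, 2, 1⟩⟩,
  ⟨20, true, ⟨4, 1, 2, 1, 0, 1, 4, 0, 4, 1, 1, 1, 0, 0, 1, 1⟩⟩,
  ⟨27, false, ⟨3, 2, 4, 1, 2, 1, 0, 2, 1, 4, 2, 4, 0, 0, 2, 2⟩⟩,
  ⟨24, true, ⟨1, 4, 4, 3, 3, 0, 1, 4, 1, 4, 4, 2, 0, 0, 2, 2⟩⟩,
  ⟨8, true, ⟨0, 3, 1, 2, 3, 1, 0, 0, 0, 3, 2, 4, 0, 0, 2, 0⟩⟩,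
  ⟨43, false, ⟨4, 2, 2, 3, 2, 1, 4, 3, 0, 2, 0, 1, 0, 1, 3, 3⟩⟩,
  ⟨1, true, ⟨1, 1, 3, 0, 2, 4, 3, 3, 4, 4, 4, 4, 0, 0, 2, 3⟩⟩,
  ⟨2, false, ⟨0, 2, 2, 2, 4, 0, 2, 4, 4, 2, 4, 4, 0, 2, 1, 2⟩⟩,
  ⟨28, false, ⟨0, 0, 2, 3, 4, 4, 2, 1, 4, 2, 2, 3, 0, 0, 1, 3⟩⟩,
  ⟨10, false, ⟨2, 3, 1, 1, 4, 0, 3, 1, 2, 4, 0, 4, 0, 2, 2, 1⟩⟩,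
  ⟨8, true, ⟨2, 3, 2, 4, 0, 2, 0, 1, 4, 1, 2, 3, 0, 1, 3, 1⟩⟩,
  ⟨4, false, ⟨1, 4, 3, 3, 0, 1, 3, 0, 3, 2, 0, 4, 0, 0, 1, 1⟩⟩,
  ⟨7, false, ⟨3, 0, 3, 1, 1, 1, 3, 3, 1, 0, 3, 0, 0, 0, 0, 1⟩⟩,
  ⟨5, true, ⟨0, 3, 1, 2, 3, 1, 2, 0, 0, 4, 4, 3, 0, 0, 2, 0⟩⟩,
  ⟨3, false, ⟨1, 4, 1, 2, 3, 0, 1, 3, 2, 3, 2, 3, 0, 0, 2, 2⟩⟩,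
  ⟨1, true, ⟨4, 4, 0, 2, 1, 3, 3, 1, 1, 1, 1, 1, 0, 0, 2, 3⟩⟩,
  ⟨36, true, ⟨3, 3, 4, 2, 3, 0, 0, 4, 4, 4, 2, 3, 0, 0, 2, 3⟩⟩,
  ⟨5, true, ⟨3, 1, 0, 2, 1, 1, 4, 0, 4, 3, 3, 3, 0, 0, 2, 4⟩⟩,
  ⟨17, false, ⟨0, 0, 3, 0, 0, 1, 3, 0, 3, 4, 2, 4, 0, 0, 2, 1⟩⟩,
  ⟨43, true, ⟨1, 4, 1, 0, 2, 4, 1, 4, 0, 3, 1, 0, 0, 1, 0, 0⟩⟩,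
  ⟨15, true, ⟨2, 1, 4, 4, 4, 3, 3, 2, 3, 4, 0, 4, 0, 0, 2, 1⟩⟩,
  ⟨20, false, ⟨4, 2, 1, 3, 0, 1, 0, 4, 2, 1, 2, 4, 0, 0, 2, 1⟩⟩,
  ⟨15, false, ⟨4, 0, 2, 2, 0, 2, 1, 4, 1, 0, 2, 3, 0, 2, 1, 2⟩⟩,
  ⟨5, true, ⟨3, 4, 2, 2, 1, 0, 3, 2, 2, 1, 3, 2, 0, 0, 1, 3⟩⟩,
  ⟨6, false, ⟨4, 1, 4, 3, 2, 2, 1, 0, 4, 0, 0, 2, 0, 2, 1, 2⟩⟩,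
  ⟨6, true, ⟨0, 0, 1, 0, 0, 3, 1, 3, 4, 3, 2, 1, 0, 0, 1, 2⟩⟩,
  ⟨0, false, ⟨2, 3, 3, 0, 1, 3, 3, 4, 4, 0, 1, 2, 0, 2, 1, 1⟩⟩,
  ⟨5, true, ⟨3, 1, 0, 1, 1, 0, 2, 4, 0, 0, 0, 1, 1, 0, 3, 1⟩⟩,
  ⟨28, true, ⟨1, 4, 2, 0, 4, 4, 1, 3, 2, 3, 2, 2, 0, 0, 2, 2⟩⟩,
  ⟨0, true, ⟨1, 2, 2, 2, 1, 0, 3, 2, 2, 4, 4, 2, 0, 0, 1, 2⟩⟩,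
  ⟨4, true, ⟨4, 4, 1, 3, 3, 4, 1, 4, 1, 4, 2, 4, 0, 1, 3, 4⟩⟩,
  ⟨0, false, ⟨4, 3, 3, 1, 3, 4, 4, 4, 1, 2, 4, 0, 0, 0, 1, 2⟩⟩,
  ⟨2, false, ⟨3, 0, 1, 3, 0, 4, 4, 1, 1, 0, 4, 1, 0, 1, 1, 3⟩⟩,
  ⟨16, false, ⟨4, 3, 2, 1, 1, 1, 4, 4, 4, 3, 3, 0, 0, 0, 2, 4⟩⟩,
  ⟨0, true, ⟨0, 2, 3, 1, 2, 1, 2, 1, 2, 4, 0, 3, 0, 2, 1, 1⟩⟩,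
  ⟨10, true, ⟨3, 2, 4, 0, 4, 2, 2, 0, 3, 1, 3, 2, 0, 2, 1, 1⟩⟩,
  ⟨51, false, ⟨0, 2, 2, 3, 3, 4, 3, 4, 0, 4, 0, 4, 0, 0, 2, 0⟩⟩,
  ⟨16, true, ⟨3, 1, 2, 1, 2, 3, 1, 4, 4, 3, 0, 2, 0, 0, 2, 4⟩⟩,
  ⟨8, true, ⟨2, 3, 1, 2, 4, 4, 0, 4, 4, 1, 1, 0, 0, 0, 2, 2⟩⟩,
  ⟨19, false, ⟨2, 2, 1, 4, 2, 4, 1, 3, 4, 4, 3, 0, 0, 0, 2, 3⟩⟩,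
  ⟨1, true, ⟨4, 4, 0, 2, 1, 3, 2, 2, 1, 1, 1, 1, 0, 0, 2, 3⟩⟩,
  ⟨25, false, ⟨4, 4, 4, 1, 3, 3, 1, 4, 0, 1, 2, 1, 0, 2, 1, 2⟩⟩,
  ⟨3, false, ⟨2, 1, 0, 0, 2, 4, 3, 4, 1, 2, 3, 0, 0, 1, 0, 0⟩⟩,
  ⟨3, true, ⟨1, 0, 3, 3, 3, 1, 2, 0, 3, 0, 0, 1, 0, 0, 0, 1⟩⟩,
  ⟨8, true, ⟨1, 4, 2, 3, 3, 4, 2, 4, 0, 2, 3, 1, 0, 1, 1, 3⟩⟩,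
  ⟨15, true, ⟨4, 3, 3, 1, 0, 4, 0, 3, 0, 0, 4, 0, 0, 0, 2, 4⟩⟩,
  ⟨2, false, ⟨1, 3, 1, 2, 2, 4, 4, 2, 2, 0, 1, 4, 1, 0, 3, 1⟩⟩,
  ⟨8, true, ⟨3, 3, 1, 0, 1, 0, 3, 4, 1, 4, 4, 0, 0, 1, 0, 0⟩⟩,
  ⟨19, false, ⟨2, 2, 4, 1, 1, 0, 2, 0, 4, 4, 3, 0, 0, 0, 1, 4⟩⟩,
  ⟨27, false, ⟨3, 2, 4, 1, 4, 2, 2, 1, 1, 4, 2, 4, 0, 0, 1, 1⟩⟩,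
  ⟨16, false, ⟨1, 1, 1, 4, 1, 3, 4, 4, 0, 0, 4, 2, 0, 0, 2, 3⟩⟩,
  ⟨22, false, ⟨0, 1, 1, 4, 3, 3, 1, 0, 0, 4, 3, 2, 0, 0, 2, 0⟩⟩,
  ⟨24, true, ⟨0, 0, 1, 2, 1, 2, 0, 2, 1, 4, 4, 2, 0, 0, 2, 2⟩⟩,
  ⟨8, true, ⟨1, 1, 0, 1, 0, 0, 1, 4, 4, 4, 1, 4, 0, 1, 0, 1⟩⟩,
  ⟨2, false, ⟨3, 4, 4, 1, 1, 0, 1, 4, 4, 2, 2, 2, 0, 0, 1, 3⟩⟩]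

/-- Certificates. -/
def data4 : List (Cert (ZMod 5)) := [
  ⟨10, false, ⟨2, 3, 1, 0, 4, 2, 2, 0, 2, 4, 2, 3, 0, 2, 1, 1⟩⟩,
  ⟨1, true, ⟨1, 1, 3, 0, 2, 4, 0, 1, 4, 4, 4, 4, 0, 0, 2, 3⟩⟩,
  ⟨22, true, ⟨4, 4, 4, 4, 0, 3, 2, 1, 0, 0, 4, 0, 0, 1, 2, 4⟩⟩,
  ⟨5, true, ⟨1, 1, 2, 3, 3, 0, 3, 3, 0, 0, 0, 1, 0, 0, 2, 3⟩⟩,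
  ⟨7, true, ⟨2, 4, 0, 4, 1, 1, 0, 1, 4, 3, 2, 1, 0, 0, 2, 4⟩⟩,
  ⟨15, true, ⟨0, 0, 0, 2, 1, 0, 4, 1, 2, 2, 0, 1, 0, 0, 1, 4⟩⟩,
  ⟨0, true, ⟨1, 1, 2, 2, 2, 2, 3, 0, 2, 4, 0, 3, 1, 0, 4, 3⟩⟩,
  ⟨5, true, ⟨0, 4, 0, 2, 3, 0, 3, 0, 0, 0, 0, 4, 0, 0, 2, 0⟩⟩,
  ⟨0, false, ⟨0, 4, 4, 4, 1, 4, 1, 0, 4, 3, 0, 1, 1, 0, 3, 1⟩⟩,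
  ⟨11, true, ⟨0, 0, 1, 2, 2, 4, 3, 0, 1, 4, 1, 4, 0, 0, 1, 1⟩⟩,
  ⟨1, true, ⟨4, 4, 0, 2, 1, 3, 1, 3, 1, 1, 1, 1, 0, 0, 2, 3⟩⟩,
  ⟨0, true, ⟨0, 0, 4, 3, 2, 4, 3, 2, 2, 2, 1, 2, 0, 0, 2, 3⟩⟩,
  ⟨20, true, ⟨4, 0, 0, 1, 0, 1, 4, 4, 0, 0, 4, 0, 0, 0, 0, 1⟩⟩,
  ⟨0, false, ⟨4, 4, 1, 3, 2, 4, 4, 2, 3, 3, 0, 2, 0, 0, 2, 3⟩⟩,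
  ⟨10, true, ⟨0, 0, 3, 4, 2, 1, 0, 3, 1, 4, 1, 0, 0, 0, 2, 2⟩⟩,
  ⟨9, false, ⟨1, 0, 0, 3, 1, 3, 4, 4, 0, 4, 3, 1, 0, 1, 3, 4⟩⟩,
  ⟨9, true, ⟨4, 0, 4, 2, 3, 2, 4, 2, 0, 1, 2, 3, 0, 2, 1, 1⟩⟩,
  ⟨11, true, ⟨0, 4, 1, 2, 3, 2, 4, 3, 2, 3, 0, 1, 0, 1, 1, 3⟩⟩,
  ⟨5, false, ⟨1, 1, 4, 4, 0, 0, 3, 2, 0, 0, 1, 0, 0, 2, 1, 2⟩⟩,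
  ⟨15, false, ⟨3, 0, 3, 3, 2, 0, 2, 1, 4, 1, 2, 2, 0, 1, 1, 3⟩⟩,
  ⟨8, false, ⟨3, 1, 2, 3, 1, 3, 4, 4, 2, 2, 4, 4, 0, 1, 3, 4⟩⟩,
  ⟨2, true, ⟨3, 1, 0, 2, 3, 0, 2, 4, 1, 2, 0, 0, 0, 0, 2, 4⟩⟩,
  ⟨8, false, ⟨0, 1, 2, 4, 1, 2, 1, 0, 0, 4, 1, 2, 0, 0, 1, 0⟩⟩,
  ⟨36, false, ⟨2, 2, 3, 4, 3, 4, 1, 4, 1, 2, 0, 1, 0, 1, 3, 4⟩⟩,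
  ⟨23, true, ⟨1, 2, 3, 4, 2, 3, 1, 1, 0, 0, 2, 2, 0, 0, 2, 4⟩⟩,
  ⟨5, true, ⟨0, 4, 4, 4, 0, 3, 2, 3, 3, 4, 3, 1, 1, 0, 3, 1⟩⟩,
  ⟨54, true, ⟨1, 2, 0, 4, 1, 0, 0, 0, 3, 4, 0, 1, 0, 2, 1, 1⟩⟩,
  ⟨2, true, ⟨2, 4, 0, 2, 4, 1, 1, 0, 3, 1, 1, 4, 0, 0, 1, 2⟩⟩,
  ⟨16, false, ⟨1, 3, 4, 3, 2, 2, 0, 3, 1, 3, 1, 1, 0, 0, 2, 1⟩⟩,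
  ⟨8, false, ⟨2, 1, 0, 4, 2, 2, 4, 0, 4, 2, 1, 2, 0, 0, 2, 1⟩⟩,
  ⟨22, false, ⟨0, 2, 2, 0, 3, 2, 4, 3, 0, 2, 0, 3, 0, 0, 2, 0⟩⟩,
  ⟨6, false, ⟨0, 2, 2, 2, 2, 4, 4, 1, 3, 3, 2, 4, 1, 0, 3, 1⟩⟩,
  ⟨37, true, ⟨4, 4, 2, 1, 0, 2, 0, 3, 0, 0, 4, 0, 0, 0, 2, 3⟩⟩,
  ⟨4, true, ⟨2, 3, 2, 1, 1, 0, 0, 4, 2, 3, 2, 3, 0, 0, 1, 1⟩⟩,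
  ⟨4, false, ⟨0, 0, 0, 2, 1, 0, 1, 1, 3, 2, 0, 4, 0, 0, 1, 1⟩⟩,
  ⟨19, false, ⟨2, 2, 1, 4, 2, 4, 2, 2, 4, 4, 3, 0, 0, 0, 2, 3⟩⟩,
  ⟨4, false, ⟨0, 0, 2, 0, 0, 3, 0, 1, 2, 3, 3, 1, 0, 2, 2, 1⟩⟩,
  ⟨12, true, ⟨4, 3, 4, 3, 1, 1, 1, 1, 1, 4, 2, 3, 0, 2, 2, 1⟩⟩,
  ⟨8, false, ⟨4, 0, 0, 2, 3, 0, 0, 3, 2, 3, 3, 0, 0, 1, 3, 3⟩⟩,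
  ⟨6, false, ⟨1, 1, 2, 4, 4, 1, 0, 2, 0, 1, 4, 1, 0, 1, 3, 1⟩⟩,
  ⟨4, true, ⟨2, 0, 3, 2, 3, 2, 4, 3, 4, 1, 0, 2, 0, 1, 1, 3⟩⟩,
  ⟨7, true, ⟨2, 3, 0, 4, 4, 2, 2, 3, 0, 3, 2, 3, 0, 1, 3, 1⟩⟩,
  ⟨25, false, ⟨0, 2, 4, 1, 4, 4, 2, 0, 2, 4, 2, 4, 0, 1, 1, 3⟩⟩,
  ⟨28, false, ⟨0, 0, 4, 1, 2, 2, 4, 2, 2, 1, 1, 4, 0, 0, 2, 1⟩⟩,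
  ⟨6, false, ⟨1, 0, 3, 3, 4, 1, 0, 0, 4, 2, 4, 4, 0, 2, 1, 2⟩⟩,
  ⟨2, true, ⟨0, 0, 4, 0, 0, 4, 0, 3, 1, 0, 2, 0, 0, 1, 0, 1⟩⟩,
  ⟨2, true, ⟨1, 3, 3, 2, 4, 3, 3, 0, 2, 1, 4, 0, 0, 0, 2, 1⟩⟩,
  ⟨5, true, ⟨0, 0, 2, 1, 1, 3, 0, 0, 2, 0, 1, 3, 0, 0, 0, 2⟩⟩,
  ⟨24, false, ⟨3, 2, 3, 1, 2, 1, 4, 0, 4, 1, 3, 0, 0, 0, 2, 2⟩⟩,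
  ⟨17, false, ⟨4, 2, 0, 0, 3, 3, 3, 4, 2, 4, 4, 0, 0, 1, 0, 0⟩⟩,
  ⟨7, true, ⟨2, 3, 1, 1, 2, 4, 3, 0, 0, 0, 2, 4, 0, 0, 1, 1⟩⟩,
  ⟨29, false, ⟨1, 4, 3, 0, 4, 4, 0, 3, 0, 0, 3, 2, 0, 0, 2, 2⟩⟩,
  ⟨25, true, ⟨1, 3, 0, 0, 0, 2, 4, 2, 0, 0, 1, 0, 0, 0, 1, 3⟩⟩,
  ⟨0, true, ⟨1, 0, 1, 3, 3, 4, 0, 3, 2, 4, 0, 3, 0, 2, 1, 1⟩⟩,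
  ⟨12, true, ⟨1, 0, 2, 1, 1, 2, 4, 4, 0, 3, 4, 4, 0, 2, 2, 1⟩⟩,
  ⟨0, false, ⟨2, 4, 3, 2, 1, 0, 4, 0, 1, 2, 4, 0, 0, 0, 1, 2⟩⟩,
  ⟨9, true, ⟨0, 3, 3, 4, 3, 2, 4, 4, 0, 2, 4, 3, 0, 0, 2, 0⟩⟩,
  ⟨45, false, ⟨0, 0, 3, 0, 0, 4, 2, 4, 3, 1, 3, 0, 0, 0, 2, 4⟩⟩,
  ⟨40, false, ⟨4, 4, 4, 1, 1, 2, 2, 2, 4, 1, 4, 3, 0, 2, 1, 2⟩⟩,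
  ⟨18, false, ⟨3, 4, 2, 4, 2, 3, 0, 4, 4, 2, 4, 0, 0, 0, 1, 3⟩⟩,
  ⟨26, true, ⟨2, 1, 3, 2, 3, 1, 1, 4, 3, 0, 3, 4, 0, 1, 3, 1⟩⟩,
  ⟨3, true, ⟨2, 0, 3, 4, 0, 1, 2, 2, 3, 0, 0, 1, 0, 0, 0, 1⟩⟩,
  ⟨0, false, ⟨3, 3, 2, 3, 1, 3, 0, 2, 3, 3, 0, 2, 0, 0, 2, 3⟩⟩,
  ⟨12, true, ⟨1, 0, 4, 1, 2, 0, 3, 4, 4, 1, 3, 2, 0, 2, 2, 1⟩⟩,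
  ⟨9, false, ⟨0, 4, 2, 1, 3, 3, 0, 1, 0, 4, 3, 0, 0, 0, 2, 0⟩⟩,
  ⟨0, true, ⟨1, 1, 3, 3, 3, 0, 2, 2, 2, 2, 1, 2, 0, 0, 2, 3⟩⟩,
  ⟨3, false, ⟨3, 2, 1, 4, 0, 2, 4, 3, 4, 1, 0, 2, 0, 2, 2, 1⟩⟩,
  ⟨3, true, ⟨2, 2, 0, 3, 2, 0, 4, 1, 3, 2, 2, 4, 0, 1, 1, 3⟩⟩,
  ⟨17, false, ⟨1, 4, 2, 2, 0, 3, 3, 2, 4, 1, 4, 3, 0, 1, 3, 1⟩⟩,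
  ⟨4, true, ⟨0, 0, 4, 2, 1, 3, 4, 0, 1, 0, 0, 3, 0, 0, 0, 2⟩⟩,
  ⟨4, false, ⟨0, 1, 1, 4, 3, 0, 0, 3, 3, 0, 0, 4, 0, 1, 3, 4⟩⟩,
  ⟨4, true, ⟨2, 3, 3, 3, 0, 0, 4, 4, 1, 4, 2, 4, 0, 1, 3, 4⟩⟩,
  ⟨4, false, ⟨0, 0, 2, 4, 4, 3, 1, 1, 2, 0, 0, 4, 0, 0, 0, 2⟩⟩,
  ⟨20, false, ⟨1, 1, 3, 0, 1, 0, 3, 0, 0, 0, 0, 1, 0, 0, 1, 4⟩⟩,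
  ⟨6, false, ⟨4, 0, 0, 3, 3, 1, 2, 3, 0, 0, 4, 3, 0, 0, 0, 1⟩⟩,
  ⟨2, false, ⟨4, 1, 3, 3, 3, 3, 3, 1, 0, 3, 3, 3, 0, 1, 3, 1⟩⟩,
  ⟨7, true, ⟨4, 2, 1, 4, 0, 3, 3, 0, 2, 1, 2, 2, 0, 2, 1, 2⟩⟩,
  ⟨5, false, ⟨4, 4, 3, 2, 0, 2, 2, 4, 0, 0, 4, 0, 0, 0, 2, 3⟩⟩,
  ⟨3, false, ⟨1, 0, 1, 0, 3, 1, 3, 4, 4, 0, 0, 2, 0, 0, 0, 1⟩⟩,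
  ⟨3, true, ⟨3, 3, 2, 0, 4, 3, 2, 4, 3, 0, 4, 0, 0, 1, 0, 0⟩⟩,
  ⟨12, true, ⟨3, 3, 1, 3, 4, 2, 3, 2, 0, 2, 3, 1, 0, 1, 3, 3⟩⟩,
  ⟨15, false, ⟨0, 1, 1, 2, 1, 1, 3, 3, 0, 4, 3, 4, 0, 0, 1, 0⟩⟩,
  ⟨2, false, ⟨2, 0, 1, 3, 2, 1, 0, 0, 1, 0, 1, 3, 0, 0, 0, 1⟩⟩,
  ⟨52, true, ⟨1, 0, 1, 2, 3, 3, 4, 2, 4, 2, 4, 1, 0, 1, 2, 4⟩⟩,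
  ⟨9, false, ⟨2, 1, 4, 0, 2, 3, 2, 4, 0, 4, 3, 0, 0, 1, 0, 0⟩⟩,
  ⟨7, true, ⟨2, 3, 4, 4, 1, 1, 3, 4, 4, 4, 1, 2, 1, 0, 3, 1⟩⟩,
  ⟨9, true, ⟨2, 1, 3, 0, 3, 1, 0, 4, 4, 3, 4, 0, 0, 1, 0, 0⟩⟩,
  ⟨36, true, ⟨1, 4, 3, 4, 1, 2, 0, 4, 3, 2, 3, 0, 0, 0, 2, 2⟩⟩,
  ⟨23, false, ⟨2, 0, 2, 2, 2, 3, 0, 0, 0, 0, 3, 3, 0, 0, 0, 2⟩⟩,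
  ⟨17, false, ⟨4, 4, 0, 4, 1, 1, 3, 3, 4, 1, 0, 0, 0, 2, 1, 1⟩⟩]

/-- Certificates. -/
def data5 : List (Cert (ZMod 5)) := [
  ⟨30, true, ⟨3, 0, 3, 4, 4, 2, 0, 0, 2, 4, 1, 3, 0, 2, 1, 1⟩⟩,
  ⟨8, false, ⟨1, 1, 2, 4, 2, 0, 2, 2, 2, 2, 4, 4, 1, 0, 4, 3⟩⟩,
  ⟨12, true, ⟨2, 1, 1, 2, 1, 0, 3, 0, 2, 1, 1, 3, 0, 0, 1, 3⟩⟩,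
  ⟨52, true, ⟨4, 2, 1, 0, 0, 2, 0, 0, 3, 4, 1, 0, 0, 0, 1, 3⟩⟩,
  ⟨9, false, ⟨1, 2, 3, 2, 0, 0, 1, 2, 0, 0, 1, 0, 0, 2, 2, 1⟩⟩,
  ⟨2, true, ⟨1, 3, 2, 3, 4, 2, 1, 1, 1, 4, 3, 4, 0, 1, 0, 1⟩⟩,
  ⟨6, false, ⟨0, 4, 1, 1, 3, 1, 1, 1, 0, 3, 4, 1, 0, 0, 2, 0⟩⟩,
  ⟨24, false, ⟨4, 1, 1, 2, 4, 4, 0, 2, 4, 1, 3, 0, 0, 0, 2, 2⟩⟩,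
  ⟨8, false, ⟨0, 2, 3, 3, 2, 1, 4, 2, 1, 3, 3, 4, 0, 1, 2, 4⟩⟩,
  ⟨17, true, ⟨1, 0, 0, 3, 2, 4, 2, 1, 1, 3, 0, 0, 0, 1, 3, 4⟩⟩,
  ⟨28, true, ⟨3, 2, 1, 0, 3, 3, 1, 0, 4, 1, 4, 4, 0, 0, 1, 1⟩⟩,
  ⟨9, true, ⟨1, 0, 1, 1, 2, 2, 4, 0, 0, 1, 2, 3, 0, 2, 2, 1⟩⟩,
  ⟨2, true, ⟨4, 2, 3, 0, 0, 2, 1, 3, 3, 4, 0, 0, 0, 2, 2, 1⟩⟩,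
  ⟨26, false, ⟨2, 1, 1, 4, 4, 3, 3, 0, 4, 2, 1, 1, 0, 0, 2, 1⟩⟩,
  ⟨6, false, ⟨2, 2, 4, 3, 3, 0, 3, 3, 4, 4, 3, 4, 0, 0, 2, 3⟩⟩,
  ⟨8, false, ⟨1, 4, 1, 2, 0, 3, 1, 0, 3, 2, 4, 1, 0, 2, 1, 2⟩⟩,
  ⟨20, false, ⟨1, 1, 2, 4, 0, 3, 3, 4, 1, 4, 1, 3, 1, 0, 4, 3⟩⟩,
  ⟨2, false, ⟨0, 2, 4, 4, 3, 4, 3, 4, 0, 0, 1, 3, 0, 0, 2, 0⟩⟩,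
  ⟨12, true, ⟨3, 4, 3, 0, 3, 1, 4, 3, 3, 4, 4, 2, 0, 0, 1, 3⟩⟩,
  ⟨3, false, ⟨0, 0, 3, 1, 1, 2, 0, 1, 2, 3, 2, 3, 0, 0, 2, 2⟩⟩,
  ⟨3, true, ⟨2, 3, 3, 1, 0, 3, 0, 1, 3, 2, 0, 4, 0, 0, 2, 2⟩⟩,
  ⟨7, true, ⟨3, 0, 2, 3, 3, 1, 3, 2, 0, 0, 2, 4, 0, 0, 0, 1⟩⟩,
  ⟨16, false, ⟨0, 0, 3, 4, 1, 3, 4, 0, 3, 0, 4, 1, 0, 0, 0, 2⟩⟩,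
  ⟨2, false, ⟨2, 3, 4, 0, 2, 1, 3, 4, 0, 0, 1, 3, 0, 0, 2, 2⟩⟩,
  ⟨8, false, ⟨3, 2, 1, 4, 4, 4, 3, 3, 0, 4, 1, 2, 0, 2, 2, 1⟩⟩,
  ⟨18, false, ⟨2, 0, 1, 4, 3, 3, 0, 2, 0, 1, 0, 4, 0, 1, 2, 4⟩⟩,
  ⟨23, false, ⟨0, 3, 0, 1, 3, 2, 4, 4, 0, 0, 2, 2, 0, 0, 2, 0⟩⟩,
  ⟨31, false, ⟨4, 2, 4, 4, 4, 4, 0, 1, 3, 0, 4, 1, 1, 0, 3, 1⟩⟩,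
  ⟨5, true, ⟨2, 1, 2, 0, 1, 0, 3, 1, 3, 4, 3, 1, 0, 0, 1, 3⟩⟩,
  ⟨15, false, ⟨1, 0, 1, 1, 1, 0, 1, 0, 1, 4, 1, 3, 0, 1, 1, 3⟩⟩,
  ⟨49, true, ⟨1, 3, 2, 2, 4, 0, 0, 1, 3, 0, 0, 4, 0, 1, 3, 3⟩⟩,
  ⟨7, true, ⟨1, 1, 3, 2, 4, 1, 4, 0, 2, 2, 4, 2, 0, 0, 2, 3⟩⟩,
  ⟨17, true, ⟨0, 1, 3, 0, 3, 2, 2, 4, 3, 1, 0, 0, 1, 0, 4, 3⟩⟩,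
  ⟨0, true, ⟨2, 4, 2, 4, 2, 2, 3, 4, 2, 4, 4, 2, 0, 0, 1, 2⟩⟩,
  ⟨24, false, ⟨2, 3, 0, 0, 0, 3, 3, 3, 4, 1, 3, 0, 0, 0, 2, 2⟩⟩,
  ⟨0, false, ⟨4, 4, 4, 4, 3, 4, 4, 3, 4, 0, 1, 2, 0, 2, 1, 1⟩⟩,
  ⟨5, false, ⟨2, 3, 3, 2, 3, 0, 3, 1, 4, 1, 1, 1, 0, 0, 2, 2⟩⟩,
  ⟨17, false, ⟨4, 1, 4, 2, 1, 0, 3, 2, 4, 1, 4, 3, 0, 0, 1, 1⟩⟩,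
  ⟨18, false, ⟨1, 1, 2, 4, 4, 4, 1, 3, 4, 1, 0, 3, 0, 2, 1, 2⟩⟩,
  ⟨11, false, ⟨2, 2, 2, 4, 3, 0, 0, 3, 4, 0, 0, 2, 0, 1, 3, 4⟩⟩,
  ⟨7, true, ⟨2, 3, 4, 1, 4, 4, 0, 0, 3, 0, 2, 3, 0, 1, 1, 3⟩⟩,
  ⟨5, false, ⟨4, 0, 3, 0, 0, 3, 0, 1, 0, 0, 4, 0, 0, 0, 0, 2⟩⟩,
  ⟨0, false, ⟨0, 3, 3, 0, 1, 3, 0, 1, 4, 3, 0, 1, 1, 0, 3, 1⟩⟩,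
  ⟨18, false, ⟨0, 0, 2, 0, 0, 1, 4, 0, 2, 2, 4, 3, 0, 1, 3, 1⟩⟩,
  ⟨6, false, ⟨4, 3, 0, 3, 0, 4, 3, 0, 2, 0, 1, 4, 1, 0, 3, 1⟩⟩,
  ⟨0, true, ⟨0, 3, 4, 0, 1, 4, 0, 3, 2, 4, 0, 3, 1, 0, 4, 3⟩⟩,
  ⟨55, true, ⟨2, 4, 3, 3, 0, 2, 2, 3, 4, 3, 4, 1, 0, 2, 1, 1⟩⟩,
  ⟨11, false, ⟨3, 0, 4, 4, 4, 3, 1, 1, 1, 0, 0, 2, 0, 0, 0, 2⟩⟩,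
  ⟨2, false, ⟨3, 3, 1, 1, 0, 4, 2, 1, 3, 3, 3, 1, 0, 0, 1, 4⟩⟩,
  ⟨29, false, ⟨3, 0, 0, 3, 1, 1, 1, 1, 0, 0, 2, 3, 0, 0, 0, 1⟩⟩,
  ⟨17, false, ⟨1, 3, 3, 2, 1, 4, 3, 1, 1, 3, 2, 1, 0, 0, 2, 1⟩⟩,
  ⟨24, false, ⟨1, 4, 3, 3, 3, 0, 1, 2, 1, 1, 1, 4, 0, 1, 1, 3⟩⟩,
  ⟨7, false, ⟨2, 4, 1, 1, 2, 3, 2, 4, 3, 1, 0, 0, 0, 0, 2, 4⟩⟩,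
  ⟨9, true, ⟨0, 0, 2, 0, 0, 2, 3, 4, 2, 3, 0, 4, 0, 2, 1, 2⟩⟩,
  ⟨10, false, ⟨3, 2, 3, 0, 2, 1, 0, 3, 4, 3, 0, 4, 1, 0, 4, 3⟩⟩,
  ⟨35, true, ⟨4, 0, 3, 3, 4, 3, 4, 4, 4, 0, 2, 1, 0, 0, 0, 2⟩⟩,
  ⟨22, true, ⟨4, 0, 1, 0, 4, 3, 1, 4, 4, 4, 0, 0, 0, 1, 0, 0⟩⟩,
  ⟨0, true, ⟨3, 1, 2, 1, 3, 4, 3, 1, 2, 4, 4, 2, 0, 0, 1, 2⟩⟩,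
  ⟨7, true, ⟨4, 1, 0, 4, 2, 1, 2, 1, 0, 0, 3, 4, 0, 0, 2, 2⟩⟩,
  ⟨0, false, ⟨1, 0, 0, 3, 0, 0, 0, 2, 4, 0, 1, 2, 0, 2, 1, 1⟩⟩,
  ⟨8, false, ⟨1, 3, 1, 0, 1, 3, 4, 4, 1, 2, 2, 0, 0, 1, 0, 0⟩⟩,
  ⟨27, true, ⟨3, 2, 4, 1, 4, 4, 0, 0, 1, 4, 4, 1, 0, 0, 2, 2⟩⟩,
  ⟨12, true, ⟨2, 0, 0, 1, 4, 1, 3, 2, 1, 3, 2, 1, 0, 1, 3, 1⟩⟩,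
  ⟨8, false, ⟨4, 3, 3, 1, 2, 3, 2, 2, 2, 3, 0, 0, 0, 2, 1, 1⟩⟩,
  ⟨35, false, ⟨3, 1, 0, 2, 1, 1, 4, 0, 1, 2, 3, 1, 0, 0, 2, 4⟩⟩,
  ⟨27, false, ⟨2, 3, 1, 4, 2, 1, 2, 4, 4, 1, 3, 1, 0, 0, 2, 2⟩⟩,
  ⟨24, false, ⟨0, 0, 2, 4, 3, 1, 0, 1, 2, 0, 0, 0, 0, 0, 0, 1⟩⟩,
  ⟨9, true, ⟨1, 2, 1, 1, 2, 3, 1, 2, 0, 3, 0, 2, 0, 1, 3, 4⟩⟩,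
  ⟨23, true, ⟨0, 0, 3, 1, 3, 1, 4, 4, 4, 2, 2, 3, 0, 0, 1, 3⟩⟩,
  ⟨12, true, ⟨3, 1, 4, 0, 3, 2, 4, 0, 3, 0, 3, 4, 0, 1, 3, 1⟩⟩,
  ⟨30, false, ⟨2, 2, 0, 3, 2, 2, 1, 2, 4, 3, 0, 0, 0, 1, 3, 1⟩⟩,
  ⟨16, false, ⟨0, 1, 1, 1, 4, 1, 2, 0, 4, 1, 3, 1, 1, 0, 3, 1⟩⟩,
  ⟨16, true, ⟨2, 0, 1, 0, 4, 4, 2, 3, 2, 3, 4, 3, 0, 1, 0, 1⟩⟩,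
  ⟨7, true, ⟨0, 0, 3, 2, 1, 1, 4, 2, 3, 0, 3, 4, 0, 0, 0, 1⟩⟩,
  ⟨1, true, ⟨4, 4, 3, 4, 0, 4, 2, 2, 1, 1, 1, 1, 0, 0, 1, 4⟩⟩,
  ⟨4, false, ⟨1, 3, 0, 0, 4, 0, 2, 1, 2, 3, 3, 1, 0, 2, 2, 1⟩⟩,
  ⟨18, true, ⟨0, 0, 4, 4, 4, 1, 4, 1, 3, 3, 0, 0, 0, 0, 2, 3⟩⟩,
  ⟨2, false, ⟨3, 1, 0, 0, 1, 1, 0, 0, 3, 4, 3, 2, 0, 1, 2, 4⟩⟩,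
  ⟨9, true, ⟨4, 1, 1, 3, 4, 1, 3, 0, 2, 1, 1, 2, 0, 2, 1, 2⟩⟩,
  ⟨12, true, ⟨2, 3, 3, 4, 1, 2, 2, 4, 2, 0, 2, 1, 0, 1, 3, 1⟩⟩,
  ⟨10, true, ⟨4, 4, 0, 0, 0, 3, 1, 4, 1, 1, 4, 0, 0, 1, 0, 0⟩⟩,
  ⟨12, true, ⟨3, 4, 2, 3, 0, 4, 0, 3, 4, 2, 3, 4, 0, 1, 3, 1⟩⟩,
  ⟨1, true, ⟨1, 1, 1, 2, 1, 0, 4, 2, 4, 4, 4, 4, 0, 0, 1, 4⟩⟩,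
  ⟨4, false, ⟨1, 0, 2, 0, 3, 3, 1, 0, 2, 0, 0, 4, 0, 0, 0, 2⟩⟩,
  ⟨33, false, ⟨4, 1, 2, 0, 3, 3, 3, 4, 2, 1, 0, 0, 0, 1, 0, 0⟩⟩,
  ⟨19, true, ⟨2, 2, 1, 4, 3, 0, 1, 3, 4, 4, 2, 1, 0, 0, 2, 3⟩⟩,
  ⟨3, true, ⟨4, 2, 0, 0, 1, 1, 3, 4, 3, 0, 4, 0, 0, 1, 0, 0⟩⟩,
  ⟨30, false, ⟨0, 0, 3, 2, 4, 4, 3, 4, 1, 3, 1, 4, 0, 0, 1, 3⟩⟩,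
  ⟨61, true, ⟨1, 2, 1, 4, 3, 0, 1, 1, 4, 3, 4, 4, 0, 0, 2, 4⟩⟩,
  ⟨9, true, ⟨4, 2, 0, 2, 3, 1, 3, 0, 2, 1, 2, 0, 0, 0, 1, 3⟩⟩]

/-- Certificates. -/
def data6 : List (Cert (ZMod 5)) := [
  ⟨3, false, ⟨4, 0, 1, 3, 4, 1, 3, 0, 4, 0, 0, 2, 0, 0, 0, 1⟩⟩,
  ⟨39, false, ⟨3, 1, 4, 3, 0, 0, 2, 4, 4, 3, 4, 4, 0, 1, 3, 4⟩⟩,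
  ⟨6, true, ⟨4, 0, 2, 0, 0, 2, 0, 1, 1, 0, 2, 0, 0, 1, 0, 1⟩⟩,
  ⟨8, false, ⟨4, 1, 2, 4, 0, 1, 2, 1, 2, 3, 0, 2, 0, 0, 1, 1⟩⟩,
  ⟨11, true, ⟨4, 1, 3, 1, 0, 1, 2, 3, 1, 4, 1, 4, 0, 0, 1, 1⟩⟩,
  ⟨43, true, ⟨0, 0, 0, 3, 3, 0, 1, 4, 3, 3, 0, 0, 0, 0, 2, 3⟩⟩,
  ⟨8, false, ⟨3, 0, 4, 4, 1, 1, 1, 3, 2, 3, 2, 4, 0, 1, 3, 1⟩⟩,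
  ⟨5, false, ⟨4, 0, 0, 4, 3, 2, 2, 1, 1, 1, 0, 4, 0, 2, 2, 1⟩⟩,
  ⟨58, false, ⟨2, 3, 2, 0, 3, 3, 3, 0, 0, 2, 4, 1, 0, 2, 1, 1⟩⟩,
  ⟨1, true, ⟨4, 4, 3, 4, 0, 4, 1, 3, 1, 1, 1, 1, 0, 0, 1, 4⟩⟩,
  ⟨45, false, ⟨3, 1, 2, 0, 4, 0, 3, 4, 1, 1, 3, 4, 0, 2, 1, 2⟩⟩,
  ⟨6, true, ⟨1, 3, 3, 0, 0, 3, 2, 1, 3, 4, 0, 0, 0, 2, 2, 1⟩⟩,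
  ⟨3, false, ⟨1, 2, 4, 2, 1, 2, 0, 4, 4, 1, 0, 2, 0, 2, 2, 1⟩⟩,
  ⟨3, true, ⟨3, 0, 3, 3, 4, 1, 0, 1, 3, 2, 2, 4, 0, 1, 1, 3⟩⟩,
  ⟨12, false, ⟨2, 1, 2, 2, 3, 0, 2, 2, 2, 1, 2, 3, 0, 0, 2, 1⟩⟩,
  ⟨22, false, ⟨4, 0, 2, 2, 0, 1, 3, 3, 4, 0, 1, 2, 0, 1, 3, 4⟩⟩,
  ⟨2, false, ⟨2, 1, 4, 3, 1, 0, 1, 2, 1, 3, 2, 0, 0, 0, 1, 3⟩⟩,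
  ⟨1, true, ⟨1, 1, 1, 2, 1, 0, 0, 1, 4, 4, 4, 4, 0, 0, 1, 4⟩⟩,
  ⟨65, true, ⟨4, 2, 4, 0, 3, 0, 4, 3, 4, 0, 2, 2, 0, 1, 3, 4⟩⟩,
  ⟨10, false, ⟨4, 0, 3, 4, 3, 4, 0, 4, 4, 3, 0, 3, 0, 1, 1, 3⟩⟩,
  ⟨76, true, ⟨4, 4, 1, 4, 0, 2, 3, 4, 2, 2, 2, 2, 0, 0, 2, 3⟩⟩,
  ⟨26, false, ⟨3, 2, 4, 0, 1, 2, 4, 1, 2, 4, 1, 3, 0, 2, 1, 1⟩⟩,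
  ⟨6, false, ⟨0, 0, 3, 0, 0, 4, 0, 3, 3, 3, 3, 1, 0, 0, 1, 4⟩⟩,
  ⟨8, true, ⟨3, 2, 2, 0, 4, 4, 4, 3, 3, 4, 0, 1, 0, 1, 3, 3⟩⟩,
  ⟨9, true, ⟨4, 2, 1, 4, 3, 1, 1, 4, 1, 1, 2, 4, 0, 1, 3, 1⟩⟩,
  ⟨2, false, ⟨1, 2, 1, 3, 0, 4, 2, 0, 1, 2, 2, 3, 0, 0, 2, 4⟩⟩,
  ⟨18, true, ⟨1, 3, 3, 1, 2, 1, 0, 4, 4, 3, 1, 0, 0, 2, 1, 2⟩⟩,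
  ⟨27, false, ⟨2, 3, 1, 4, 4, 2, 3, 2, 4, 1, 3, 1, 0, 0, 1, 1⟩⟩,
  ⟨15, true, ⟨0, 2, 4, 0, 3, 0, 3, 1, 0, 3, 1, 3, 0, 0, 2, 0⟩⟩,
  ⟨10, true, ⟨2, 3, 2, 0, 2, 1, 0, 3, 1, 2, 0, 1, 1, 0, 4, 3⟩⟩,
  ⟨8, false, ⟨4, 1, 2, 4, 2, 4, 3, 3, 2, 3, 2, 4, 0, 0, 1, 1⟩⟩,
  ⟨11, true, ⟨4, 0, 3, 2, 2, 1, 2, 4, 3, 2, 1, 2, 0, 1, 3, 4⟩⟩,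
  ⟨7, true, ⟨0, 4, 0, 1, 3, 4, 2, 1, 0, 0, 3, 4, 0, 0, 2, 0⟩⟩,
  ⟨16, true, ⟨4, 2, 2, 0, 1, 2, 4, 3, 4, 0, 1, 0, 1, 0, 4, 3⟩⟩,
  ⟨1, true, ⟨4, 4, 3, 4, 0, 4, 0, 4, 1, 1, 1, 1, 0, 0, 1, 4⟩⟩,
  ⟨6, true, ⟨2, 4, 0, 2, 3, 0, 3, 1, 1, 2, 0, 0, 0, 0, 2, 4⟩⟩,
  ⟨12, true, ⟨3, 0, 2, 4, 3, 3, 1, 2, 3, 4, 1, 1, 0, 1, 3, 3⟩⟩,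
  ⟨2, false, ⟨1, 4, 1, 3, 4, 3, 2, 4, 2, 4, 0, 0, 0, 1, 2, 4⟩⟩,
  ⟨20, true, ⟨2, 4, 2, 0, 4, 1, 2, 1, 2, 4, 3, 1, 0, 0, 1, 2⟩⟩,
  ⟨7, true, ⟨0, 0, 2, 1, 3, 4, 1, 3, 1, 2, 2, 4, 0, 0, 1, 2⟩⟩,
  ⟨17, false, ⟨2, 1, 3, 4, 3, 2, 4, 4, 0, 1, 1, 3, 0, 1, 3, 3⟩⟩,
  ⟨2, false, ⟨1, 2, 3, 0, 0, 3, 3, 1, 3, 1, 0, 0, 0, 0, 1, 2⟩⟩,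
  ⟨1, true, ⟨1, 1, 1, 2, 1, 0, 1, 0, 4, 4, 4, 4, 0, 0, 1, 4⟩⟩,
  ⟨5, false, ⟨3, 0, 4, 0, 3, 0, 4, 4, 3, 4, 1, 4, 0, 1, 0, 1⟩⟩,
  ⟨38, true, ⟨2, 0, 4, 2, 0, 1, 1, 1, 2, 0, 2, 2, 0, 0, 0, 1⟩⟩,
  ⟨5, true, ⟨1, 0, 3, 4, 3, 3, 1, 4, 1, 0, 4, 3, 0, 0, 0, 2⟩⟩,
  ⟨11, false, ⟨0, 1, 4, 4, 4, 3, 4, 3, 4, 0, 0, 2, 0, 1, 3, 4⟩⟩,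
  ⟨11, true, ⟨0, 0, 3, 2, 3, 3, 4, 2, 3, 0, 0, 4, 0, 0, 0, 2⟩⟩,
  ⟨7, false, ⟨2, 4, 4, 4, 1, 0, 0, 1, 4, 3, 3, 2, 0, 0, 1, 2⟩⟩,
  ⟨12, false, ⟨1, 0, 1, 3, 3, 2, 4, 3, 2, 4, 0, 0, 0, 2, 1, 2⟩⟩,
  ⟨18, true, ⟨3, 4, 1, 1, 1, 0, 2, 0, 4, 2, 3, 2, 0, 0, 1, 3⟩⟩,
  ⟨4, true, ⟨3, 2, 0, 2, 0, 1, 2, 3, 2, 3, 2, 3, 0, 0, 1, 1⟩⟩,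
  ⟨4, false, ⟨4, 1, 2, 1, 2, 4, 4, 2, 3, 2, 0, 4, 0, 0, 1, 1⟩⟩,
  ⟨7, false, ⟨3, 3, 2, 3, 3, 3, 3, 2, 3, 2, 4, 2, 0, 1, 0, 1⟩⟩,
  ⟨25, false, ⟨2, 1, 0, 2, 4, 2, 4, 1, 2, 2, 1, 3, 0, 2, 1, 2⟩⟩,
  ⟨2, true, ⟨0, 4, 1, 3, 1, 3, 4, 0, 0, 0, 3, 4, 0, 0, 1, 0⟩⟩,
  ⟨0, false, ⟨2, 2, 3, 3, 0, 2, 1, 2, 3, 3, 0, 2, 0, 0, 2, 3⟩⟩,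
  ⟨6, true, ⟨4, 2, 4, 2, 4, 3, 4, 3, 2, 1, 4, 0, 0, 0, 2, 1⟩⟩,
  ⟨28, false, ⟨0, 1, 0, 2, 1, 4, 2, 3, 0, 0, 1, 1, 0, 0, 1, 0⟩⟩,
  ⟨0, true, ⟨2, 2, 2, 3, 4, 1, 1, 2, 2, 2, 1, 2, 0, 0, 2, 3⟩⟩,
  ⟨9, true, ⟨0, 2, 4, 2, 1, 3, 0, 0, 0, 1, 3, 4, 0, 0, 1, 0⟩⟩,
  ⟨7, true, ⟨3, 3, 3, 2, 3, 0, 0, 3, 0, 4, 4, 4, 0, 1, 3, 1⟩⟩,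
  ⟨25, false, ⟨3, 0, 4, 3, 1, 0, 3, 0, 3, 3, 4, 2, 0, 1, 1, 3⟩⟩,
  ⟨18, false, ⟨3, 3, 4, 2, 2, 1, 2, 3, 4, 4, 0, 0, 0, 0, 1, 4⟩⟩,
  ⟨4, true, ⟨3, 0, 4, 0, 3, 3, 4, 2, 1, 0, 0, 3, 0, 0, 0, 2⟩⟩,
  ⟨4, false, ⟨4, 3, 2, 4, 4, 3, 4, 3, 3, 0, 0, 4, 0, 1, 3, 4⟩⟩,
  ⟨9, true, ⟨3, 2, 4, 4, 2, 1, 0, 1, 2, 3, 0, 3, 0, 0, 2, 2⟩⟩,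
  ⟨1, true, ⟨1, 1, 1, 2, 1, 0, 2, 4, 4, 4, 4, 4, 0, 0, 1, 4⟩⟩,
  ⟨12, false, ⟨0, 0, 0, 3, 3, 0, 1, 2, 1, 3, 4, 4, 0, 0, 2, 1⟩⟩,
  ⟨8, true, ⟨1, 0, 4, 3, 1, 0, 4, 2, 3, 4, 0, 0, 0, 1, 3, 4⟩⟩,
  ⟨6, false, ⟨0, 2, 3, 1, 3, 4, 4, 4, 0, 0, 1, 3, 0, 0, 2, 0⟩⟩,
  ⟨8, false, ⟨1, 3, 0, 1, 0, 1, 4, 4, 3, 4, 1, 3, 0, 0, 2, 1⟩⟩,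
  ⟨0, true, ⟨2, 3, 4, 0, 4, 2, 3, 0, 2, 4, 0, 3, 0, 2, 1, 1⟩⟩,
  ⟨29, true, ⟨2, 3, 1, 4, 3, 3, 4, 4, 0, 0, 4, 1, 0, 0, 1, 1⟩⟩,
  ⟨0, false, ⟨0, 0, 3, 3, 4, 1, 4, 1, 1, 2, 4, 0, 0, 0, 1, 2⟩⟩,
  ⟨2, false, ⟨3, 2, 4, 4, 2, 4, 1, 3, 4, 2, 0, 0, 0, 1, 1, 3⟩⟩,
  ⟨0, false, ⟨0, 2, 2, 1, 1, 2, 4, 2, 4, 3, 0, 1, 1, 0, 3, 1⟩⟩,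
  ⟨9, true, ⟨0, 4, 1, 1, 3, 0, 2, 2, 0, 4, 1, 0, 0, 0, 2, 0⟩⟩,
  ⟨17, true, ⟨2, 0, 1, 0, 4, 1, 2, 2, 0, 3, 3, 4, 1, 0, 3, 1⟩⟩,
  ⟨0, true, ⟨4, 0, 1, 3, 0, 1, 2, 1, 2, 4, 0, 3, 1, 0, 4, 3⟩⟩,
  ⟨2, true, ⟨1, 0, 3, 0, 2, 3, 1, 1, 2, 0, 2, 1, 0, 0, 0, 2⟩⟩,
  ⟨15, true, ⟨3, 1, 0, 4, 4, 2, 4, 1, 2, 4, 1, 4, 0, 0, 2, 4⟩⟩,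
  ⟨23, false, ⟨0, 4, 2, 4, 1, 1, 2, 4, 0, 4, 3, 3, 0, 0, 1, 0⟩⟩,
  ⟨3, false, ⟨1, 2, 2, 0, 0, 1, 2, 4, 1, 2, 3, 0, 0, 1, 0, 0⟩⟩,
  ⟨1, true, ⟨4, 4, 3, 4, 0, 4, 3, 1, 1, 1, 1, 1, 0, 0, 1, 4⟩⟩,
  ⟨5, true, ⟨4, 4, 3, 1, 0, 3, 4, 3, 3, 3, 0, 2, 0, 1, 1, 3⟩⟩,
  ⟨2, true, ⟨2, 0, 3, 2, 2, 3, 1, 3, 3, 4, 4, 4, 1, 0, 4, 3⟩⟩,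
  ⟨20, true, ⟨1, 3, 3, 1, 3, 1, 2, 1, 1, 3, 1, 2, 0, 0, 1, 3⟩⟩,
  ⟨11, false, ⟨2, 4, 3, 4, 3, 2, 4, 1, 1, 4, 4, 3, 0, 2, 2, 1⟩⟩,
  ⟨5, false, ⟨3, 4, 4, 2, 1, 4, 2, 4, 1, 3, 1, 2, 0, 0, 2, 1⟩⟩]

/-- Certificates. -/
def data7 : List (Cert (ZMod 5)) := [
  ⟨27, false, ⟨3, 2, 4, 1, 4, 2, 1, 0, 1, 4, 2, 4, 0, 0, 1, 1⟩⟩,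
  ⟨9, true, ⟨3, 2, 1, 2, 1, 0, 1, 4, 4, 1, 3, 4, 0, 0, 1, 1⟩⟩,
  ⟨22, true, ⟨0, 4, 4, 2, 0, 2, 1, 1, 2, 3, 4, 0, 1, 0, 3, 1⟩⟩,
  ⟨2, true, ⟨3, 2, 1, 1, 2, 3, 1, 1, 0, 2, 3, 2, 0, 2, 1, 2⟩⟩,
  ⟨4, false, ⟨2, 0, 2, 1, 2, 3, 1, 4, 2, 0, 0, 4, 0, 0, 0, 2⟩⟩,
  ⟨6, true, ⟨4, 0, 1, 4, 2, 3, 1, 2, 2, 0, 2, 1, 0, 0, 0, 2⟩⟩,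
  ⟨30, true, ⟨0, 0, 1, 0, 0, 1, 2, 4, 4, 2, 2, 1, 0, 0, 2, 1⟩⟩,
  ⟨1, false, ⟨4, 4, 4, 3, 2, 4, 2, 3, 1, 1, 4, 3, 0, 0, 2, 3⟩⟩,
  ⟨3, true, ⟨0, 1, 3, 0, 3, 4, 4, 4, 3, 0, 4, 0, 0, 1, 0, 0⟩⟩,
  ⟨6, true, ⟨4, 1, 3, 4, 4, 2, 2, 2, 0, 0, 3, 4, 0, 0, 1, 1⟩⟩,
  ⟨2, true, ⟨0, 2, 3, 2, 4, 2, 2, 3, 2, 1, 2, 2, 0, 1, 3, 1⟩⟩,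
  ⟨1, false, ⟨1, 1, 4, 4, 3, 0, 1, 1, 4, 4, 1, 2, 0, 0, 2, 3⟩⟩,
  ⟨2, true, ⟨2, 0, 2, 4, 4, 3, 0, 1, 0, 0, 3, 1, 0, 0, 0, 2⟩⟩,
  ⟨22, true, ⟨3, 2, 0, 0, 1, 3, 4, 4, 0, 3, 2, 0, 0, 1, 0, 0⟩⟩,
  ⟨3, false, ⟨3, 2, 2, 4, 2, 1, 3, 2, 2, 3, 2, 3, 0, 0, 2, 2⟩⟩,
  ⟨3, true, ⟨4, 1, 4, 3, 4, 4, 2, 0, 3, 2, 0, 4, 0, 0, 2, 2⟩⟩,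
  ⟨6, false, ⟨3, 1, 3, 0, 0, 3, 1, 2, 3, 1, 0, 0, 0, 0, 1, 2⟩⟩,
  ⟨5, false, ⟨3, 1, 2, 4, 1, 0, 3, 3, 4, 3, 1, 3, 0, 0, 1, 2⟩⟩,
  ⟨0, true, ⟨3, 3, 1, 3, 0, 2, 0, 2, 2, 2, 1, 2, 0, 0, 2, 3⟩⟩,
  ⟨2, true, ⟨2, 2, 2, 1, 2, 1, 0, 0, 2, 2, 4, 2, 0, 0, 1, 4⟩⟩,
  ⟨0, false, ⟨1, 1, 4, 3, 4, 1, 2, 2, 3, 3, 0, 2, 0, 0, 2, 3⟩⟩,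
  ⟨8, false, ⟨4, 4, 3, 1, 1, 4, 0, 3, 2, 3, 2, 3, 1, 0, 4, 3⟩⟩,
  ⟨6, false, ⟨0, 0, 4, 0, 0, 4, 3, 2, 1, 2, 2, 3, 0, 0, 2, 4⟩⟩,
  ⟨17, false, ⟨4, 0, 3, 2, 0, 2, 1, 1, 4, 0, 2, 2, 0, 1, 3, 1⟩⟩,
  ⟨4, true, ⟨1, 0, 4, 3, 0, 3, 4, 4, 1, 0, 0, 3, 0, 0, 0, 2⟩⟩,
  ⟨4, false, ⟨3, 0, 3, 4, 0, 1, 3, 3, 3, 0, 0, 4, 0, 1, 3, 4⟩⟩,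
  ⟨0, true, ⟨4, 3, 2, 3, 4, 1, 3, 3, 2, 4, 4, 2, 0, 0, 1, 2⟩⟩,
  ⟨25, false, ⟨3, 1, 1, 2, 2, 3, 0, 3, 1, 2, 1, 3, 0, 0, 2, 4⟩⟩,
  ⟨0, false, ⟨3, 1, 1, 2, 2, 1, 1, 1, 4, 0, 1, 2, 0, 2, 1, 1⟩⟩,
  ⟨7, false, ⟨4, 4, 0, 0, 2, 4, 1, 4, 3, 3, 3, 1, 0, 0, 2, 3⟩⟩,
  ⟨8, false, ⟨2, 4, 2, 0, 0, 4, 0, 0, 4, 3, 2, 0, 0, 1, 2, 4⟩⟩,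
  ⟨7, true, ⟨0, 4, 1, 2, 3, 2, 1, 3, 2, 1, 0, 0, 0, 1, 1, 3⟩⟩,
  ⟨1, false, ⟨4, 4, 4, 3, 2, 4, 3, 2, 1, 1, 4, 3, 0, 0, 2, 3⟩⟩,
  ⟨25, false, ⟨3, 4, 0, 4, 0, 1, 4, 3, 0, 0, 2, 0, 0, 0, 2, 1⟩⟩,
  ⟨10, true, ⟨2, 0, 2, 1, 4, 3, 3, 3, 2, 1, 3, 4, 0, 2, 1, 1⟩⟩,
  ⟨26, true, ⟨2, 1, 3, 2, 1, 0, 1, 1, 2, 1, 3, 3, 0, 0, 1, 3⟩⟩,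
  ⟨1, false, ⟨1, 1, 4, 4, 3, 0, 0, 2, 4, 4, 1, 2, 0, 0, 2, 3⟩⟩,
  ⟨24, true, ⟨0, 3, 1, 0, 2, 1, 2, 4, 4, 4, 2, 0, 0, 1, 0, 0⟩⟩,
  ⟨22, true, ⟨0, 1, 1, 0, 1, 4, 1, 1, 0, 4, 0, 1, 0, 0, 1, 0⟩⟩,
  ⟨4, true, ⟨4, 1, 3, 3, 4, 2, 4, 2, 2, 3, 2, 3, 0, 0, 1, 1⟩⟩,
  ⟨4, false, ⟨3, 2, 4, 0, 3, 3, 2, 3, 3, 2, 0, 4, 0, 0, 1, 1⟩⟩,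
  ⟨12, true, ⟨3, 1, 0, 2, 2, 2, 1, 1, 2, 0, 0, 1, 0, 1, 3, 3⟩⟩,
  ⟨23, false, ⟨1, 0, 3, 3, 4, 3, 1, 4, 2, 0, 2, 3, 0, 0, 0, 2⟩⟩,
  ⟨16, true, ⟨0, 2, 2, 2, 4, 1, 0, 0, 2, 1, 1, 1, 0, 1, 0, 1⟩⟩,
  ⟨6, true, ⟨3, 1, 3, 4, 2, 3, 3, 4, 4, 3, 3, 1, 0, 0, 2, 4⟩⟩,
  ⟨12, false, ⟨4, 2, 0, 3, 1, 1, 3, 3, 1, 0, 0, 3, 0, 2, 1, 1⟩⟩,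
  ⟨17, false, ⟨1, 3, 1, 1, 4, 4, 0, 1, 3, 4, 0, 1, 0, 0, 1, 3⟩⟩,
  ⟨19, false, ⟨2, 2, 4, 1, 1, 0, 1, 1, 4, 4, 3, 0, 0, 0, 1, 4⟩⟩,
  ⟨3, false, ⟨4, 2, 2, 0, 2, 2, 1, 0, 4, 1, 0, 2, 0, 2, 2, 1⟩⟩,
  ⟨3, true, ⟨4, 3, 1, 3, 1, 2, 1, 1, 3, 2, 2, 4, 0, 1, 1, 3⟩⟩,
  ⟨7, false, ⟨4, 0, 3, 2, 4, 4, 0, 3, 0, 3, 3, 3, 0, 2, 1, 2⟩⟩,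
  ⟨37, true, ⟨0, 0, 2, 4, 4, 3, 1, 3, 1, 3, 1, 2, 0, 0, 2, 1⟩⟩,
  ⟨30, true, ⟨4, 1, 0, 2, 0, 0, 4, 4, 2, 3, 4, 1, 0, 1, 1, 3⟩⟩,
  ⟨26, true, ⟨3, 4, 1, 0, 3, 1, 4, 4, 3, 4, 2, 2, 0, 0, 1, 3⟩⟩,
  ⟨10, true, ⟨2, 1, 4, 0, 4, 4, 4, 3, 2, 2, 3, 3, 0, 2, 2, 1⟩⟩,
  ⟨5, false, ⟨2, 0, 0, 3, 0, 1, 4, 2, 1, 0, 3, 4, 0, 0, 0, 1⟩⟩,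
  ⟨0, true, ⟨3, 1, 2, 2, 0, 0, 1, 2, 2, 4, 0, 3, 0, 2, 1, 1⟩⟩,
  ⟨1, false, ⟨4, 4, 4, 3, 2, 4, 4, 1, 1, 1, 4, 3, 0, 0, 2, 3⟩⟩,
  ⟨0, false, ⟨3, 1, 3, 4, 2, 2, 4, 2, 1, 2, 4, 0, 0, 0, 1, 2⟩⟩,
  ⟨11, true, ⟨1, 0, 3, 3, 0, 3, 4, 4, 3, 0, 0, 4, 0, 0, 0, 2⟩⟩,
  ⟨18, true, ⟨1, 4, 2, 2, 0, 0, 4, 4, 2, 3, 0, 4, 0, 1, 3, 1⟩⟩,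
  ⟨1, false, ⟨1, 1, 4, 4, 3, 0, 4, 3, 4, 4, 1, 2, 0, 0, 2, 3⟩⟩,
  ⟨47, false, ⟨1, 4, 2, 3, 0, 1, 4, 1, 2, 3, 0, 1, 0, 0, 1, 1⟩⟩,
  ⟨11, false, ⟨3, 2, 3, 1, 3, 3, 2, 3, 4, 1, 0, 2, 0, 0, 1, 1⟩⟩,
  ⟨11, true, ⟨1, 4, 4, 3, 4, 2, 4, 2, 1, 4, 1, 4, 0, 0, 1, 1⟩⟩,
  ⟨43, true, ⟨4, 1, 2, 1, 0, 1, 2, 3, 2, 3, 0, 3, 0, 0, 1, 1⟩⟩,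
  ⟨3, false, ⟨3, 0, 3, 0, 4, 2, 4, 4, 1, 2, 3, 0, 0, 1, 0, 0⟩⟩,
  ⟨3, true, ⟨4, 0, 3, 1, 4, 1, 2, 1, 3, 0, 0, 1, 0, 0, 0, 1⟩⟩,
  ⟨30, true, ⟨2, 2, 4, 3, 2, 2, 0, 2, 0, 4, 2, 2, 0, 1, 1, 3⟩⟩,
  ⟨7, false, ⟨0, 3, 3, 0, 1, 3, 1, 1, 0, 0, 4, 2, 0, 0, 1, 0⟩⟩,
  ⟨17, true, ⟨0, 3, 1, 4, 1, 1, 0, 0, 2, 3, 0, 0, 0, 1, 3, 3⟩⟩,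
  ⟨6, false, ⟨4, 0, 4, 4, 2, 2, 4, 2, 4, 2, 0, 0, 0, 1, 1, 3⟩⟩,
  ⟨5, true, ⟨1, 2, 4, 1, 0, 3, 3, 0, 4, 3, 2, 4, 0, 0, 1, 2⟩⟩,
  ⟨9, false, ⟨4, 2, 1, 0, 2, 3, 1, 4, 2, 1, 4, 1, 0, 0, 1, 3⟩⟩,
  ⟨46, false, ⟨1, 1, 2, 3, 2, 4, 2, 4, 4, 4, 0, 1, 0, 0, 2, 3⟩⟩,
  ⟨8, false, ⟨2, 4, 3, 2, 3, 2, 2, 1, 3, 2, 3, 2, 0, 1, 3, 4⟩⟩,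
  ⟨30, true, ⟨1, 1, 2, 4, 1, 4, 1, 2, 3, 2, 1, 4, 0, 1, 1, 3⟩⟩,
  ⟨5, false, ⟨1, 3, 3, 0, 0, 1, 2, 1, 3, 0, 2, 1, 1, 0, 4, 3⟩⟩,
  ⟨7, false, ⟨3, 2, 3, 3, 4, 2, 1, 0, 0, 0, 4, 2, 0, 0, 1, 1⟩⟩,
  ⟨25, false, ⟨2, 1, 3, 0, 0, 1, 1, 3, 0, 0, 3, 0, 0, 0, 2, 1⟩⟩,
  ⟨18, true, ⟨3, 1, 1, 0, 1, 2, 4, 4, 3, 4, 3, 0, 0, 1, 0, 0⟩⟩,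
  ⟨5, true, ⟨3, 2, 0, 3, 2, 4, 0, 1, 2, 3, 3, 3, 0, 0, 1, 1⟩⟩,
  ⟨1, false, ⟨4, 4, 4, 3, 2, 4, 0, 0, 1, 1, 4, 3, 0, 0, 2, 3⟩⟩,
  ⟨23, false, ⟨3, 2, 2, 1, 2, 4, 0, 4, 4, 1, 4, 4, 0, 0, 1, 1⟩⟩,
  ⟨20, true, ⟨0, 0, 2, 1, 4, 2, 2, 4, 1, 2, 4, 2, 0, 0, 2, 4⟩⟩,
  ⟨9, false, ⟨0, 3, 1, 3, 3, 2, 1, 3, 2, 4, 3, 0, 0, 2, 1, 2⟩⟩,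
  ⟨1, false, ⟨1, 1, 4, 4, 3, 0, 3, 4, 4, 4, 1, 2, 0, 0, 2, 3⟩⟩,
  ⟨15, true, ⟨1, 0, 0, 4, 3, 1, 4, 0, 3, 0, 1, 4, 0, 0, 0, 1⟩⟩,
  ⟨6, false, ⟨4, 0, 1, 3, 4, 1, 3, 1, 2, 4, 0, 0, 0, 1, 2, 4⟩⟩,
  ⟨31, false, ⟨2, 4, 3, 2, 1, 1, 4, 3, 4, 3, 3, 2, 0, 0, 2, 4⟩⟩]

/-- Certificates. -/
def data8 : List (Cert (ZMod 5)) := [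
  ⟨16, true, ⟨3, 2, 3, 1, 0, 3, 1, 0, 2, 3, 4, 4, 0, 2, 1, 2⟩⟩,
  ⟨8, false, ⟨4, 4, 4, 4, 3, 0, 0, 3, 0, 3, 3, 4, 0, 1, 3, 3⟩⟩,
  ⟨8, true, ⟨2, 2, 2, 2, 4, 2, 1, 0, 0, 1, 1, 3, 0, 2, 1, 1⟩⟩,
  ⟨6, true, ⟨2, 3, 1, 4, 4, 1, 4, 0, 0, 1, 1, 1, 0, 2, 1, 2⟩⟩,
  ⟨64, true, ⟨2, 1, 2, 4, 4, 0, 1, 1, 0, 0, 0, 1, 1, 0, 3, 1⟩⟩,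
  ⟨25, true, ⟨1, 2, 2, 1, 2, 2, 2, 2, 1, 2, 1, 2, 0, 0, 1, 2⟩⟩,
  ⟨2, true, ⟨1, 4, 1, 3, 3, 3, 0, 3, 3, 0, 2, 3, 1, 0, 4, 3⟩⟩,
  ⟨23, true, ⟨4, 0, 2, 4, 2, 3, 4, 1, 3, 0, 3, 2, 0, 0, 0, 2⟩⟩,
  ⟨30, true, ⟨1, 4, 0, 0, 3, 3, 0, 0, 2, 2, 3, 2, 0, 2, 1, 1⟩⟩,
  ⟨5, true, ⟨2, 0, 3, 1, 0, 0, 0, 4, 0, 0, 3, 0, 0, 1, 3, 1⟩⟩,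
  ⟨7, true, ⟨0, 0, 3, 0, 0, 2, 4, 2, 3, 4, 1, 0, 0, 0, 1, 3⟩⟩,
  ⟨19, false, ⟨3, 3, 2, 3, 1, 3, 2, 0, 1, 1, 2, 0, 0, 0, 2, 3⟩⟩,
  ⟨17, false, ⟨0, 2, 2, 4, 3, 2, 0, 2, 4, 2, 4, 1, 1, 0, 3, 1⟩⟩,
  ⟨2, true, ⟨4, 2, 3, 1, 2, 2, 3, 3, 3, 4, 4, 4, 0, 0, 2, 1⟩⟩,
  ⟨19, true, ⟨2, 2, 1, 4, 3, 0, 2, 2, 4, 4, 2, 1, 0, 0, 2, 3⟩⟩,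
  ⟨20, false, ⟨2, 2, 3, 2, 0, 2, 2, 0, 0, 0, 3, 0, 0, 0, 2, 3⟩⟩,
  ⟨17, true, ⟨0, 0, 0, 2, 3, 0, 0, 0, 3, 2, 0, 3, 0, 0, 2, 2⟩⟩,
  ⟨1, false, ⟨4, 4, 4, 3, 2, 4, 1, 4, 1, 1, 4, 3, 0, 0, 2, 3⟩⟩,
  ⟨57, true, ⟨3, 0, 3, 4, 1, 3, 0, 4, 2, 0, 4, 2, 0, 0, 0, 2⟩⟩,
  ⟨49, false, ⟨3, 1, 4, 1, 2, 2, 1, 2, 0, 1, 3, 3, 0, 1, 1, 3⟩⟩,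
  ⟨2, true, ⟨4, 1, 4, 2, 1, 0, 4, 3, 2, 0, 3, 2, 0, 2, 2, 1⟩⟩,
  ⟨1, false, ⟨1, 1, 4, 4, 3, 0, 2, 0, 4, 4, 1, 2, 0, 0, 2, 3⟩⟩,
  ⟨2, true, ⟨0, 4, 3, 4, 1, 4, 0, 1, 0, 4, 2, 3, 0, 0, 1, 0⟩⟩,
  ⟨0, true, ⟨3, 2, 3, 1, 4, 3, 4, 4, 2, 4, 0, 3, 1, 0, 4, 3⟩⟩,
  ⟨10, false, ⟨4, 1, 0, 0, 4, 2, 4, 4, 1, 3, 4, 0, 0, 1, 0, 0⟩⟩,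
  ⟨0, false, ⟨0, 1, 1, 2, 1, 1, 3, 3, 4, 3, 0, 1, 1, 0, 3, 1⟩⟩,
  ⟨20, false, ⟨4, 0, 1, 0, 0, 3, 0, 3, 2, 0, 2, 0, 0, 0, 0, 2⟩⟩,
  ⟨10, true, ⟨2, 2, 2, 2, 2, 1, 0, 3, 1, 1, 3, 2, 0, 0, 1, 4⟩⟩,
  ⟨7, false, ⟨4, 0, 3, 2, 0, 3, 4, 0, 1, 0, 1, 3, 0, 0, 0, 2⟩⟩,
  ⟨2, true, ⟨3, 2, 2, 1, 1, 2, 3, 0, 0, 0, 3, 1, 0, 0, 2, 2⟩⟩,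
  ⟨5, false, ⟨2, 4, 4, 4, 0, 0, 1, 2, 4, 3, 1, 3, 0, 2, 2, 1⟩⟩,
  ⟨3, false, ⟨3, 0, 4, 4, 0, 2, 1, 0, 3, 4, 3, 4, 1, 0, 3, 1⟩⟩,
  ⟨12, true, ⟨0, 0, 4, 4, 1, 4, 2, 2, 0, 1, 4, 2, 0, 0, 1, 0⟩⟩,
  ⟨5, true, ⟨0, 0, 4, 1, 1, 1, 2, 3, 0, 4, 1, 1, 0, 0, 1, 0⟩⟩,
  ⟨7, false, ⟨0, 1, 4, 4, 4, 4, 1, 2, 4, 0, 4, 2, 0, 1, 3, 4⟩⟩,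
  ⟨11, true, ⟨1, 1, 2, 4, 1, 4, 0, 3, 2, 1, 1, 3, 1, 0, 4, 3⟩⟩,
  ⟨19, false, ⟨3, 2, 2, 2, 2, 4, 3, 4, 4, 1, 4, 2, 0, 0, 1, 1⟩⟩,
  ⟨16, true, ⟨4, 3, 0, 1, 1, 1, 3, 3, 1, 4, 0, 0, 0, 2, 1, 1⟩⟩,
  ⟨10, false, ⟨3, 0, 0, 0, 1, 1, 0, 4, 2, 0, 2, 3, 0, 0, 0, 1⟩⟩,
  ⟨17, false, ⟨3, 2, 2, 1, 2, 1, 4, 4, 0, 2, 3, 2, 0, 2, 1, 2⟩⟩,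
  ⟨35, false, ⟨2, 1, 3, 4, 1, 4, 1, 2, 3, 4, 4, 3, 0, 0, 2, 1⟩⟩,
  ⟨1, true, ⟨3, 2, 1, 3, 1, 0, 3, 1, 1, 4, 2, 4, 0, 0, 1, 1⟩⟩,
  ⟨1, false, ⟨2, 3, 3, 1, 1, 0, 2, 3, 4, 1, 1, 4, 0, 0, 1, 1⟩⟩,
  ⟨20, true, ⟨4, 4, 3, 3, 1, 2, 1, 0, 1, 2, 4, 1, 0, 1, 3, 4⟩⟩,
  ⟨5, true, ⟨1, 1, 0, 2, 1, 3, 0, 1, 4, 4, 4, 0, 0, 0, 2, 3⟩⟩,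
  ⟨18, true, ⟨4, 4, 1, 1, 3, 0, 3, 4, 0, 0, 0, 4, 1, 0, 3, 1⟩⟩,
  ⟨63, true, ⟨4, 1, 4, 2, 3, 1, 4, 3, 3, 3, 3, 2, 0, 2, 2, 1⟩⟩,
  ⟨10, true, ⟨2, 1, 1, 3, 1, 0, 3, 0, 2, 1, 1, 4, 0, 0, 1, 3⟩⟩,
  ⟨22, false, ⟨0, 0, 3, 4, 3, 4, 4, 3, 4, 3, 4, 2, 0, 0, 1, 2⟩⟩,
  ⟨15, true, ⟨0, 0, 3, 1, 3, 1, 4, 3, 4, 2, 4, 0, 0, 0, 1, 3⟩⟩,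
  ⟨3, false, ⟨3, 3, 3, 1, 0, 2, 4, 0, 2, 2, 4, 4, 0, 0, 2, 3⟩⟩,
  ⟨31, false, ⟨0, 1, 1, 2, 3, 3, 1, 4, 2, 4, 0, 1, 1, 0, 3, 1⟩⟩,
  ⟨4, true, ⟨0, 4, 2, 0, 1, 4, 0, 3, 4, 2, 2, 1, 1, 0, 4, 3⟩⟩,
  ⟨5, false, ⟨0, 1, 0, 1, 1, 0, 0, 0, 0, 3, 0, 4, 0, 0, 1, 0⟩⟩,
  ⟨2, false, ⟨4, 1, 0, 2, 0, 3, 3, 4, 1, 4, 4, 3, 0, 0, 2, 2⟩⟩,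
  ⟨2, true, ⟨3, 3, 0, 2, 2, 4, 1, 0, 2, 2, 4, 1, 0, 0, 2, 3⟩⟩,
  ⟨9, false, ⟨1, 0, 1, 0, 2, 3, 2, 4, 2, 0, 3, 1, 0, 0, 0, 2⟩⟩,
  ⟨8, false, ⟨4, 3, 2, 3, 2, 2, 3, 1, 4, 3, 3, 2, 0, 0, 1, 2⟩⟩,
  ⟨7, true, ⟨2, 0, 1, 0, 2, 1, 1, 1, 4, 3, 0, 2, 1, 0, 3, 1⟩⟩,
  ⟨3, false, ⟨3, 4, 3, 0, 0, 0, 4, 2, 3, 4, 3, 4, 1, 0, 3, 1⟩⟩,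
  ⟨16, true, ⟨4, 1, 3, 3, 4, 2, 3, 1, 1, 4, 0, 1, 0, 0, 1, 1⟩⟩,
  ⟨2, false, ⟨0, 1, 1, 4, 1, 4, 4, 2, 1, 4, 0, 3, 0, 1, 2, 4⟩⟩,
  ⟨2, true, ⟨1, 0, 0, 0, 0, 3, 0, 2, 4, 0, 1, 0, 0, 1, 0, 1⟩⟩,
  ⟨1, true, ⟨2, 3, 0, 3, 0, 3, 0, 3, 4, 1, 3, 1, 0, 0, 2, 2⟩⟩,
  ⟨1, false, ⟨3, 2, 3, 0, 1, 2, 0, 4, 1, 4, 4, 1, 0, 0, 2, 2⟩⟩,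
  ⟨39, false, ⟨2, 4, 4, 1, 2, 3, 0, 4, 3, 1, 2, 0, 0, 0, 2, 4⟩⟩,
  ⟨28, true, ⟨1, 3, 0, 0, 2, 4, 2, 1, 1, 1, 0, 2, 0, 1, 3, 4⟩⟩,
  ⟨5, true, ⟨1, 1, 1, 1, 0, 2, 0, 2, 4, 4, 0, 4, 0, 0, 2, 3⟩⟩,
  ⟨16, false, ⟨1, 1, 2, 0, 3, 2, 2, 4, 2, 4, 0, 0, 1, 0, 4, 3⟩⟩,
  ⟨8, false, ⟨2, 3, 4, 3, 0, 2, 4, 1, 3, 2, 4, 2, 0, 1, 0, 1⟩⟩,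
  ⟨37, true, ⟨3, 1, 4, 1, 1, 4, 1, 0, 1, 3, 1, 0, 0, 2, 2, 1⟩⟩,
  ⟨10, false, ⟨1, 2, 4, 1, 0, 4, 2, 1, 1, 2, 0, 1, 0, 0, 2, 4⟩⟩,
  ⟨30, false, ⟨0, 1, 4, 4, 2, 1, 4, 2, 2, 0, 2, 4, 0, 1, 2, 4⟩⟩,
  ⟨3, false, ⟨1, 1, 0, 1, 1, 3, 3, 0, 2, 2, 4, 4, 0, 0, 2, 3⟩⟩,
  ⟨17, false, ⟨1, 2, 0, 0, 3, 1, 2, 4, 2, 1, 2, 2, 0, 1, 3, 1⟩⟩,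
  ⟨4, true, ⟨4, 4, 0, 3, 0, 4, 1, 2, 2, 2, 4, 4, 0, 0, 1, 4⟩⟩,
  ⟨7, true, ⟨2, 1, 1, 4, 4, 4, 3, 4, 3, 4, 0, 0, 0, 0, 1, 3⟩⟩,
  ⟨1, true, ⟨3, 2, 3, 0, 4, 4, 3, 4, 1, 4, 2, 4, 0, 0, 2, 2⟩⟩,
  ⟨1, false, ⟨2, 3, 0, 3, 2, 1, 4, 0, 4, 1, 1, 4, 0, 0, 2, 2⟩⟩,
  ⟨56, true, ⟨4, 2, 1, 4, 1, 0, 2, 4, 4, 2, 1, 2, 0, 0, 1, 3⟩⟩,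
  ⟨26, true, ⟨1, 0, 4, 2, 0, 4, 3, 0, 4, 0, 2, 3, 0, 1, 2, 4⟩⟩,
  ⟨10, false, ⟨3, 4, 4, 2, 1, 0, 3, 0, 3, 4, 4, 1, 0, 0, 1, 3⟩⟩,
  ⟨3, false, ⟨3, 3, 2, 1, 0, 3, 2, 4, 3, 4, 3, 4, 1, 0, 3, 1⟩⟩,
  ⟨6, false, ⟨0, 0, 1, 3, 3, 4, 3, 0, 0, 3, 3, 4, 0, 0, 2, 0⟩⟩,
  ⟨6, true, ⟨0, 2, 2, 2, 1, 0, 3, 1, 0, 4, 4, 2, 0, 0, 1, 0⟩⟩,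
  ⟨16, true, ⟨4, 1, 4, 4, 1, 0, 3, 2, 1, 4, 1, 2, 0, 0, 1, 1⟩⟩,
  ⟨8, false, ⟨1, 2, 4, 2, 4, 2, 4, 3, 3, 1, 0, 0, 0, 0, 2, 4⟩⟩,
  ⟨19, false, ⟨3, 2, 2, 2, 2, 4, 0, 1, 4, 1, 4, 2, 0, 0, 1, 1⟩⟩,
  ⟨30, false, ⟨4, 3, 2, 0, 3, 1, 1, 4, 1, 0, 3, 2, 0, 1, 2, 4⟩⟩,
  ⟨12, false, ⟨0, 4, 2, 1, 0, 4, 1, 1, 4, 0, 1, 1, 1, 0, 4, 3⟩⟩]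

/-- Certificates. -/
def data9 : List (Cert (ZMod 5)) := [
  ⟨26, true, ⟨0, 2, 1, 3, 4, 4, 2, 3, 2, 0, 2, 4, 0, 1, 2, 4⟩⟩,
  ⟨6, true, ⟨0, 0, 1, 3, 4, 2, 4, 2, 3, 2, 2, 4, 0, 0, 1, 1⟩⟩,
  ⟨25, true, ⟨4, 2, 4, 0, 3, 4, 1, 4, 1, 1, 0, 0, 0, 1, 0, 0⟩⟩,
  ⟨44, false, ⟨0, 4, 2, 2, 0, 3, 3, 4, 3, 1, 0, 1, 1, 0, 4, 3⟩⟩,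
  ⟨15, true, ⟨2, 3, 2, 4, 2, 1, 2, 3, 4, 1, 0, 1, 0, 0, 2, 2⟩⟩,
  ⟨6, false, ⟨0, 0, 1, 3, 2, 1, 0, 2, 1, 1, 2, 3, 0, 0, 1, 4⟩⟩,
  ⟨3, false, ⟨4, 4, 2, 1, 2, 4, 2, 0, 2, 2, 4, 4, 0, 0, 2, 3⟩⟩,
  ⟨7, true, ⟨0, 1, 4, 3, 2, 3, 0, 2, 4, 0, 2, 2, 0, 2, 1, 1⟩⟩,
  ⟨11, true, ⟨1, 1, 1, 2, 0, 4, 1, 2, 1, 1, 2, 2, 0, 0, 1, 4⟩⟩,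
  ⟨1, true, ⟨2, 3, 3, 1, 2, 4, 0, 0, 4, 1, 3, 1, 0, 0, 1, 1⟩⟩,
  ⟨1, false, ⟨3, 2, 1, 3, 0, 1, 3, 2, 1, 4, 4, 1, 0, 0, 1, 1⟩⟩,
  ⟨45, false, ⟨4, 0, 2, 0, 1, 2, 3, 1, 2, 1, 0, 1, 0, 1, 0, 1⟩⟩,
  ⟨4, true, ⟨3, 1, 0, 3, 3, 2, 2, 0, 4, 2, 2, 1, 1, 0, 4, 3⟩⟩,
  ⟨12, true, ⟨0, 1, 0, 2, 1, 1, 3, 2, 0, 4, 4, 4, 0, 0, 1, 0⟩⟩,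
  ⟨18, true, ⟨2, 1, 0, 4, 2, 3, 4, 4, 3, 4, 2, 3, 0, 0, 1, 3⟩⟩,
  ⟨8, true, ⟨4, 0, 2, 3, 3, 1, 1, 4, 3, 0, 3, 4, 0, 0, 0, 1⟩⟩,
  ⟨48, false, ⟨2, 4, 1, 4, 4, 2, 1, 0, 0, 0, 4, 2, 0, 0, 2, 4⟩⟩,
  ⟨15, true, ⟨0, 0, 4, 2, 1, 3, 1, 0, 0, 2, 1, 3, 0, 0, 1, 0⟩⟩,
  ⟨24, true, ⟨0, 0, 0, 4, 1, 0, 2, 4, 3, 1, 0, 2, 1, 0, 3, 1⟩⟩,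
  ⟨11, true, ⟨3, 4, 4, 1, 0, 0, 4, 2, 2, 1, 1, 3, 1, 0, 4, 3⟩⟩,
  ⟨3, false, ⟨3, 2, 1, 2, 0, 1, 0, 1, 3, 4, 3, 4, 1, 0, 3, 1⟩⟩,
  ⟨18, true, ⟨2, 4, 0, 0, 2, 0, 4, 3, 3, 4, 2, 3, 0, 2, 1, 2⟩⟩,
  ⟨23, false, ⟨2, 4, 1, 0, 1, 0, 1, 1, 0, 2, 2, 3, 0, 1, 2, 4⟩⟩,
  ⟨33, false, ⟨1, 4, 1, 2, 2, 2, 1, 0, 2, 4, 1, 0, 0, 2, 1, 2⟩⟩,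
  ⟨8, false, ⟨2, 1, 0, 1, 1, 4, 4, 1, 1, 3, 2, 0, 0, 0, 2, 1⟩⟩,
  ⟨19, false, ⟨3, 2, 2, 2, 2, 4, 1, 2, 4, 1, 4, 2, 0, 0, 1, 1⟩⟩,
  ⟨5, false, ⟨1, 1, 1, 2, 2, 1, 3, 1, 2, 2, 1, 1, 0, 0, 1, 4⟩⟩,
  ⟨7, false, ⟨4, 0, 2, 2, 0, 2, 1, 2, 0, 3, 3, 3, 1, 0, 3, 1⟩⟩,
  ⟨10, false, ⟨0, 0, 2, 2, 1, 4, 3, 0, 0, 2, 4, 4, 0, 0, 1, 0⟩⟩,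
  ⟨2, false, ⟨0, 3, 4, 2, 3, 4, 2, 0, 0, 3, 3, 4, 0, 0, 2, 0⟩⟩,
  ⟨2, true, ⟨0, 1, 1, 4, 1, 0, 0, 1, 0, 4, 4, 2, 0, 0, 1, 0⟩⟩,
  ⟨11, true, ⟨0, 0, 2, 2, 3, 2, 3, 2, 1, 1, 2, 2, 0, 0, 1, 4⟩⟩,
  ⟨8, true, ⟨1, 1, 4, 0, 3, 2, 1, 1, 4, 4, 4, 3, 0, 0, 1, 4⟩⟩,
  ⟨12, true, ⟨0, 0, 0, 1, 1, 0, 1, 4, 0, 4, 1, 3, 0, 0, 1, 0⟩⟩,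
  ⟨3, false, ⟨2, 2, 4, 1, 3, 0, 1, 0, 2, 2, 4, 4, 0, 0, 2, 3⟩⟩,
  ⟨4, true, ⟨2, 2, 2, 3, 2, 1, 4, 2, 2, 2, 4, 4, 0, 0, 1, 4⟩⟩,
  ⟨7, false, ⟨1, 3, 2, 2, 1, 4, 4, 2, 2, 4, 4, 3, 0, 2, 1, 1⟩⟩,
  ⟨4, true, ⟨2, 2, 4, 2, 4, 1, 3, 1, 4, 2, 2, 1, 1, 0, 4, 3⟩⟩,
  ⟨6, true, ⟨2, 0, 4, 0, 0, 1, 0, 0, 4, 0, 1, 0, 0, 1, 0, 1⟩⟩,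
  ⟨66, false, ⟨2, 1, 2, 3, 0, 1, 3, 2, 4, 2, 2, 1, 0, 0, 2, 1⟩⟩,
  ⟨24, true, ⟨3, 1, 4, 0, 0, 3, 4, 3, 2, 4, 3, 0, 0, 0, 1, 2⟩⟩,
  ⟨8, false, ⟨3, 3, 0, 2, 3, 3, 3, 4, 4, 2, 0, 0, 0, 2, 2, 1⟩⟩,
  ⟨7, true, ⟨3, 0, 4, 0, 3, 3, 4, 4, 3, 4, 1, 0, 0, 1, 0, 0⟩⟩,
  ⟨3, false, ⟨3, 1, 0, 3, 0, 4, 3, 3, 3, 4, 3, 4, 1, 0, 3, 1⟩⟩,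
  ⟨16, false, ⟨1, 4, 1, 0, 1, 2, 3, 2, 2, 3, 1, 3, 0, 0, 2, 2⟩⟩,
  ⟨5, true, ⟨1, 2, 0, 0, 1, 1, 2, 4, 1, 1, 1, 0, 0, 1, 0, 0⟩⟩,
  ⟨24, true, ⟨0, 0, 0, 4, 3, 0, 3, 2, 1, 1, 0, 4, 0, 0, 2, 3⟩⟩,
  ⟨16, true, ⟨1, 3, 1, 0, 1, 4, 3, 1, 4, 2, 3, 4, 0, 0, 2, 1⟩⟩,
  ⟨8, true, ⟨3, 4, 2, 3, 3, 2, 4, 0, 0, 4, 4, 4, 0, 1, 3, 1⟩⟩,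
  ⟨25, true, ⟨1, 2, 1, 0, 4, 0, 1, 4, 4, 4, 0, 0, 0, 1, 0, 0⟩⟩,
  ⟨40, true, ⟨3, 0, 2, 1, 4, 1, 3, 4, 4, 2, 2, 2, 1, 0, 4, 3⟩⟩,
  ⟨7, true, ⟨0, 3, 0, 2, 2, 0, 1, 0, 4, 1, 2, 1, 0, 1, 3, 4⟩⟩,
  ⟨43, false, ⟨2, 1, 1, 3, 1, 4, 3, 2, 4, 2, 4, 3, 0, 0, 2, 1⟩⟩,
  ⟨8, false, ⟨0, 2, 3, 2, 1, 0, 2, 4, 3, 0, 1, 0, 0, 1, 0, 1⟩⟩,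
  ⟨28, true, ⟨2, 2, 2, 2, 1, 3, 2, 2, 2, 4, 0, 4, 0, 1, 0, 1⟩⟩,
  ⟨31, true, ⟨1, 0, 0, 3, 4, 0, 0, 4, 1, 2, 2, 4, 0, 2, 1, 1⟩⟩,
  ⟨20, true, ⟨2, 1, 1, 4, 1, 3, 2, 4, 3, 3, 4, 3, 0, 2, 1, 1⟩⟩,
  ⟨3, false, ⟨0, 0, 1, 1, 4, 1, 0, 0, 2, 2, 4, 4, 0, 0, 2, 3⟩⟩,
  ⟨18, true, ⟨0, 2, 3, 3, 3, 3, 3, 4, 0, 1, 1, 2, 0, 0, 2, 0⟩⟩,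
  ⟨9, true, ⟨0, 2, 4, 1, 2, 4, 0, 1, 2, 2, 0, 3, 0, 2, 2, 1⟩⟩,
  ⟨4, true, ⟨1, 1, 3, 3, 3, 2, 3, 2, 2, 2, 4, 4, 0, 0, 1, 4⟩⟩,
  ⟨2, false, ⟨1, 1, 3, 1, 2, 1, 2, 0, 1, 1, 2, 3, 0, 0, 1, 4⟩⟩,
  ⟨2, true, ⟨3, 2, 3, 2, 4, 2, 1, 4, 3, 2, 2, 4, 0, 0, 1, 1⟩⟩,
  ⟨20, true, ⟨1, 4, 3, 2, 3, 0, 2, 3, 2, 0, 3, 1, 0, 1, 3, 1⟩⟩,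
  ⟨7, false, ⟨0, 3, 3, 3, 4, 0, 0, 4, 1, 2, 2, 0, 0, 2, 1, 2⟩⟩,
  ⟨20, false, ⟨0, 3, 0, 3, 1, 3, 3, 3, 4, 0, 1, 2, 0, 2, 1, 2⟩⟩,
  ⟨8, false, ⟨3, 1, 2, 1, 3, 2, 4, 1, 1, 0, 4, 1, 0, 2, 2, 1⟩⟩,
  ⟨23, false, ⟨2, 2, 3, 2, 2, 2, 4, 1, 4, 3, 1, 1, 0, 1, 3, 3⟩⟩,
  ⟨6, true, ⟨4, 0, 2, 3, 1, 1, 0, 0, 1, 1, 4, 1, 0, 1, 2, 4⟩⟩,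
  ⟨19, false, ⟨3, 2, 4, 4, 0, 3, 3, 4, 4, 1, 4, 2, 0, 0, 2, 2⟩⟩,
  ⟨0, false, ⟨0, 4, 3, 2, 2, 0, 3, 4, 1, 1, 1, 4, 0, 2, 2, 1⟩⟩,
  ⟨12, false, ⟨1, 1, 2, 4, 3, 0, 1, 0, 4, 4, 3, 2, 1, 0, 4, 3⟩⟩,
  ⟨6, true, ⟨2, 1, 3, 4, 2, 2, 3, 3, 1, 3, 0, 1, 0, 0, 2, 1⟩⟩,
  ⟨3, false, ⟨2, 1, 1, 3, 1, 2, 4, 4, 0, 1, 3, 3, 1, 0, 4, 3⟩⟩,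
  ⟨9, true, ⟨0, 0, 4, 0, 0, 1, 0, 2, 1, 4, 3, 3, 0, 0, 1, 1⟩⟩,
  ⟨5, true, ⟨3, 4, 1, 0, 0, 0, 3, 4, 3, 4, 3, 0, 0, 1, 1, 3⟩⟩,
  ⟨6, true, ⟨2, 3, 4, 1, 4, 4, 2, 2, 4, 1, 2, 3, 0, 0, 2, 2⟩⟩,
  ⟨28, false, ⟨0, 3, 2, 4, 1, 4, 4, 1, 0, 1, 1, 0, 0, 0, 1, 0⟩⟩,
  ⟨0, false, ⟨0, 0, 2, 2, 2, 3, 0, 2, 2, 0, 0, 0, 0, 0, 0, 2⟩⟩,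
  ⟨3, false, ⟨0, 0, 1, 4, 2, 2, 1, 3, 1, 2, 3, 3, 0, 0, 1, 2⟩⟩,
  ⟨2, true, ⟨2, 3, 0, 1, 0, 0, 4, 4, 4, 1, 3, 2, 0, 1, 2, 4⟩⟩,
  ⟨4, false, ⟨2, 2, 3, 3, 4, 3, 1, 2, 3, 3, 3, 4, 0, 0, 1, 4⟩⟩,
  ⟨51, false, ⟨1, 2, 1, 0, 4, 0, 2, 1, 4, 4, 3, 1, 0, 1, 3, 1⟩⟩,
  ⟨9, true, ⟨2, 3, 1, 4, 4, 1, 1, 2, 2, 1, 3, 2, 0, 1, 3, 1⟩⟩,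
  ⟨1, true, ⟨2, 3, 3, 1, 2, 4, 1, 1, 4, 1, 3, 1, 0, 0, 1, 1⟩⟩,
  ⟨1, false, ⟨3, 2, 1, 3, 0, 1, 4, 3, 1, 4, 4, 1, 0, 0, 1, 1⟩⟩,
  ⟨34, false, ⟨3, 1, 0, 0, 4, 1, 2, 4, 2, 1, 2, 0, 0, 1, 0, 0⟩⟩,
  ⟨1, true, ⟨3, 2, 3, 0, 4, 4, 0, 1, 1, 4, 2, 4, 0, 0, 2, 2⟩⟩,
  ⟨1, false, ⟨2, 3, 0, 3, 2, 1, 1, 2, 4, 1, 1, 4, 0, 0, 2, 2⟩⟩,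
  ⟨6, true, ⟨0, 0, 0, 3, 3, 0, 4, 4, 0, 3, 4, 4, 0, 0, 2, 0⟩⟩]

/-- Certificates. -/
def data10 : List (Cert (ZMod 5)) := [
  ⟨16, false, ⟨0, 1, 0, 1, 1, 4, 3, 4, 2, 3, 2, 4, 0, 2, 1, 2⟩⟩,
  ⟨23, false, ⟨1, 3, 3, 1, 1, 0, 0, 1, 3, 4, 4, 0, 0, 0, 1, 3⟩⟩,
  ⟨19, false, ⟨3, 2, 4, 4, 0, 3, 4, 0, 4, 1, 4, 2, 0, 0, 2, 2⟩⟩,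
  ⟨0, false, ⟨1, 2, 1, 2, 3, 3, 1, 4, 1, 1, 1, 4, 0, 2, 2, 1⟩⟩,
  ⟨5, true, ⟨1, 3, 1, 4, 4, 0, 3, 2, 0, 1, 3, 4, 0, 1, 2, 4⟩⟩,
  ⟨20, true, ⟨3, 3, 0, 0, 0, 2, 1, 4, 2, 2, 2, 0, 0, 1, 0, 0⟩⟩,
  ⟨3, false, ⟨3, 4, 4, 0, 3, 3, 0, 3, 0, 1, 3, 3, 1, 0, 4, 3⟩⟩,
  ⟨10, false, ⟨2, 0, 0, 4, 4, 1, 2, 1, 0, 0, 3, 3, 0, 0, 0, 1⟩⟩,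
  ⟨16, false, ⟨1, 3, 3, 3, 3, 1, 1, 2, 2, 1, 4, 2, 0, 0, 1, 3⟩⟩,
  ⟨18, false, ⟨4, 1, 2, 3, 3, 2, 3, 0, 4, 4, 0, 1, 0, 1, 3, 1⟩⟩,
  ⟨15, false, ⟨1, 1, 4, 4, 1, 0, 2, 2, 2, 1, 1, 2, 0, 1, 3, 1⟩⟩,
  ⟨0, false, ⟨3, 0, 2, 0, 0, 3, 0, 0, 2, 0, 0, 0, 0, 0, 0, 2⟩⟩,
  ⟨3, false, ⟨2, 4, 1, 3, 1, 0, 1, 1, 1, 2, 3, 3, 0, 0, 1, 2⟩⟩,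
  ⟨2, true, ⟨0, 1, 1, 4, 1, 3, 4, 3, 1, 1, 4, 1, 0, 1, 2, 4⟩⟩,
  ⟨9, true, ⟨0, 4, 1, 0, 1, 0, 0, 4, 0, 0, 0, 4, 0, 0, 1, 0⟩⟩,
  ⟨20, true, ⟨2, 0, 1, 0, 0, 0, 0, 4, 1, 0, 1, 0, 0, 1, 0, 1⟩⟩,
  ⟨4, false, ⟨3, 3, 2, 3, 3, 2, 2, 2, 3, 3, 3, 4, 0, 0, 1, 4⟩⟩,
  ⟨22, true, ⟨0, 0, 2, 3, 1, 1, 0, 2, 3, 1, 3, 4, 0, 0, 2, 4⟩⟩,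
  ⟨36, true, ⟨0, 4, 4, 2, 1, 4, 0, 3, 0, 0, 4, 4, 0, 0, 1, 0⟩⟩,
  ⟨11, false, ⟨2, 2, 2, 2, 1, 0, 4, 2, 4, 4, 4, 2, 0, 0, 1, 4⟩⟩,
  ⟨25, false, ⟨3, 3, 1, 3, 1, 3, 3, 2, 4, 2, 0, 2, 0, 1, 0, 1⟩⟩,
  ⟨16, true, ⟨0, 0, 4, 1, 4, 4, 0, 1, 2, 1, 0, 4, 0, 0, 1, 3⟩⟩,
  ⟨4, false, ⟨1, 0, 3, 2, 0, 4, 3, 2, 3, 4, 3, 3, 1, 0, 3, 1⟩⟩,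
  ⟨2, true, ⟨4, 4, 0, 1, 2, 1, 0, 4, 4, 4, 1, 4, 0, 0, 1, 4⟩⟩,
  ⟨23, true, ⟨2, 1, 1, 2, 1, 4, 4, 1, 4, 4, 1, 1, 0, 1, 3, 1⟩⟩,
  ⟨19, false, ⟨2, 3, 4, 4, 4, 4, 1, 0, 1, 4, 1, 3, 0, 0, 2, 2⟩⟩,
  ⟨0, false, ⟨2, 0, 4, 2, 4, 1, 4, 4, 1, 1, 1, 4, 0, 2, 2, 1⟩⟩,
  ⟨15, false, ⟨0, 2, 3, 2, 1, 3, 0, 2, 3, 0, 0, 0, 0, 1, 0, 1⟩⟩,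
  ⟨9, true, ⟨4, 4, 1, 4, 1, 4, 0, 3, 1, 2, 3, 2, 0, 1, 0, 1⟩⟩,
  ⟨16, false, ⟨1, 4, 0, 4, 3, 0, 0, 0, 2, 3, 0, 2, 0, 0, 2, 2⟩⟩,
  ⟨7, true, ⟨0, 1, 2, 0, 1, 3, 4, 2, 0, 2, 1, 1, 0, 0, 1, 0⟩⟩,
  ⟨2, true, ⟨2, 3, 3, 3, 3, 0, 1, 4, 4, 2, 4, 2, 0, 1, 0, 1⟩⟩,
  ⟨17, true, ⟨0, 0, 2, 3, 4, 4, 2, 4, 4, 2, 2, 2, 0, 0, 1, 3⟩⟩,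
  ⟨1, true, ⟨2, 3, 0, 3, 0, 3, 2, 0, 4, 1, 3, 1, 0, 0, 2, 2⟩⟩,
  ⟨1, false, ⟨3, 2, 3, 0, 1, 2, 2, 1, 1, 4, 4, 1, 0, 0, 2, 2⟩⟩,
  ⟨22, false, ⟨1, 1, 3, 4, 1, 0, 0, 3, 3, 1, 3, 1, 0, 2, 2, 1⟩⟩,
  ⟨1, true, ⟨3, 2, 1, 3, 1, 0, 4, 2, 1, 4, 2, 4, 0, 0, 1, 1⟩⟩,
  ⟨1, false, ⟨2, 3, 3, 1, 1, 0, 3, 4, 4, 1, 1, 4, 0, 0, 1, 1⟩⟩,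
  ⟨33, true, ⟨0, 2, 2, 3, 3, 2, 4, 1, 0, 4, 2, 4, 0, 0, 2, 0⟩⟩,
  ⟨0, false, ⟨1, 0, 2, 3, 3, 3, 0, 3, 2, 0, 0, 0, 0, 0, 0, 2⟩⟩,
  ⟨3, false, ⟨4, 3, 1, 2, 0, 3, 1, 4, 1, 2, 3, 3, 0, 0, 1, 2⟩⟩,
  ⟨4, false, ⟨4, 4, 1, 3, 2, 1, 3, 2, 3, 3, 3, 4, 0, 0, 1, 4⟩⟩,
  ⟨11, false, ⟨3, 3, 1, 2, 3, 2, 2, 2, 4, 4, 4, 2, 0, 0, 1, 4⟩⟩,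
  ⟨15, false, ⟨0, 0, 1, 0, 0, 2, 4, 4, 4, 4, 3, 1, 0, 2, 1, 2⟩⟩,
  ⟨7, true, ⟨0, 0, 4, 0, 0, 0, 4, 2, 1, 3, 0, 1, 0, 2, 1, 2⟩⟩,
  ⟨10, true, ⟨1, 2, 4, 4, 4, 1, 4, 3, 0, 0, 2, 2, 0, 0, 1, 2⟩⟩,
  ⟨2, true, ⟨1, 4, 1, 4, 4, 4, 1, 1, 4, 1, 2, 3, 0, 0, 2, 2⟩⟩,
  ⟨4, false, ⟨2, 2, 3, 3, 4, 2, 3, 1, 3, 4, 3, 3, 1, 0, 3, 1⟩⟩,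
  ⟨5, true, ⟨0, 4, 2, 3, 0, 1, 2, 2, 1, 1, 2, 4, 1, 0, 4, 3⟩⟩,
  ⟨20, true, ⟨4, 3, 2, 1, 0, 1, 0, 2, 0, 0, 4, 0, 0, 1, 3, 3⟩⟩,
  ⟨66, true, ⟨1, 3, 0, 2, 0, 3, 2, 3, 3, 4, 1, 1, 0, 1, 3, 3⟩⟩,
  ⟨15, false, ⟨0, 2, 1, 4, 3, 0, 1, 4, 0, 4, 2, 1, 0, 0, 2, 0⟩⟩,
  ⟨24, false, ⟨0, 4, 2, 0, 1, 4, 0, 3, 4, 3, 0, 1, 1, 0, 4, 3⟩⟩,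
  ⟨17, true, ⟨0, 1, 1, 0, 3, 2, 2, 3, 0, 3, 4, 1, 0, 0, 2, 0⟩⟩,
  ⟨0, false, ⟨3, 3, 2, 2, 0, 4, 2, 4, 1, 1, 1, 4, 0, 2, 2, 1⟩⟩,
  ⟨24, true, ⟨0, 4, 4, 0, 1, 3, 0, 1, 3, 1, 0, 2, 1, 0, 3, 1⟩⟩,
  ⟨40, false, ⟨1, 1, 4, 3, 2, 4, 4, 1, 1, 0, 3, 2, 1, 0, 3, 1⟩⟩,
  ⟨3, false, ⟨0, 0, 0, 4, 2, 0, 2, 1, 0, 1, 3, 3, 1, 0, 4, 3⟩⟩,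
  ⟨9, true, ⟨1, 1, 3, 4, 1, 0, 0, 3, 0, 0, 0, 1, 0, 0, 1, 4⟩⟩,
  ⟨2, true, ⟨0, 3, 4, 2, 3, 0, 3, 4, 0, 3, 4, 4, 0, 0, 2, 0⟩⟩,
  ⟨20, false, ⟨3, 3, 0, 4, 0, 4, 4, 3, 4, 4, 2, 2, 0, 0, 1, 4⟩⟩,
  ⟨12, true, ⟨0, 0, 2, 0, 0, 1, 2, 3, 2, 0, 0, 4, 0, 1, 2, 4⟩⟩,
  ⟨0, false, ⟨4, 0, 2, 1, 1, 3, 0, 1, 2, 0, 0, 0, 0, 0, 0, 2⟩⟩,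
  ⟨3, false, ⟨1, 2, 1, 1, 4, 1, 1, 2, 1, 2, 3, 3, 0, 0, 1, 2⟩⟩,
  ⟨8, false, ⟨1, 0, 4, 0, 1, 2, 4, 0, 4, 2, 2, 2, 1, 0, 4, 3⟩⟩,
  ⟨12, false, ⟨3, 4, 4, 3, 2, 4, 4, 2, 1, 1, 2, 3, 1, 0, 4, 3⟩⟩,
  ⟨4, false, ⟨0, 0, 0, 3, 1, 0, 4, 2, 3, 3, 3, 4, 0, 0, 1, 4⟩⟩,
  ⟨5, true, ⟨4, 1, 4, 3, 2, 1, 0, 1, 1, 1, 1, 4, 0, 1, 3, 1⟩⟩,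
  ⟨30, true, ⟨2, 0, 2, 1, 4, 1, 2, 2, 1, 0, 4, 1, 0, 0, 0, 1⟩⟩,
  ⟨2, true, ⟨1, 0, 1, 3, 1, 2, 2, 1, 3, 3, 3, 3, 0, 2, 1, 1⟩⟩,
  ⟨11, false, ⟨4, 4, 0, 2, 0, 4, 0, 2, 4, 4, 4, 2, 0, 0, 1, 4⟩⟩,
  ⟨19, false, ⟨2, 3, 4, 4, 4, 4, 4, 3, 1, 4, 1, 3, 0, 0, 2, 2⟩⟩,
  ⟨4, false, ⟨3, 4, 3, 4, 3, 0, 3, 0, 3, 4, 3, 3, 1, 0, 3, 1⟩⟩,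
  ⟨10, true, ⟨4, 4, 3, 2, 4, 1, 1, 0, 0, 0, 2, 2, 0, 0, 2, 3⟩⟩,
  ⟨9, true, ⟨4, 3, 4, 1, 4, 2, 1, 3, 4, 3, 1, 2, 0, 0, 2, 4⟩⟩,
  ⟨33, false, ⟨4, 3, 1, 0, 3, 4, 3, 2, 0, 0, 2, 1, 0, 0, 1, 2⟩⟩,
  ⟨7, true, ⟨3, 3, 0, 3, 0, 1, 3, 3, 2, 2, 2, 2, 0, 1, 2, 4⟩⟩,
  ⟨0, false, ⟨4, 1, 0, 2, 1, 2, 0, 4, 1, 1, 1, 4, 0, 2, 2, 1⟩⟩,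
  ⟨5, true, ⟨0, 4, 4, 3, 1, 2, 0, 0, 0, 3, 0, 0, 0, 0, 1, 0⟩⟩,
  ⟨9, true, ⟨0, 2, 1, 1, 2, 3, 1, 0, 1, 4, 1, 3, 1, 0, 4, 3⟩⟩,
  ⟨16, true, ⟨4, 1, 1, 1, 0, 1, 3, 4, 1, 4, 3, 4, 0, 0, 1, 1⟩⟩,
  ⟨54, false, ⟨0, 3, 4, 3, 3, 4, 2, 3, 0, 0, 4, 2, 0, 0, 2, 0⟩⟩,
  ⟨6, true, ⟨3, 2, 3, 0, 1, 3, 0, 4, 3, 3, 3, 3, 0, 2, 1, 1⟩⟩,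
  ⟨49, false, ⟨0, 2, 3, 1, 3, 0, 4, 2, 0, 2, 3, 4, 0, 0, 2, 0⟩⟩,
  ⟨7, true, ⟨2, 2, 0, 1, 2, 4, 2, 0, 4, 4, 1, 4, 0, 0, 2, 3⟩⟩,
  ⟨3, false, ⟨1, 3, 3, 1, 4, 1, 3, 0, 0, 1, 3, 3, 1, 0, 4, 3⟩⟩,
  ⟨3, false, ⟨3, 1, 1, 0, 3, 4, 1, 0, 1, 2, 3, 3, 0, 0, 1, 2⟩⟩,
  ⟨7, true, ⟨3, 3, 0, 3, 0, 1, 1, 0, 2, 2, 2, 2, 0, 1, 0, 1⟩⟩,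
  ⟨9, true, ⟨0, 1, 0, 3, 1, 1, 2, 3, 0, 4, 4, 3, 0, 0, 1, 0⟩⟩,
  ⟨15, false, ⟨0, 0, 3, 1, 2, 4, 4, 3, 2, 3, 0, 3, 0, 0, 1, 1⟩⟩]

/-- Certificates. -/
def data11 : List (Cert (ZMod 5)) := [
  ⟨0, false, ⟨2, 0, 2, 4, 4, 3, 0, 4, 2, 0, 0, 0, 0, 0, 0, 2⟩⟩,
  ⟨4, false, ⟨1, 1, 4, 3, 0, 4, 0, 2, 3, 3, 3, 4, 0, 0, 1, 4⟩⟩,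
  ⟨2, true, ⟨3, 4, 3, 0, 2, 2, 2, 0, 1, 3, 0, 1, 0, 0, 2, 1⟩⟩,
  ⟨11, false, ⟨0, 0, 4, 2, 2, 1, 3, 2, 4, 4, 4, 2, 0, 0, 1, 4⟩⟩,
  ⟨8, false, ⟨4, 4, 1, 0, 4, 3, 0, 1, 1, 1, 2, 1, 0, 0, 1, 4⟩⟩,
  ⟨6, true, ⟨2, 1, 3, 2, 2, 3, 0, 2, 1, 3, 1, 3, 0, 0, 1, 3⟩⟩,
  ⟨8, false, ⟨0, 3, 3, 3, 1, 3, 3, 4, 0, 2, 1, 4, 0, 0, 1, 0⟩⟩,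
  ⟨4, false, ⟨4, 1, 3, 0, 2, 3, 3, 4, 3, 4, 3, 3, 1, 0, 3, 1⟩⟩,
  ⟨7, true, ⟨3, 3, 0, 3, 0, 1, 4, 2, 2, 2, 2, 2, 0, 1, 3, 3⟩⟩,
  ⟨6, true, ⟨3, 1, 4, 1, 3, 3, 1, 2, 4, 2, 4, 2, 0, 1, 0, 1⟩⟩,
  ⟨23, true, ⟨3, 0, 1, 4, 4, 3, 2, 0, 3, 2, 4, 0, 0, 1, 3, 3⟩⟩,
  ⟨0, true, ⟨0, 4, 4, 4, 4, 4, 2, 3, 2, 2, 2, 3, 0, 2, 1, 2⟩⟩,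
  ⟨17, true, ⟨0, 0, 0, 4, 3, 0, 1, 2, 3, 1, 0, 0, 1, 0, 4, 3⟩⟩,
  ⟨31, false, ⟨0, 0, 2, 3, 4, 4, 1, 4, 4, 2, 3, 0, 0, 0, 1, 3⟩⟩,
  ⟨23, false, ⟨0, 0, 4, 1, 1, 1, 2, 4, 0, 4, 3, 3, 0, 0, 1, 0⟩⟩,
  ⟨14, false, ⟨1, 3, 1, 1, 4, 4, 0, 1, 3, 3, 2, 0, 1, 0, 3, 1⟩⟩,
  ⟨1, false, ⟨3, 4, 0, 1, 4, 4, 4, 3, 0, 2, 3, 1, 0, 1, 3, 3⟩⟩,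
  ⟨10, false, ⟨2, 0, 1, 3, 1, 3, 0, 3, 0, 4, 4, 1, 1, 0, 3, 1⟩⟩,
  ⟨0, true, ⟨1, 3, 1, 2, 4, 3, 1, 3, 4, 2, 2, 4, 0, 0, 2, 1⟩⟩,
  ⟨11, true, ⟨1, 2, 3, 1, 3, 4, 0, 4, 0, 0, 3, 4, 0, 0, 1, 2⟩⟩,
  ⟨32, true, ⟨3, 3, 2, 0, 2, 3, 4, 4, 4, 0, 3, 0, 0, 1, 0, 0⟩⟩,
  ⟨31, true, ⟨1, 2, 4, 0, 4, 2, 4, 1, 1, 2, 2, 4, 0, 0, 2, 4⟩⟩,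
  ⟨7, false, ⟨3, 2, 3, 0, 4, 2, 1, 2, 0, 0, 4, 2, 0, 0, 1, 1⟩⟩,
  ⟨1, false, ⟨1, 4, 4, 3, 1, 1, 3, 1, 0, 3, 4, 4, 0, 2, 2, 1⟩⟩,
  ⟨8, false, ⟨2, 2, 4, 2, 4, 0, 2, 1, 2, 0, 1, 1, 0, 1, 3, 3⟩⟩,
  ⟨72, true, ⟨3, 2, 3, 1, 0, 3, 1, 0, 4, 1, 1, 3, 0, 2, 1, 2⟩⟩,
  ⟨2, true, ⟨1, 0, 0, 3, 1, 4, 2, 3, 4, 4, 3, 3, 0, 1, 3, 4⟩⟩,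
  ⟨8, true, ⟨3, 4, 2, 0, 2, 2, 1, 4, 3, 4, 1, 1, 0, 0, 2, 1⟩⟩,
  ⟨4, true, ⟨4, 3, 4, 4, 2, 2, 0, 2, 1, 2, 2, 0, 0, 0, 1, 2⟩⟩,
  ⟨11, true, ⟨2, 4, 1, 3, 2, 2, 0, 2, 3, 1, 1, 0, 0, 0, 1, 2⟩⟩,
  ⟨24, true, ⟨0, 0, 0, 1, 3, 0, 3, 1, 2, 4, 0, 3, 0, 0, 2, 4⟩⟩,
  ⟨7, false, ⟨1, 1, 0, 1, 4, 1, 1, 0, 3, 3, 3, 1, 0, 0, 2, 3⟩⟩,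
  ⟨12, true, ⟨4, 3, 4, 3, 1, 3, 3, 2, 1, 4, 2, 3, 0, 2, 2, 1⟩⟩,
  ⟨10, true, ⟨3, 4, 4, 3, 4, 0, 0, 4, 4, 2, 2, 3, 1, 0, 4, 3⟩⟩,
  ⟨5, false, ⟨4, 4, 4, 4, 3, 0, 0, 3, 3, 3, 3, 2, 0, 0, 2, 3⟩⟩,
  ⟨2, true, ⟨0, 0, 0, 1, 3, 0, 1, 0, 4, 4, 3, 3, 1, 0, 4, 3⟩⟩,
  ⟨1, false, ⟨1, 0, 0, 3, 4, 2, 1, 2, 1, 1, 4, 1, 0, 1, 3, 3⟩⟩,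
  ⟨10, false, ⟨0, 0, 3, 0, 0, 2, 1, 4, 3, 3, 2, 0, 0, 0, 2, 3⟩⟩,
  ⟨8, false, ⟨4, 3, 0, 1, 3, 1, 4, 0, 0, 4, 2, 4, 1, 0, 4, 3⟩⟩,
  ⟨2, true, ⟨0, 0, 1, 4, 2, 2, 1, 1, 3, 4, 2, 4, 0, 0, 2, 1⟩⟩,
  ⟨16, true, ⟨0, 0, 1, 3, 4, 2, 0, 3, 3, 2, 1, 1, 0, 0, 1, 1⟩⟩,
  ⟨7, true, ⟨3, 2, 0, 4, 1, 0, 0, 0, 2, 1, 0, 0, 0, 1, 1, 3⟩⟩,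
  ⟨17, true, ⟨2, 3, 4, 3, 0, 3, 2, 0, 3, 2, 4, 2, 0, 0, 2, 2⟩⟩,
  ⟨1, false, ⟨2, 1, 0, 1, 3, 1, 1, 4, 3, 4, 4, 2, 0, 0, 1, 3⟩⟩,
  ⟨3, true, ⟨0, 0, 2, 1, 2, 1, 1, 1, 2, 0, 1, 0, 0, 0, 0, 1⟩⟩,
  ⟨8, false, ⟨3, 0, 1, 4, 0, 3, 4, 1, 2, 0, 1, 1, 0, 1, 3, 4⟩⟩,
  ⟨14, true, ⟨4, 0, 1, 3, 0, 1, 2, 2, 1, 4, 1, 0, 1, 0, 4, 3⟩⟩,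
  ⟨20, true, ⟨2, 4, 3, 4, 4, 4, 4, 0, 0, 3, 1, 4, 0, 1, 1, 3⟩⟩,
  ⟨5, false, ⟨0, 0, 0, 3, 1, 0, 0, 3, 0, 3, 4, 2, 0, 0, 1, 0⟩⟩,
  ⟨3, false, ⟨3, 0, 0, 2, 4, 3, 2, 3, 4, 0, 2, 0, 0, 0, 0, 2⟩⟩,
  ⟨3, true, ⟨1, 0, 3, 4, 4, 1, 1, 3, 1, 0, 4, 0, 0, 0, 0, 1⟩⟩,
  ⟨19, false, ⟨1, 2, 0, 0, 0, 4, 2, 4, 4, 3, 1, 0, 0, 1, 0, 0⟩⟩,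
  ⟨56, false, ⟨0, 0, 4, 0, 0, 4, 1, 2, 1, 2, 0, 0, 0, 0, 2, 4⟩⟩,
  ⟨40, true, ⟨1, 2, 4, 2, 1, 4, 1, 3, 4, 2, 2, 2, 0, 1, 0, 1⟩⟩,
  ⟨0, true, ⟨2, 2, 4, 2, 4, 2, 4, 1, 1, 4, 0, 4, 0, 1, 0, 1⟩⟩,
  ⟨4, true, ⟨4, 1, 2, 0, 0, 3, 2, 2, 2, 3, 0, 0, 0, 0, 2, 2⟩⟩,
  ⟨0, true, ⟨0, 1, 0, 4, 3, 0, 3, 0, 0, 1, 0, 0, 0, 0, 2, 0⟩⟩,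
  ⟨20, false, ⟨4, 4, 4, 4, 0, 0, 1, 4, 1, 1, 0, 1, 0, 1, 3, 3⟩⟩,
  ⟨22, true, ⟨3, 1, 0, 4, 4, 3, 4, 0, 1, 3, 1, 0, 1, 0, 3, 1⟩⟩,
  ⟨5, false, ⟨3, 2, 4, 4, 3, 4, 2, 1, 0, 4, 0, 1, 0, 1, 2, 4⟩⟩,
  ⟨4, true, ⟨4, 4, 2, 0, 2, 1, 0, 1, 0, 0, 1, 3, 0, 0, 1, 4⟩⟩,
  ⟨9, true, ⟨1, 1, 0, 0, 2, 4, 2, 3, 4, 4, 2, 4, 0, 0, 2, 3⟩⟩,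
  ⟨26, true, ⟨3, 3, 4, 2, 1, 2, 2, 4, 2, 0, 2, 1, 0, 1, 3, 1⟩⟩,
  ⟨1, false, ⟨2, 0, 0, 2, 1, 0, 0, 3, 1, 4, 2, 3, 0, 2, 2, 1⟩⟩,
  ⟨7, true, ⟨0, 1, 3, 4, 4, 4, 1, 3, 4, 2, 4, 1, 0, 1, 2, 4⟩⟩,
  ⟨30, true, ⟨3, 3, 4, 2, 1, 4, 3, 1, 3, 1, 0, 0, 0, 1, 3, 1⟩⟩,
  ⟨7, true, ⟨3, 2, 1, 4, 1, 1, 0, 0, 1, 2, 0, 0, 0, 1, 2, 4⟩⟩,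
  ⟨0, true, ⟨0, 0, 3, 4, 2, 1, 0, 3, 2, 2, 4, 3, 0, 0, 1, 4⟩⟩,
  ⟨4, false, ⟨0, 0, 3, 3, 4, 1, 4, 2, 1, 2, 0, 3, 0, 0, 1, 2⟩⟩,
  ⟨34, true, ⟨0, 1, 4, 2, 1, 3, 0, 0, 0, 3, 4, 2, 0, 0, 1, 0⟩⟩,
  ⟨16, true, ⟨0, 0, 3, 1, 4, 3, 1, 1, 3, 0, 1, 3, 0, 0, 0, 2⟩⟩,
  ⟨44, true, ⟨2, 2, 3, 4, 4, 4, 0, 4, 0, 2, 2, 0, 1, 0, 3, 1⟩⟩,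
  ⟨2, true, ⟨4, 3, 3, 1, 3, 1, 3, 1, 4, 1, 1, 0, 0, 1, 3, 3⟩⟩,
  ⟨5, false, ⟨4, 4, 1, 1, 0, 2, 2, 1, 3, 3, 1, 2, 0, 1, 3, 1⟩⟩,
  ⟨0, true, ⟨0, 0, 0, 2, 1, 0, 1, 3, 2, 2, 3, 4, 0, 0, 1, 4⟩⟩,
  ⟨8, false, ⟨4, 0, 1, 0, 0, 3, 0, 4, 3, 0, 1, 0, 0, 1, 0, 0⟩⟩,
  ⟨2, true, ⟨4, 0, 4, 4, 4, 1, 0, 4, 0, 3, 2, 4, 0, 2, 2, 1⟩⟩,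
  ⟨20, true, ⟨0, 0, 1, 4, 1, 1, 1, 1, 0, 1, 2, 4, 0, 0, 1, 0⟩⟩,
  ⟨4, false, ⟨3, 2, 2, 4, 2, 1, 3, 2, 3, 4, 1, 0, 0, 2, 2, 1⟩⟩,
  ⟨22, true, ⟨0, 4, 4, 2, 4, 2, 3, 0, 2, 3, 4, 0, 1, 0, 3, 1⟩⟩,
  ⟨14, true, ⟨1, 4, 1, 1, 1, 0, 3, 2, 1, 4, 1, 0, 1, 0, 4, 3⟩⟩,
  ⟨1, false, ⟨3, 3, 3, 2, 2, 4, 2, 1, 4, 1, 3, 2, 0, 2, 2, 1⟩⟩,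
  ⟨36, true, ⟨2, 0, 4, 2, 1, 1, 3, 1, 0, 0, 3, 2, 0, 0, 0, 1⟩⟩,
  ⟨12, true, ⟨2, 1, 1, 4, 4, 0, 4, 1, 0, 3, 2, 4, 0, 1, 3, 3⟩⟩,
  ⟨5, false, ⟨0, 0, 1, 1, 2, 3, 1, 2, 1, 3, 1, 0, 0, 0, 1, 3⟩⟩,
  ⟨8, true, ⟨3, 3, 1, 3, 2, 4, 4, 4, 1, 4, 1, 2, 1, 0, 4, 3⟩⟩,
  ⟨31, true, ⟨0, 1, 2, 0, 1, 3, 2, 2, 0, 0, 2, 1, 0, 0, 1, 0⟩⟩,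
  ⟨0, true, ⟨4, 2, 4, 0, 2, 2, 0, 4, 1, 0, 0, 0, 0, 1, 0, 0⟩⟩,
  ⟨9, false, ⟨3, 4, 2, 1, 1, 2, 0, 1, 3, 0, 2, 4, 0, 2, 1, 1⟩⟩,
  ⟨2, true, ⟨1, 4, 2, 3, 2, 2, 1, 1, 2, 1, 1, 3, 0, 1, 2, 4⟩⟩]

/-- Certificates. -/
def data12 : List (Cert (ZMod 5)) := [
  ⟨4, false, ⟨4, 1, 3, 1, 3, 3, 0, 2, 0, 3, 4, 3, 0, 1, 0, 1⟩⟩,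
  ⟨17, false, ⟨0, 0, 2, 4, 4, 3, 1, 0, 1, 3, 2, 1, 0, 0, 2, 1⟩⟩,
  ⟨8, true, ⟨3, 2, 2, 1, 3, 4, 2, 2, 3, 1, 1, 0, 0, 1, 3, 1⟩⟩,
  ⟨10, true, ⟨1, 2, 1, 3, 4, 1, 1, 3, 3, 1, 0, 1, 0, 0, 1, 2⟩⟩,
  ⟨3, false, ⟨2, 0, 1, 1, 0, 2, 1, 4, 4, 0, 0, 2, 0, 2, 1, 2⟩⟩,
  ⟨3, true, ⟨3, 1, 2, 1, 3, 4, 0, 0, 4, 3, 2, 1, 0, 0, 1, 2⟩⟩,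
  ⟨3, true, ⟨3, 2, 3, 1, 4, 4, 2, 0, 2, 0, 0, 1, 0, 1, 3, 1⟩⟩,
  ⟨7, false, ⟨3, 0, 2, 2, 4, 3, 3, 0, 1, 0, 1, 3, 0, 0, 0, 2⟩⟩,
  ⟨5, false, ⟨0, 1, 2, 1, 3, 1, 4, 2, 1, 3, 3, 1, 0, 2, 1, 2⟩⟩,
  ⟨4, true, ⟨1, 0, 1, 3, 2, 3, 1, 1, 1, 0, 2, 4, 0, 0, 0, 2⟩⟩,
  ⟨3, false, ⟨0, 0, 3, 0, 0, 4, 3, 4, 3, 1, 4, 2, 0, 0, 2, 4⟩⟩,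
  ⟨1, false, ⟨3, 4, 4, 1, 1, 0, 0, 1, 2, 1, 1, 3, 0, 0, 1, 3⟩⟩,
  ⟨44, true, ⟨1, 3, 1, 3, 4, 2, 3, 4, 0, 2, 2, 0, 1, 0, 3, 1⟩⟩,
  ⟨16, true, ⟨1, 3, 3, 2, 3, 1, 0, 2, 0, 0, 3, 1, 0, 0, 1, 3⟩⟩,
  ⟨11, false, ⟨0, 1, 1, 1, 4, 2, 3, 1, 3, 0, 4, 4, 1, 0, 3, 1⟩⟩,
  ⟨20, false, ⟨2, 3, 3, 0, 0, 3, 4, 4, 0, 0, 3, 0, 0, 1, 0, 0⟩⟩,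
  ⟨7, false, ⟨0, 3, 3, 3, 1, 3, 1, 4, 0, 0, 4, 2, 0, 0, 1, 0⟩⟩,
  ⟨19, false, ⟨0, 0, 2, 0, 0, 0, 1, 4, 2, 2, 0, 0, 0, 1, 0, 0⟩⟩,
  ⟨1, false, ⟨4, 4, 2, 4, 0, 3, 0, 3, 4, 4, 1, 4, 0, 1, 3, 3⟩⟩,
  ⟨4, true, ⟨1, 2, 1, 0, 0, 3, 3, 1, 1, 2, 2, 0, 0, 1, 2, 4⟩⟩,
  ⟨0, true, ⟨3, 2, 1, 2, 3, 2, 0, 1, 2, 2, 3, 4, 1, 0, 3, 1⟩⟩,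
  ⟨18, true, ⟨2, 4, 1, 0, 3, 3, 1, 4, 0, 1, 3, 0, 0, 1, 0, 0⟩⟩,
  ⟨4, false, ⟨3, 0, 4, 0, 3, 3, 4, 0, 2, 0, 3, 3, 0, 0, 0, 2⟩⟩,
  ⟨7, false, ⟨1, 2, 0, 1, 1, 1, 3, 4, 2, 4, 4, 3, 0, 0, 2, 4⟩⟩,
  ⟨10, true, ⟨1, 4, 2, 0, 2, 4, 4, 0, 4, 2, 2, 3, 0, 2, 1, 1⟩⟩,
  ⟨49, true, ⟨1, 3, 2, 2, 4, 1, 3, 4, 3, 0, 0, 4, 0, 1, 3, 3⟩⟩,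
  ⟨22, true, ⟨0, 1, 1, 0, 1, 4, 0, 1, 0, 4, 0, 1, 0, 0, 1, 0⟩⟩,
  ⟨6, false, ⟨4, 3, 4, 1, 3, 4, 4, 0, 1, 2, 3, 0, 0, 0, 1, 2⟩⟩,
  ⟨2, true, ⟨4, 1, 4, 2, 3, 3, 2, 0, 4, 1, 1, 0, 0, 0, 1, 1⟩⟩,
  ⟨34, true, ⟨4, 1, 4, 3, 0, 2, 3, 4, 1, 4, 0, 2, 0, 2, 1, 2⟩⟩,
  ⟨7, false, ⟨4, 0, 4, 2, 4, 4, 1, 3, 0, 3, 3, 3, 0, 2, 1, 2⟩⟩,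
  ⟨1, false, ⟨4, 4, 4, 1, 1, 4, 2, 0, 0, 2, 1, 1, 0, 2, 2, 1⟩⟩,
  ⟨2, true, ⟨4, 1, 0, 3, 4, 2, 0, 1, 4, 1, 3, 2, 0, 0, 1, 1⟩⟩,
  ⟨0, true, ⟨3, 2, 0, 4, 4, 0, 1, 1, 1, 3, 1, 0, 0, 2, 2, 1⟩⟩,
  ⟨26, false, ⟨2, 2, 1, 3, 3, 2, 4, 3, 2, 4, 0, 0, 0, 2, 1, 2⟩⟩,
  ⟨10, false, ⟨4, 3, 4, 2, 4, 1, 1, 3, 2, 4, 0, 4, 0, 0, 1, 2⟩⟩,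
  ⟨11, false, ⟨3, 0, 3, 3, 2, 1, 3, 2, 4, 2, 3, 0, 0, 2, 2, 1⟩⟩,
  ⟨4, false, ⟨3, 3, 2, 2, 4, 2, 3, 1, 1, 0, 3, 3, 1, 0, 3, 1⟩⟩,
  ⟨1, false, ⟨2, 0, 2, 1, 4, 1, 2, 4, 0, 3, 2, 4, 0, 1, 3, 3⟩⟩,
  ⟨12, true, ⟨3, 2, 3, 0, 4, 1, 3, 4, 1, 1, 4, 1, 0, 1, 3, 3⟩⟩,
  ⟨0, true, ⟨4, 2, 4, 3, 3, 4, 1, 0, 3, 2, 1, 0, 0, 1, 3, 3⟩⟩,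
  ⟨11, false, ⟨4, 3, 1, 3, 4, 1, 4, 2, 3, 1, 0, 4, 0, 0, 1, 2⟩⟩,
  ⟨7, true, ⟨2, 1, 1, 2, 2, 3, 2, 4, 3, 4, 1, 0, 0, 0, 1, 3⟩⟩,
  ⟨9, false, ⟨2, 1, 2, 0, 3, 4, 2, 2, 3, 1, 0, 2, 1, 0, 3, 1⟩⟩,
  ⟨5, false, ⟨0, 2, 1, 2, 3, 3, 2, 2, 0, 2, 3, 0, 0, 0, 2, 0⟩⟩,
  ⟨9, true, ⟨4, 0, 1, 0, 4, 2, 1, 1, 4, 3, 0, 1, 1, 0, 4, 3⟩⟩,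
  ⟨11, true, ⟨2, 4, 2, 4, 4, 0, 3, 3, 0, 3, 1, 4, 0, 1, 1, 3⟩⟩,
  ⟨0, true, ⟨3, 4, 3, 3, 3, 1, 0, 3, 0, 0, 1, 2, 0, 0, 1, 3⟩⟩,
  ⟨4, true, ⟨2, 2, 4, 2, 1, 2, 3, 1, 0, 4, 0, 2, 0, 2, 1, 1⟩⟩,
  ⟨6, false, ⟨1, 4, 4, 2, 2, 1, 1, 1, 1, 2, 4, 0, 0, 1, 3, 1⟩⟩,
  ⟨19, false, ⟨0, 4, 2, 4, 3, 0, 4, 4, 2, 0, 1, 0, 0, 1, 0, 1⟩⟩,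
  ⟨1, false, ⟨4, 3, 2, 0, 3, 0, 2, 1, 0, 0, 0, 2, 0, 0, 2, 4⟩⟩,
  ⟨4, false, ⟨2, 0, 1, 1, 1, 4, 0, 4, 2, 2, 0, 2, 0, 1, 3, 3⟩⟩,
  ⟨11, true, ⟨4, 0, 3, 2, 1, 2, 3, 1, 0, 2, 0, 1, 0, 2, 1, 1⟩⟩,
  ⟨9, false, ⟨1, 0, 4, 1, 2, 3, 1, 1, 1, 0, 0, 2, 0, 0, 0, 2⟩⟩,
  ⟨8, true, ⟨4, 1, 0, 3, 1, 3, 1, 0, 2, 4, 2, 0, 0, 1, 3, 1⟩⟩,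
  ⟨7, true, ⟨1, 1, 1, 2, 3, 2, 1, 1, 2, 2, 0, 2, 0, 0, 1, 4⟩⟩,
  ⟨1, false, ⟨1, 3, 1, 2, 4, 3, 4, 2, 3, 4, 1, 2, 0, 0, 2, 1⟩⟩,
  ⟨17, true, ⟨2, 0, 3, 4, 0, 3, 1, 1, 0, 0, 3, 0, 0, 0, 0, 2⟩⟩,
  ⟨61, false, ⟨2, 2, 1, 2, 4, 4, 3, 3, 0, 3, 2, 4, 0, 1, 3, 3⟩⟩,
  ⟨4, true, ⟨1, 0, 2, 1, 4, 0, 3, 3, 0, 1, 2, 3, 0, 1, 1, 3⟩⟩,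
  ⟨2, true, ⟨2, 3, 4, 4, 0, 0, 4, 4, 0, 0, 0, 2, 1, 0, 3, 1⟩⟩,
  ⟨22, true, ⟨3, 0, 4, 3, 3, 1, 0, 4, 4, 0, 4, 3, 0, 0, 0, 1⟩⟩,
  ⟨7, false, ⟨1, 1, 0, 2, 2, 4, 4, 4, 4, 4, 2, 2, 0, 0, 2, 3⟩⟩,
  ⟨11, false, ⟨2, 3, 2, 0, 1, 4, 0, 4, 1, 1, 0, 1, 0, 1, 3, 3⟩⟩,
  ⟨8, true, ⟨3, 2, 4, 1, 4, 1, 1, 2, 2, 0, 4, 1, 0, 1, 3, 1⟩⟩,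
  ⟨5, false, ⟨3, 3, 1, 2, 1, 0, 4, 3, 1, 1, 2, 1, 0, 0, 1, 4⟩⟩,
  ⟨0, true, ⟨3, 4, 3, 1, 1, 0, 0, 2, 1, 3, 1, 1, 0, 0, 1, 3⟩⟩,
  ⟨20, true, ⟨1, 1, 3, 3, 2, 1, 2, 2, 3, 3, 3, 1, 0, 0, 1, 4⟩⟩,
  ⟨18, true, ⟨4, 3, 1, 3, 4, 2, 0, 0, 0, 0, 2, 1, 0, 0, 2, 4⟩⟩,
  ⟨22, true, ⟨0, 3, 3, 1, 3, 1, 4, 0, 0, 0, 1, 2, 0, 0, 2, 0⟩⟩,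
  ⟨19, true, ⟨0, 1, 3, 4, 4, 1, 2, 1, 4, 0, 0, 3, 0, 1, 2, 4⟩⟩,
  ⟨2, true, ⟨1, 2, 0, 2, 0, 4, 0, 4, 3, 1, 1, 1, 0, 0, 2, 4⟩⟩,
  ⟨1, false, ⟨3, 4, 1, 3, 3, 4, 0, 0, 0, 3, 1, 3, 0, 2, 1, 2⟩⟩,
  ⟨25, false, ⟨3, 3, 2, 0, 4, 1, 2, 4, 3, 0, 4, 0, 1, 0, 3, 1⟩⟩,
  ⟨16, true, ⟨1, 2, 4, 2, 2, 1, 0, 0, 1, 0, 0, 0, 0, 1, 0, 1⟩⟩,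
  ⟨25, false, ⟨2, 4, 1, 0, 2, 4, 3, 4, 3, 0, 0, 1, 0, 1, 2, 4⟩⟩,
  ⟨6, true, ⟨1, 1, 0, 1, 3, 0, 2, 3, 4, 4, 0, 0, 0, 0, 2, 3⟩⟩,
  ⟨27, false, ⟨1, 3, 0, 0, 2, 4, 2, 1, 3, 2, 0, 2, 0, 1, 3, 4⟩⟩,
  ⟨1, false, ⟨2, 4, 3, 0, 3, 2, 1, 3, 0, 2, 4, 2, 0, 2, 1, 2⟩⟩,
  ⟨4, true, ⟨4, 0, 3, 2, 1, 0, 2, 2, 0, 1, 2, 3, 0, 1, 3, 3⟩⟩,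
  ⟨6, false, ⟨4, 4, 4, 3, 4, 3, 1, 4, 2, 2, 0, 0, 0, 0, 1, 4⟩⟩,
  ⟨22, true, ⟨0, 2, 0, 4, 3, 1, 0, 2, 0, 0, 4, 3, 0, 0, 2, 0⟩⟩,
  ⟨27, false, ⟨4, 0, 1, 1, 2, 4, 4, 2, 2, 1, 1, 2, 1, 0, 4, 3⟩⟩,
  ⟨0, true, ⟨2, 2, 1, 1, 2, 4, 2, 1, 0, 0, 1, 2, 0, 0, 2, 3⟩⟩,
  ⟨7, true, ⟨0, 1, 4, 2, 3, 0, 1, 2, 0, 3, 2, 2, 0, 0, 2, 0⟩⟩,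
  ⟨9, false, ⟨4, 1, 3, 4, 3, 3, 3, 4, 4, 1, 0, 2, 0, 0, 1, 1⟩⟩,
  ⟨4, true, ⟨2, 1, 4, 4, 0, 2, 4, 0, 2, 1, 2, 4, 0, 1, 3, 3⟩⟩,
  ⟨3, true, ⟨0, 1, 0, 1, 2, 3, 2, 3, 2, 0, 3, 1, 0, 1, 3, 1⟩⟩,
  ⟨0, true, ⟨0, 0, 2, 3, 3, 3, 4, 2, 1, 4, 2, 2, 0, 0, 1, 1⟩⟩]

/-- Certificates. -/
def data13 : List (Cert (ZMod 5)) := [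
  ⟨3, false, ⟨3, 2, 4, 1, 4, 4, 3, 3, 4, 0, 1, 2, 0, 2, 1, 2⟩⟩,
  ⟨8, true, ⟨1, 2, 0, 2, 4, 3, 4, 1, 1, 0, 3, 4, 1, 0, 3, 1⟩⟩,
  ⟨10, false, ⟨2, 0, 2, 3, 1, 3, 3, 4, 2, 0, 0, 2, 0, 0, 0, 2⟩⟩,
  ⟨2, true, ⟨0, 4, 3, 4, 3, 2, 0, 3, 4, 2, 1, 4, 0, 2, 1, 2⟩⟩,
  ⟨30, true, ⟨2, 1, 3, 4, 0, 1, 1, 2, 0, 0, 3, 0, 0, 0, 2, 1⟩⟩,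
  ⟨5, false, ⟨1, 1, 2, 4, 2, 4, 3, 2, 0, 1, 4, 1, 0, 2, 1, 2⟩⟩,
  ⟨0, true, ⟨0, 3, 4, 4, 2, 4, 3, 3, 4, 0, 3, 4, 0, 1, 1, 3⟩⟩,
  ⟨16, true, ⟨2, 1, 2, 2, 0, 0, 3, 4, 4, 2, 2, 4, 0, 1, 3, 1⟩⟩,
  ⟨4, false, ⟨0, 0, 1, 0, 0, 2, 0, 2, 4, 1, 1, 1, 0, 1, 3, 4⟩⟩,
  ⟨39, true, ⟨2, 3, 1, 3, 1, 3, 2, 2, 3, 4, 2, 4, 0, 1, 0, 1⟩⟩,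
  ⟨11, false, ⟨2, 2, 0, 3, 0, 2, 3, 0, 0, 0, 3, 0, 0, 1, 1, 3⟩⟩,
  ⟨0, true, ⟨0, 1, 4, 1, 2, 1, 0, 4, 4, 1, 3, 3, 0, 2, 1, 2⟩⟩,
  ⟨18, false, ⟨0, 2, 1, 1, 1, 0, 3, 3, 0, 1, 3, 1, 0, 0, 1, 0⟩⟩,
  ⟨17, false, ⟨3, 1, 4, 2, 4, 2, 3, 1, 1, 2, 4, 2, 0, 0, 2, 4⟩⟩,
  ⟨2, true, ⟨3, 3, 2, 1, 3, 0, 1, 1, 0, 0, 0, 2, 0, 0, 2, 3⟩⟩,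
  ⟨32, true, ⟨1, 4, 1, 3, 0, 3, 4, 0, 0, 0, 1, 0, 0, 0, 2, 2⟩⟩,
  ⟨23, false, ⟨3, 3, 4, 2, 0, 0, 3, 2, 2, 2, 3, 3, 0, 2, 2, 1⟩⟩,
  ⟨11, true, ⟨2, 1, 1, 4, 0, 2, 4, 0, 1, 3, 1, 2, 0, 1, 3, 3⟩⟩,
  ⟨2, true, ⟨2, 3, 1, 4, 3, 0, 0, 1, 2, 3, 1, 1, 0, 0, 2, 2⟩⟩,
  ⟨8, false, ⟨3, 3, 4, 4, 0, 2, 1, 0, 1, 1, 0, 3, 0, 0, 2, 3⟩⟩,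
  ⟨22, true, ⟨0, 3, 4, 3, 3, 1, 2, 0, 1, 1, 2, 1, 0, 1, 0, 1⟩⟩,
  ⟨6, false, ⟨1, 3, 3, 3, 0, 1, 1, 4, 4, 2, 3, 2, 0, 0, 2, 1⟩⟩,
  ⟨12, true, ⟨0, 0, 2, 2, 2, 3, 4, 3, 4, 3, 4, 4, 0, 0, 2, 4⟩⟩,
  ⟨3, true, ⟨1, 0, 2, 3, 3, 4, 3, 4, 1, 2, 4, 1, 0, 1, 3, 4⟩⟩,
  ⟨6, true, ⟨4, 2, 4, 4, 3, 1, 0, 3, 2, 1, 4, 1, 0, 0, 1, 3⟩⟩,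
  ⟨3, false, ⟨3, 2, 2, 0, 1, 2, 3, 4, 4, 4, 3, 0, 0, 1, 0, 0⟩⟩,
  ⟨27, false, ⟨3, 0, 4, 4, 3, 4, 1, 4, 3, 4, 3, 0, 0, 1, 3, 4⟩⟩,
  ⟨26, false, ⟨2, 1, 3, 4, 0, 2, 2, 4, 0, 0, 3, 0, 0, 0, 1, 3⟩⟩,
  ⟨17, false, ⟨1, 3, 1, 0, 4, 3, 3, 2, 4, 3, 1, 3, 0, 1, 1, 3⟩⟩,
  ⟨5, false, ⟨4, 0, 0, 3, 4, 3, 1, 0, 0, 0, 4, 3, 0, 0, 0, 2⟩⟩,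
  ⟨1, false, ⟨4, 2, 2, 2, 2, 2, 0, 4, 2, 1, 4, 3, 0, 0, 2, 1⟩⟩,
  ⟨11, false, ⟨2, 4, 2, 0, 0, 1, 2, 4, 0, 0, 3, 0, 0, 1, 0, 0⟩⟩,
  ⟨22, true, ⟨1, 0, 3, 0, 1, 4, 3, 3, 0, 4, 1, 4, 0, 1, 0, 1⟩⟩,
  ⟨24, true, ⟨4, 2, 2, 2, 3, 0, 2, 4, 3, 2, 3, 2, 0, 1, 0, 1⟩⟩,
  ⟨18, false, ⟨2, 4, 2, 1, 0, 4, 4, 4, 2, 4, 0, 1, 0, 0, 2, 4⟩⟩,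
  ⟨10, true, ⟨4, 1, 4, 3, 2, 4, 0, 0, 3, 2, 4, 3, 0, 0, 1, 1⟩⟩,
  ⟨11, true, ⟨1, 4, 3, 4, 1, 2, 1, 0, 0, 4, 3, 1, 0, 1, 3, 4⟩⟩,
  ⟨41, true, ⟨3, 3, 4, 2, 2, 4, 4, 3, 0, 0, 4, 3, 0, 0, 2, 3⟩⟩,
  ⟨37, true, ⟨1, 1, 0, 0, 1, 3, 1, 4, 4, 4, 4, 2, 0, 0, 2, 3⟩⟩,
  ⟨26, false, ⟨1, 3, 2, 2, 4, 4, 1, 0, 4, 2, 0, 1, 0, 0, 1, 3⟩⟩,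
  ⟨8, false, ⟨1, 0, 2, 2, 4, 4, 1, 3, 1, 1, 0, 1, 0, 1, 2, 4⟩⟩,
  ⟨28, true, ⟨2, 4, 1, 0, 2, 3, 2, 2, 0, 0, 1, 1, 0, 0, 2, 4⟩⟩,
  ⟨5, false, ⟨2, 3, 2, 4, 0, 3, 3, 2, 4, 0, 1, 4, 1, 0, 4, 3⟩⟩,
  ⟨8, true, ⟨0, 2, 4, 0, 3, 1, 3, 1, 0, 3, 0, 3, 0, 0, 2, 0⟩⟩,
  ⟨14, false, ⟨3, 2, 0, 2, 4, 2, 2, 4, 1, 1, 3, 2, 0, 1, 3, 4⟩⟩,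
  ⟨11, false, ⟨0, 2, 0, 2, 1, 2, 4, 2, 0, 2, 4, 0, 0, 0, 1, 0⟩⟩,
  ⟨30, false, ⟨0, 0, 0, 2, 1, 0, 0, 3, 1, 2, 1, 2, 0, 0, 1, 2⟩⟩,
  ⟨1, false, ⟨2, 3, 2, 4, 0, 2, 3, 4, 1, 4, 4, 2, 0, 2, 1, 2⟩⟩,
  ⟨0, true, ⟨0, 0, 4, 1, 3, 3, 4, 2, 1, 0, 2, 1, 0, 0, 0, 2⟩⟩,
  ⟨46, true, ⟨4, 2, 4, 2, 0, 4, 3, 3, 2, 1, 1, 1, 0, 1, 0, 1⟩⟩,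
  ⟨2, true, ⟨0, 0, 3, 1, 3, 1, 0, 1, 4, 2, 1, 4, 0, 0, 1, 3⟩⟩,
  ⟨20, true, ⟨1, 2, 3, 2, 3, 4, 4, 4, 2, 4, 4, 3, 0, 0, 1, 2⟩⟩,
  ⟨10, false, ⟨1, 4, 1, 2, 2, 4, 0, 0, 2, 3, 1, 2, 0, 0, 1, 1⟩⟩,
  ⟨0, true, ⟨0, 3, 0, 2, 1, 3, 0, 2, 0, 1, 4, 1, 0, 0, 1, 0⟩⟩,
  ⟨2, true, ⟨0, 0, 0, 1, 1, 0, 2, 1, 2, 4, 3, 1, 0, 0, 1, 2⟩⟩,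
  ⟨8, false, ⟨1, 0, 1, 4, 1, 3, 3, 2, 1, 0, 2, 2, 0, 0, 0, 2⟩⟩,
  ⟨2, true, ⟨0, 1, 1, 0, 3, 0, 4, 3, 0, 3, 3, 1, 0, 0, 2, 0⟩⟩,
  ⟨4, true, ⟨3, 1, 2, 3, 1, 2, 1, 0, 0, 3, 1, 2, 0, 1, 3, 4⟩⟩,
  ⟨10, true, ⟨1, 4, 3, 3, 2, 3, 0, 0, 3, 0, 3, 3, 0, 1, 1, 3⟩⟩,
  ⟨7, false, ⟨1, 4, 2, 4, 1, 4, 1, 3, 3, 1, 2, 1, 0, 1, 0, 1⟩⟩,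
  ⟨22, true, ⟨0, 0, 1, 4, 1, 1, 0, 1, 4, 0, 1, 4, 0, 0, 0, 1⟩⟩,
  ⟨9, true, ⟨1, 1, 4, 4, 4, 3, 1, 2, 2, 3, 0, 1, 0, 1, 1, 3⟩⟩,
  ⟨18, true, ⟨4, 1, 3, 4, 4, 2, 0, 0, 1, 4, 0, 0, 0, 0, 1, 1⟩⟩,
  ⟨68, true, ⟨2, 2, 4, 2, 4, 4, 2, 0, 0, 2, 1, 4, 1, 0, 4, 3⟩⟩,
  ⟨7, false, ⟨0, 0, 3, 4, 3, 4, 2, 2, 0, 1, 0, 3, 0, 0, 2, 0⟩⟩,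
  ⟨0, true, ⟨1, 0, 1, 3, 3, 1, 1, 0, 3, 0, 4, 1, 0, 0, 0, 1⟩⟩,
  ⟨5, false, ⟨2, 0, 2, 2, 0, 2, 2, 3, 1, 0, 4, 1, 0, 2, 2, 1⟩⟩,
  ⟨4, false, ⟨1, 2, 4, 0, 0, 1, 2, 4, 0, 0, 1, 0, 0, 1, 0, 0⟩⟩,
  ⟨3, true, ⟨3, 1, 1, 2, 2, 0, 3, 3, 3, 3, 4, 3, 0, 2, 1, 1⟩⟩,
  ⟨1, false, ⟨3, 1, 4, 2, 1, 1, 0, 1, 1, 2, 1, 1, 0, 0, 2, 4⟩⟩,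
  ⟨0, true, ⟨1, 2, 4, 2, 1, 2, 1, 1, 4, 2, 2, 2, 0, 1, 0, 1⟩⟩,
  ⟨8, false, ⟨4, 2, 4, 2, 0, 2, 3, 1, 1, 3, 0, 3, 0, 0, 1, 3⟩⟩,
  ⟨7, true, ⟨4, 1, 1, 2, 2, 1, 3, 2, 3, 4, 0, 2, 0, 1, 2, 4⟩⟩,
  ⟨4, false, ⟨0, 3, 4, 1, 1, 2, 4, 2, 0, 4, 3, 0, 0, 0, 1, 0⟩⟩,
  ⟨12, true, ⟨2, 1, 3, 1, 4, 3, 2, 1, 3, 4, 1, 2, 0, 0, 2, 1⟩⟩,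
  ⟨1, false, ⟨3, 0, 2, 4, 1, 1, 2, 1, 4, 1, 1, 3, 0, 2, 1, 2⟩⟩,
  ⟨8, false, ⟨2, 4, 0, 2, 0, 3, 3, 0, 0, 0, 3, 0, 0, 0, 1, 2⟩⟩,
  ⟨5, false, ⟨4, 0, 2, 2, 3, 0, 4, 3, 1, 3, 1, 1, 0, 1, 3, 1⟩⟩,
  ⟨3, true, ⟨4, 3, 1, 3, 2, 3, 4, 0, 4, 0, 2, 4, 0, 1, 1, 3⟩⟩,
  ⟨44, true, ⟨4, 0, 3, 1, 0, 1, 4, 3, 3, 0, 0, 2, 0, 0, 0, 1⟩⟩,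
  ⟨3, false, ⟨4, 2, 2, 3, 2, 3, 0, 4, 4, 4, 2, 4, 0, 1, 3, 3⟩⟩,
  ⟨11, false, ⟨1, 2, 1, 2, 2, 2, 4, 1, 4, 3, 3, 4, 0, 0, 1, 2⟩⟩,
  ⟨6, false, ⟨2, 3, 2, 4, 0, 4, 4, 1, 2, 3, 0, 4, 0, 2, 1, 2⟩⟩,
  ⟨26, true, ⟨4, 3, 0, 1, 1, 0, 0, 0, 0, 0, 0, 2, 0, 0, 1, 2⟩⟩,
  ⟨8, false, ⟨0, 0, 1, 2, 3, 1, 4, 0, 4, 0, 1, 3, 0, 0, 0, 1⟩⟩,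
  ⟨32, false, ⟨1, 1, 2, 2, 4, 3, 2, 2, 4, 4, 0, 2, 0, 0, 1, 4⟩⟩,
  ⟨27, false, ⟨4, 4, 0, 2, 4, 1, 0, 3, 1, 1, 2, 0, 0, 0, 2, 3⟩⟩,
  ⟨22, false, ⟨2, 0, 2, 3, 2, 1, 1, 0, 0, 0, 3, 4, 0, 0, 0, 1⟩⟩,
  ⟨1, true, ⟨2, 3, 3, 0, 2, 4, 2, 4, 2, 3, 0, 4, 0, 0, 1, 1⟩⟩,
  ⟨27, true, ⟨1, 1, 4, 4, 0, 2, 0, 3, 4, 4, 2, 1, 0, 0, 2, 3⟩⟩]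

/-- Certificates. -/
def data14 : List (Cert (ZMod 5)) := [
  ⟨4, true, ⟨0, 0, 0, 3, 1, 0, 0, 2, 4, 3, 1, 0, 0, 0, 1, 2⟩⟩,
  ⟨16, false, ⟨1, 3, 2, 4, 1, 2, 3, 4, 1, 2, 1, 0, 0, 1, 2, 4⟩⟩,
  ⟨2, true, ⟨4, 4, 4, 2, 1, 3, 4, 1, 4, 4, 0, 0, 0, 0, 2, 3⟩⟩,
  ⟨6, false, ⟨0, 3, 3, 3, 3, 2, 4, 0, 1, 1, 2, 4, 0, 1, 3, 1⟩⟩,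
  ⟨2, false, ⟨1, 4, 2, 0, 1, 0, 4, 2, 4, 1, 3, 4, 0, 0, 1, 1⟩⟩,
  ⟨4, false, ⟨2, 4, 1, 0, 2, 2, 4, 1, 3, 1, 1, 3, 0, 0, 1, 2⟩⟩,
  ⟨2, true, ⟨4, 1, 2, 3, 3, 3, 4, 4, 2, 4, 3, 0, 0, 2, 1, 2⟩⟩,
  ⟨8, false, ⟨0, 0, 2, 1, 1, 3, 1, 3, 0, 4, 0, 4, 0, 0, 1, 0⟩⟩,
  ⟨2, false, ⟨3, 0, 3, 4, 4, 1, 2, 2, 1, 2, 4, 0, 0, 1, 3, 1⟩⟩,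
  ⟨15, true, ⟨0, 0, 0, 3, 1, 0, 3, 1, 0, 3, 3, 4, 0, 0, 1, 0⟩⟩,
  ⟨15, false, ⟨0, 3, 1, 3, 3, 4, 3, 0, 0, 1, 1, 3, 0, 0, 2, 0⟩⟩,
  ⟨8, true, ⟨3, 3, 2, 0, 2, 1, 2, 1, 3, 3, 0, 4, 0, 0, 1, 4⟩⟩,
  ⟨1, true, ⟨3, 2, 1, 4, 4, 2, 0, 1, 3, 2, 0, 1, 0, 0, 1, 1⟩⟩,
  ⟨5, true, ⟨0, 4, 1, 4, 1, 3, 0, 2, 4, 4, 1, 4, 0, 1, 0, 1⟩⟩,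
  ⟨12, false, ⟨2, 1, 1, 0, 0, 1, 4, 2, 0, 0, 3, 0, 0, 0, 2, 1⟩⟩,
  ⟨3, true, ⟨4, 4, 0, 3, 2, 1, 0, 2, 2, 2, 1, 2, 0, 0, 1, 4⟩⟩,
  ⟨30, true, ⟨3, 1, 3, 2, 3, 0, 0, 4, 0, 0, 0, 1, 0, 0, 2, 4⟩⟩,
  ⟨6, false, ⟨1, 2, 2, 0, 4, 3, 4, 2, 2, 1, 1, 2, 0, 2, 1, 2⟩⟩,
  ⟨5, true, ⟨1, 3, 1, 1, 1, 3, 4, 0, 4, 1, 2, 3, 0, 1, 3, 1⟩⟩,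
  ⟨12, false, ⟨3, 4, 2, 4, 0, 1, 2, 2, 0, 0, 2, 0, 0, 0, 2, 1⟩⟩,
  ⟨23, false, ⟨0, 2, 4, 0, 3, 2, 3, 1, 0, 2, 2, 3, 0, 0, 2, 0⟩⟩,
  ⟨33, false, ⟨0, 0, 1, 3, 3, 4, 1, 1, 2, 4, 1, 2, 0, 0, 1, 2⟩⟩,
  ⟨2, true, ⟨3, 4, 4, 2, 2, 3, 4, 3, 2, 1, 4, 1, 0, 0, 1, 3⟩⟩,
  ⟨1, true, ⟨2, 3, 3, 0, 2, 4, 3, 0, 2, 3, 0, 4, 0, 0, 1, 1⟩⟩,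
  ⟨2, false, ⟨4, 2, 3, 4, 3, 0, 4, 4, 4, 2, 3, 2, 0, 0, 2, 1⟩⟩,
  ⟨7, true, ⟨0, 1, 2, 1, 3, 0, 1, 1, 1, 4, 0, 2, 0, 2, 1, 2⟩⟩,
  ⟨2, true, ⟨3, 2, 2, 1, 2, 1, 3, 3, 3, 2, 1, 3, 0, 0, 2, 2⟩⟩,
  ⟨10, false, ⟨2, 3, 3, 2, 0, 1, 3, 2, 4, 1, 4, 4, 0, 0, 1, 1⟩⟩,
  ⟨2, false, ⟨3, 3, 1, 1, 3, 2, 2, 3, 2, 2, 0, 0, 0, 0, 1, 4⟩⟩,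
  ⟨23, true, ⟨0, 3, 3, 0, 3, 0, 1, 3, 0, 3, 3, 2, 0, 0, 2, 0⟩⟩,
  ⟨5, true, ⟨1, 4, 0, 0, 0, 0, 2, 2, 4, 1, 1, 0, 0, 2, 1, 1⟩⟩,
  ⟨6, false, ⟨0, 3, 2, 1, 3, 0, 4, 2, 0, 4, 1, 0, 0, 0, 2, 0⟩⟩,
  ⟨25, false, ⟨3, 3, 4, 3, 2, 0, 3, 3, 0, 2, 3, 1, 0, 2, 1, 1⟩⟩,
  ⟨30, true, ⟨1, 3, 1, 1, 3, 0, 0, 1, 0, 4, 3, 4, 0, 2, 1, 2⟩⟩,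
  ⟨8, true, ⟨1, 3, 3, 3, 0, 3, 3, 2, 0, 0, 1, 0, 0, 1, 0, 1⟩⟩,
  ⟨16, true, ⟨0, 4, 0, 3, 1, 3, 4, 1, 0, 2, 3, 3, 0, 0, 1, 0⟩⟩,
  ⟨20, false, ⟨0, 2, 0, 3, 2, 2, 3, 3, 1, 4, 1, 4, 0, 1, 3, 4⟩⟩,
  ⟨1, true, ⟨3, 2, 1, 4, 4, 2, 4, 0, 3, 2, 0, 1, 0, 0, 1, 1⟩⟩,
  ⟨28, true, ⟨0, 1, 2, 3, 1, 3, 3, 1, 0, 3, 3, 0, 0, 0, 1, 0⟩⟩,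
  ⟨34, false, ⟨3, 1, 3, 2, 2, 3, 0, 2, 4, 0, 2, 2, 0, 2, 1, 1⟩⟩,
  ⟨8, true, ⟨1, 4, 3, 1, 0, 1, 1, 0, 0, 0, 1, 0, 0, 0, 1, 1⟩⟩,
  ⟨3, true, ⟨0, 0, 3, 0, 0, 4, 3, 3, 3, 1, 1, 3, 0, 0, 2, 4⟩⟩,
  ⟨16, true, ⟨1, 1, 1, 2, 3, 0, 0, 3, 2, 2, 2, 0, 0, 0, 2, 3⟩⟩,
  ⟨3, false, ⟨0, 2, 2, 1, 3, 1, 0, 1, 4, 0, 1, 2, 0, 1, 3, 3⟩⟩,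
  ⟨26, true, ⟨1, 3, 4, 1, 2, 3, 2, 3, 3, 4, 1, 2, 0, 0, 1, 3⟩⟩,
  ⟨17, false, ⟨4, 3, 1, 0, 3, 4, 2, 0, 3, 1, 4, 1, 0, 0, 1, 2⟩⟩,
  ⟨0, false, ⟨3, 2, 2, 4, 0, 4, 1, 4, 2, 3, 0, 1, 0, 2, 2, 1⟩⟩,
  ⟨10, true, ⟨2, 1, 1, 3, 3, 0, 2, 4, 2, 1, 1, 4, 0, 0, 2, 1⟩⟩,
  ⟨1, true, ⟨2, 3, 3, 0, 2, 4, 4, 1, 2, 3, 0, 4, 0, 0, 1, 1⟩⟩,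
  ⟨26, true, ⟨2, 4, 2, 0, 1, 0, 0, 3, 4, 3, 4, 4, 0, 0, 1, 2⟩⟩,
  ⟨0, true, ⟨3, 0, 1, 3, 2, 1, 0, 4, 4, 1, 1, 2, 0, 1, 1, 3⟩⟩,
  ⟨0, false, ⟨1, 4, 2, 1, 1, 2, 2, 3, 1, 4, 1, 4, 0, 0, 2, 2⟩⟩,
  ⟨7, true, ⟨2, 2, 1, 4, 2, 3, 0, 2, 0, 4, 0, 1, 0, 1, 3, 4⟩⟩,
  ⟨18, false, ⟨3, 0, 0, 3, 3, 3, 3, 3, 1, 0, 2, 4, 0, 0, 0, 2⟩⟩,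
  ⟨12, true, ⟨3, 1, 1, 0, 3, 4, 2, 2, 4, 3, 4, 3, 0, 0, 1, 2⟩⟩,
  ⟨0, true, ⟨3, 2, 1, 4, 0, 3, 2, 3, 4, 1, 0, 2, 0, 0, 2, 2⟩⟩,
  ⟨6, false, ⟨1, 0, 1, 3, 2, 4, 4, 1, 0, 3, 0, 2, 0, 1, 3, 4⟩⟩,
  ⟨39, false, ⟨1, 1, 4, 1, 4, 3, 4, 0, 1, 4, 2, 2, 1, 0, 3, 1⟩⟩,
  ⟨17, false, ⟨3, 1, 4, 0, 2, 3, 1, 0, 3, 2, 3, 4, 0, 1, 2, 4⟩⟩,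
  ⟨26, true, ⟨3, 3, 1, 2, 4, 1, 0, 2, 4, 1, 1, 3, 0, 1, 3, 1⟩⟩,
  ⟨5, true, ⟨4, 1, 0, 0, 0, 3, 4, 4, 1, 4, 4, 0, 0, 1, 0, 0⟩⟩,
  ⟨33, true, ⟨2, 2, 3, 3, 3, 4, 1, 2, 2, 4, 3, 4, 0, 2, 2, 1⟩⟩,
  ⟨1, true, ⟨3, 2, 1, 4, 4, 2, 3, 4, 3, 2, 0, 1, 0, 0, 1, 1⟩⟩,
  ⟨9, true, ⟨1, 4, 1, 4, 3, 3, 2, 2, 3, 4, 4, 4, 0, 1, 0, 1⟩⟩,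
  ⟨10, false, ⟨3, 0, 0, 0, 3, 3, 0, 0, 2, 0, 2, 3, 0, 0, 0, 2⟩⟩,
  ⟨27, true, ⟨1, 1, 4, 4, 0, 4, 1, 0, 4, 4, 2, 1, 0, 0, 1, 4⟩⟩,
  ⟨8, false, ⟨2, 0, 3, 0, 0, 2, 0, 0, 0, 1, 3, 0, 1, 0, 4, 3⟩⟩,
  ⟨18, false, ⟨3, 2, 4, 2, 2, 1, 0, 0, 2, 3, 0, 0, 0, 0, 2, 2⟩⟩,
  ⟨23, false, ⟨1, 2, 3, 1, 3, 4, 0, 4, 0, 2, 2, 3, 0, 1, 3, 4⟩⟩,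
  ⟨50, false, ⟨4, 2, 3, 1, 1, 0, 2, 0, 1, 3, 2, 2, 0, 0, 1, 3⟩⟩,
  ⟨12, false, ⟨1, 2, 1, 1, 3, 0, 4, 2, 4, 3, 4, 2, 0, 0, 2, 4⟩⟩,
  ⟨32, false, ⟨0, 0, 1, 1, 1, 4, 4, 1, 1, 3, 0, 3, 0, 0, 2, 1⟩⟩,
  ⟨11, false, ⟨0, 4, 2, 0, 2, 4, 4, 1, 4, 3, 0, 1, 1, 0, 4, 3⟩⟩,
  ⟨1, true, ⟨2, 3, 3, 0, 2, 4, 0, 2, 2, 3, 0, 4, 0, 0, 1, 1⟩⟩,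
  ⟨30, true, ⟨2, 4, 1, 1, 3, 0, 0, 2, 0, 0, 0, 4, 0, 0, 2, 4⟩⟩,
  ⟨3, false, ⟨3, 2, 3, 4, 4, 4, 2, 1, 4, 4, 3, 0, 1, 0, 4, 3⟩⟩,
  ⟨8, true, ⟨1, 2, 2, 2, 0, 4, 3, 0, 0, 0, 1, 0, 0, 0, 2, 4⟩⟩,
  ⟨36, true, ⟨2, 3, 4, 3, 2, 1, 0, 2, 4, 1, 4, 4, 0, 0, 2, 2⟩⟩,
  ⟨5, true, ⟨1, 0, 4, 1, 3, 4, 1, 4, 0, 2, 3, 1, 0, 1, 1, 3⟩⟩,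
  ⟨28, false, ⟨0, 0, 1, 0, 0, 0, 4, 4, 4, 1, 4, 0, 0, 1, 0, 0⟩⟩,
  ⟨18, true, ⟨0, 2, 1, 4, 3, 0, 4, 4, 0, 2, 1, 2, 0, 0, 2, 0⟩⟩,
  ⟨18, true, ⟨2, 0, 0, 3, 0, 3, 2, 1, 2, 0, 3, 3, 0, 0, 0, 2⟩⟩,
  ⟨8, true, ⟨4, 0, 1, 1, 4, 1, 0, 3, 3, 0, 1, 1, 0, 0, 0, 1⟩⟩,
  ⟨25, false, ⟨4, 4, 3, 1, 2, 2, 0, 2, 0, 2, 1, 1, 0, 1, 1, 3⟩⟩,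
  ⟨10, true, ⟨1, 2, 4, 1, 0, 3, 3, 0, 1, 2, 0, 1, 0, 0, 1, 2⟩⟩,
  ⟨32, true, ⟨1, 0, 4, 0, 2, 3, 3, 0, 2, 0, 4, 1, 0, 0, 0, 2⟩⟩,
  ⟨30, true, ⟨2, 4, 0, 4, 1, 1, 3, 2, 2, 4, 2, 2, 0, 0, 2, 4⟩⟩,
  ⟨1, true, ⟨3, 2, 1, 4, 4, 2, 2, 3, 3, 2, 0, 1, 0, 0, 1, 1⟩⟩,
  ⟨12, false, ⟨4, 3, 2, 0, 2, 3, 3, 4, 1, 2, 1, 3, 0, 0, 2, 4⟩⟩,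
  ⟨6, false, ⟨4, 3, 3, 0, 3, 0, 1, 0, 0, 3, 0, 2, 0, 1, 2, 4⟩⟩]

/-- Certificates. -/
def data15 : List (Cert (ZMod 5)) := [
  ⟨5, true, ⟨0, 1, 1, 1, 3, 3, 2, 1, 0, 3, 2, 4, 0, 0, 2, 0⟩⟩,
  ⟨4, false, ⟨4, 0, 1, 1, 2, 4, 4, 1, 3, 1, 0, 2, 1, 0, 4, 3⟩⟩,
  ⟨22, false, ⟨0, 0, 1, 1, 3, 2, 1, 0, 0, 4, 4, 4, 0, 0, 2, 0⟩⟩,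
  ⟨0, true, ⟨0, 1, 1, 0, 4, 4, 2, 4, 4, 0, 2, 0, 0, 1, 0, 0⟩⟩,
  ⟨0, false, ⟨4, 0, 2, 1, 3, 1, 3, 0, 2, 0, 0, 1, 0, 0, 0, 1⟩⟩,
  ⟨5, true, ⟨1, 3, 2, 1, 2, 3, 3, 3, 2, 1, 3, 1, 0, 0, 1, 3⟩⟩,
  ⟨8, false, ⟨0, 4, 3, 4, 3, 3, 0, 4, 4, 0, 3, 2, 0, 2, 1, 2⟩⟩,
  ⟨17, false, ⟨3, 3, 1, 4, 4, 3, 2, 0, 4, 4, 2, 0, 0, 0, 1, 4⟩⟩,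
  ⟨1, true, ⟨2, 3, 3, 0, 2, 4, 1, 3, 2, 3, 0, 4, 0, 0, 1, 1⟩⟩,
  ⟨34, false, ⟨3, 1, 4, 3, 4, 3, 4, 3, 2, 1, 4, 0, 0, 1, 3, 4⟩⟩,
  ⟨18, true, ⟨2, 4, 4, 1, 0, 3, 3, 3, 1, 2, 0, 3, 0, 0, 1, 2⟩⟩,
  ⟨18, true, ⟨4, 3, 1, 3, 3, 0, 4, 4, 0, 3, 4, 3, 0, 1, 0, 1⟩⟩,
  ⟨25, false, ⟨3, 2, 0, 4, 0, 0, 4, 4, 1, 4, 2, 3, 0, 1, 1, 3⟩⟩,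
  ⟨6, false, ⟨1, 3, 2, 2, 3, 1, 4, 3, 2, 1, 2, 0, 0, 0, 1, 3⟩⟩,
  ⟨16, true, ⟨1, 3, 2, 3, 2, 2, 2, 1, 4, 0, 4, 0, 0, 1, 0, 1⟩⟩,
  ⟨8, true, ⟨0, 0, 0, 4, 3, 0, 4, 2, 2, 1, 0, 1, 0, 0, 2, 1⟩⟩,
  ⟨22, true, ⟨2, 0, 4, 4, 2, 3, 0, 4, 3, 0, 4, 4, 0, 0, 0, 2⟩⟩,
  ⟨12, true, ⟨4, 3, 1, 3, 2, 2, 1, 3, 3, 1, 3, 0, 0, 0, 1, 2⟩⟩,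
  ⟨3, true, ⟨4, 4, 0, 4, 2, 3, 4, 4, 2, 4, 0, 3, 0, 1, 3, 3⟩⟩,
  ⟨10, false, ⟨3, 4, 4, 2, 3, 0, 2, 4, 3, 4, 4, 1, 0, 0, 2, 1⟩⟩,
  ⟨3, false, ⟨4, 3, 2, 0, 0, 4, 1, 2, 4, 3, 1, 0, 0, 0, 2, 4⟩⟩,
  ⟨4, true, ⟨3, 3, 3, 1, 1, 3, 2, 0, 2, 2, 0, 3, 0, 0, 2, 3⟩⟩,
  ⟨1, true, ⟨3, 2, 1, 4, 4, 2, 1, 2, 3, 2, 0, 1, 0, 0, 1, 1⟩⟩,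
  ⟨0, true, ⟨3, 0, 1, 1, 0, 1, 2, 3, 4, 0, 0, 3, 0, 0, 0, 1⟩⟩,
  ⟨0, false, ⟨1, 4, 1, 0, 1, 1, 0, 4, 3, 1, 4, 0, 0, 1, 0, 0⟩⟩,
  ⟨17, false, ⟨0, 3, 4, 1, 4, 0, 0, 2, 0, 0, 0, 2, 1, 0, 4, 3⟩⟩,
  ⟨3, true, ⟨1, 2, 3, 2, 2, 3, 3, 2, 3, 1, 1, 3, 0, 0, 2, 4⟩⟩,
  ⟨43, false, ⟨1, 2, 2, 2, 1, 4, 1, 2, 4, 2, 3, 0, 0, 1, 1, 3⟩⟩,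
  ⟨2, true, ⟨1, 4, 1, 4, 1, 0, 0, 4, 4, 0, 0, 0, 0, 1, 0, 1⟩⟩,
  ⟨30, false, ⟨4, 2, 4, 4, 0, 2, 1, 2, 0, 0, 4, 0, 0, 0, 1, 3⟩⟩,
  ⟨8, false, ⟨0, 4, 1, 4, 1, 3, 4, 2, 4, 3, 3, 3, 0, 1, 0, 1⟩⟩,
  ⟨1, false, ⟨3, 2, 1, 4, 0, 1, 4, 1, 3, 2, 3, 4, 0, 0, 1, 1⟩⟩,
  ⟨17, true, ⟨2, 2, 1, 3, 3, 0, 0, 4, 3, 3, 4, 0, 0, 0, 2, 3⟩⟩,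
  ⟨6, true, ⟨0, 0, 1, 3, 2, 1, 4, 4, 3, 2, 1, 3, 0, 0, 2, 2⟩⟩,
  ⟨5, false, ⟨1, 4, 0, 4, 2, 4, 2, 1, 2, 3, 4, 1, 0, 0, 1, 1⟩⟩,
  ⟨6, false, ⟨1, 1, 1, 1, 3, 2, 0, 0, 2, 2, 0, 0, 0, 0, 1, 4⟩⟩,
  ⟨5, false, ⟨1, 2, 0, 4, 1, 4, 3, 4, 2, 3, 3, 0, 0, 1, 3, 3⟩⟩,
  ⟨26, false, ⟨1, 0, 2, 3, 3, 0, 1, 1, 0, 4, 3, 4, 0, 2, 1, 2⟩⟩,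
  ⟨20, false, ⟨0, 4, 4, 0, 4, 4, 2, 4, 1, 2, 0, 0, 0, 1, 0, 0⟩⟩,
  ⟨8, false, ⟨3, 4, 0, 2, 1, 0, 4, 2, 0, 0, 0, 4, 0, 0, 1, 3⟩⟩,
  ⟨9, false, ⟨0, 3, 0, 2, 3, 3, 2, 2, 0, 1, 3, 1, 0, 0, 2, 0⟩⟩,
  ⟨10, false, ⟨1, 3, 4, 3, 1, 4, 2, 3, 0, 0, 4, 4, 0, 0, 2, 1⟩⟩,
  ⟨7, true, ⟨3, 3, 0, 4, 1, 0, 2, 3, 1, 1, 0, 0, 0, 0, 1, 4⟩⟩,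
  ⟨35, true, ⟨3, 2, 0, 2, 2, 0, 4, 4, 3, 3, 2, 3, 0, 1, 0, 1⟩⟩,
  ⟨7, false, ⟨4, 1, 1, 1, 4, 4, 2, 0, 4, 1, 3, 4, 0, 0, 2, 2⟩⟩,
  ⟨22, false, ⟨3, 2, 3, 4, 2, 4, 4, 0, 3, 0, 2, 2, 1, 0, 4, 3⟩⟩,
  ⟨2, true, ⟨0, 2, 1, 0, 3, 3, 1, 4, 4, 2, 4, 0, 0, 1, 0, 0⟩⟩,
  ⟨39, true, ⟨3, 4, 3, 2, 2, 0, 0, 4, 1, 3, 1, 3, 1, 0, 3, 1⟩⟩,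
  ⟨29, true, ⟨1, 1, 3, 4, 4, 2, 1, 4, 1, 2, 0, 2, 0, 1, 1, 3⟩⟩,
  ⟨0, true, ⟨0, 0, 1, 3, 2, 1, 2, 0, 4, 0, 0, 3, 0, 0, 0, 1⟩⟩,
  ⟨0, false, ⟨0, 0, 3, 0, 0, 2, 2, 4, 3, 1, 4, 0, 0, 1, 0, 0⟩⟩,
  ⟨7, false, ⟨0, 2, 0, 2, 1, 4, 1, 4, 1, 2, 4, 0, 0, 2, 1, 2⟩⟩,
  ⟨9, false, ⟨4, 3, 0, 3, 2, 3, 0, 3, 4, 2, 3, 0, 0, 2, 2, 1⟩⟩,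
  ⟨35, true, ⟨4, 3, 3, 0, 4, 0, 0, 4, 2, 3, 3, 0, 0, 1, 0, 0⟩⟩,
  ⟨7, true, ⟨2, 0, 4, 1, 3, 4, 3, 2, 3, 1, 2, 0, 0, 1, 3, 1⟩⟩,
  ⟨25, true, ⟨4, 2, 3, 1, 0, 2, 1, 4, 4, 2, 2, 1, 0, 0, 1, 3⟩⟩,
  ⟨1, false, ⟨3, 2, 1, 4, 0, 1, 0, 2, 3, 2, 3, 4, 0, 0, 1, 1⟩⟩,
  ⟨16, false, ⟨3, 1, 4, 2, 0, 0, 1, 2, 0, 0, 2, 0, 0, 2, 1, 1⟩⟩,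
  ⟨10, true, ⟨4, 2, 1, 2, 1, 4, 2, 3, 0, 0, 1, 1, 0, 0, 2, 1⟩⟩,
  ⟨9, true, ⟨4, 3, 0, 3, 2, 2, 1, 4, 3, 1, 1, 0, 0, 0, 1, 2⟩⟩,
  ⟨18, false, ⟨0, 0, 4, 4, 2, 3, 2, 1, 2, 4, 0, 1, 0, 0, 2, 4⟩⟩,
  ⟨6, false, ⟨2, 3, 4, 4, 4, 4, 1, 0, 1, 2, 4, 0, 0, 1, 3, 1⟩⟩,
  ⟨33, true, ⟨0, 4, 1, 2, 1, 2, 3, 0, 0, 1, 1, 2, 0, 0, 1, 0⟩⟩,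
  ⟨8, false, ⟨0, 0, 1, 0, 0, 3, 2, 2, 4, 3, 2, 3, 0, 0, 1, 2⟩⟩,
  ⟨6, true, ⟨2, 2, 4, 3, 3, 4, 2, 0, 2, 4, 3, 0, 0, 2, 1, 2⟩⟩,
  ⟨48, true, ⟨1, 2, 0, 4, 1, 1, 3, 3, 2, 4, 4, 4, 0, 0, 2, 4⟩⟩,
  ⟨9, true, ⟨0, 0, 4, 0, 0, 3, 4, 4, 1, 4, 0, 0, 0, 0, 2, 2⟩⟩,
  ⟨5, false, ⟨2, 3, 2, 0, 2, 3, 1, 4, 2, 2, 4, 4, 1, 0, 4, 3⟩⟩,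
  ⟨2, true, ⟨3, 3, 3, 2, 0, 1, 1, 3, 2, 2, 4, 3, 0, 2, 1, 2⟩⟩,
  ⟨32, true, ⟨0, 0, 4, 3, 1, 2, 3, 4, 0, 3, 1, 3, 0, 0, 1, 0⟩⟩,
  ⟨18, false, ⟨3, 4, 4, 0, 4, 4, 2, 0, 2, 4, 0, 1, 1, 0, 4, 3⟩⟩,
  ⟨3, false, ⟨1, 1, 4, 3, 3, 2, 1, 2, 3, 3, 0, 2, 0, 0, 1, 4⟩⟩,
  ⟨8, false, ⟨2, 2, 3, 0, 0, 4, 4, 1, 2, 2, 1, 0, 0, 0, 1, 4⟩⟩,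
  ⟨42, true, ⟨3, 0, 4, 4, 0, 3, 4, 1, 2, 0, 3, 1, 0, 2, 1, 1⟩⟩,
  ⟨3, true, ⟨3, 3, 1, 3, 0, 4, 2, 2, 2, 2, 1, 2, 0, 0, 1, 4⟩⟩,
  ⟨1, false, ⟨2, 3, 3, 0, 3, 3, 4, 2, 2, 3, 2, 1, 0, 0, 1, 1⟩⟩,
  ⟨41, false, ⟨0, 3, 2, 3, 3, 2, 2, 4, 0, 1, 1, 3, 0, 0, 2, 0⟩⟩,
  ⟨12, true, ⟨4, 3, 0, 0, 1, 0, 1, 2, 0, 0, 0, 2, 0, 0, 1, 2⟩⟩,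
  ⟨0, true, ⟨2, 4, 2, 0, 1, 2, 3, 4, 4, 0, 2, 0, 0, 1, 0, 0⟩⟩,
  ⟨0, false, ⟨0, 0, 2, 2, 4, 1, 3, 1, 2, 0, 0, 1, 0, 0, 0, 1⟩⟩,
  ⟨5, false, ⟨4, 4, 4, 1, 2, 0, 4, 3, 3, 2, 4, 1, 0, 2, 1, 2⟩⟩,
  ⟨1, false, ⟨3, 2, 1, 4, 0, 1, 1, 3, 3, 2, 3, 4, 0, 0, 1, 1⟩⟩,
  ⟨5, false, ⟨1, 4, 4, 3, 1, 0, 0, 1, 2, 3, 3, 0, 0, 0, 1, 1⟩⟩,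
  ⟨4, true, ⟨2, 4, 0, 2, 4, 1, 0, 3, 4, 3, 1, 0, 0, 0, 1, 2⟩⟩,
  ⟨0, true, ⟨0, 1, 2, 3, 4, 2, 1, 4, 4, 1, 1, 2, 0, 1, 1, 3⟩⟩,
  ⟨0, false, ⟨4, 2, 3, 0, 1, 4, 2, 0, 2, 3, 0, 1, 0, 2, 2, 1⟩⟩,
  ⟨12, true, ⟨3, 3, 2, 2, 1, 4, 4, 1, 0, 3, 1, 3, 0, 1, 3, 1⟩⟩,
  ⟨17, true, ⟨4, 4, 1, 1, 1, 3, 4, 2, 4, 1, 2, 2, 0, 2, 2, 1⟩⟩,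
  ⟨9, false, ⟨3, 0, 0, 0, 3, 4, 0, 3, 0, 4, 2, 4, 0, 1, 0, 1⟩⟩,
  ⟨56, false, ⟨1, 0, 3, 0, 3, 1, 4, 4, 2, 2, 2, 0, 0, 1, 0, 0⟩⟩]

/-- Certificates. -/
def data16 : List (Cert (ZMod 5)) := [
  ⟨2, true, ⟨4, 1, 1, 3, 2, 4, 1, 0, 1, 4, 0, 4, 0, 0, 1, 1⟩⟩,
  ⟨24, false, ⟨1, 1, 1, 2, 0, 4, 0, 3, 1, 1, 2, 2, 0, 0, 1, 4⟩⟩,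
  ⟨2, true, ⟨4, 2, 3, 4, 1, 4, 3, 1, 4, 2, 4, 0, 0, 0, 2, 1⟩⟩,
  ⟨12, true, ⟨0, 0, 4, 0, 0, 3, 0, 4, 1, 2, 1, 1, 0, 0, 1, 2⟩⟩,
  ⟨80, true, ⟨1, 2, 1, 0, 0, 3, 1, 2, 4, 3, 0, 0, 0, 1, 3, 1⟩⟩,
  ⟨27, true, ⟨4, 4, 1, 1, 0, 2, 1, 2, 1, 1, 3, 4, 0, 0, 2, 3⟩⟩,
  ⟨4, true, ⟨4, 4, 2, 1, 0, 2, 3, 0, 2, 2, 0, 3, 0, 0, 2, 3⟩⟩,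
  ⟨31, true, ⟨3, 4, 2, 3, 4, 4, 3, 4, 3, 4, 1, 4, 0, 0, 1, 3⟩⟩,
  ⟨39, true, ⟨3, 3, 2, 3, 2, 1, 1, 3, 1, 3, 1, 3, 1, 0, 3, 1⟩⟩,
  ⟨4, false, ⟨2, 2, 0, 1, 4, 1, 3, 0, 3, 3, 4, 3, 0, 0, 2, 3⟩⟩,
  ⟨1, false, ⟨2, 3, 3, 0, 3, 3, 3, 1, 2, 3, 2, 1, 0, 0, 1, 1⟩⟩,
  ⟨11, false, ⟨4, 3, 1, 3, 3, 4, 4, 3, 4, 3, 3, 4, 0, 0, 1, 2⟩⟩,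
  ⟨6, true, ⟨1, 3, 0, 1, 2, 3, 2, 2, 2, 1, 4, 1, 0, 0, 1, 3⟩⟩,
  ⟨19, true, ⟨0, 0, 0, 3, 3, 0, 3, 1, 2, 3, 3, 2, 0, 0, 2, 2⟩⟩,
  ⟨6, false, ⟨0, 0, 0, 2, 3, 0, 0, 2, 4, 2, 3, 2, 0, 0, 2, 1⟩⟩,
  ⟨36, true, ⟨1, 3, 4, 3, 1, 4, 2, 3, 1, 3, 3, 2, 0, 0, 2, 1⟩⟩,
  ⟨1, false, ⟨3, 2, 1, 4, 0, 1, 2, 4, 3, 2, 3, 4, 0, 0, 1, 1⟩⟩,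
  ⟨2, true, ⟨1, 4, 0, 2, 1, 2, 3, 4, 1, 3, 3, 1, 0, 1, 3, 1⟩⟩,
  ⟨11, false, ⟨2, 0, 3, 4, 1, 1, 1, 4, 4, 3, 0, 1, 1, 0, 4, 3⟩⟩,
  ⟨3, true, ⟨0, 3, 3, 3, 2, 4, 4, 1, 2, 3, 4, 2, 1, 0, 3, 1⟩⟩,
  ⟨27, false, ⟨4, 4, 0, 2, 4, 1, 1, 2, 1, 1, 2, 0, 0, 0, 2, 3⟩⟩,
  ⟨15, false, ⟨2, 1, 2, 0, 0, 2, 1, 3, 2, 1, 0, 0, 0, 0, 1, 3⟩⟩,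
  ⟨45, true, ⟨4, 2, 3, 0, 4, 4, 2, 2, 3, 4, 4, 2, 0, 0, 1, 3⟩⟩,
  ⟨5, false, ⟨3, 4, 0, 0, 4, 4, 1, 3, 0, 4, 1, 2, 0, 2, 2, 1⟩⟩,
  ⟨2, true, ⟨2, 2, 2, 1, 1, 0, 0, 1, 3, 3, 3, 2, 0, 0, 1, 4⟩⟩,
  ⟨16, false, ⟨1, 0, 0, 2, 3, 2, 4, 3, 4, 2, 0, 1, 0, 1, 2, 4⟩⟩,
  ⟨3, true, ⟨3, 1, 2, 2, 0, 2, 3, 0, 2, 4, 0, 3, 0, 1, 3, 3⟩⟩,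
  ⟨18, false, ⟨1, 0, 3, 0, 1, 1, 3, 0, 1, 0, 4, 4, 0, 0, 0, 1⟩⟩,
  ⟨3, false, ⟨2, 4, 2, 1, 1, 1, 1, 4, 4, 3, 1, 0, 0, 0, 2, 4⟩⟩,
  ⟨7, true, ⟨1, 4, 0, 2, 2, 4, 1, 3, 2, 3, 4, 2, 0, 0, 1, 1⟩⟩,
  ⟨5, false, ⟨0, 2, 3, 3, 4, 3, 1, 3, 2, 2, 4, 4, 0, 1, 3, 4⟩⟩,
  ⟨10, true, ⟨4, 0, 3, 1, 4, 1, 2, 1, 0, 0, 4, 4, 0, 0, 0, 1⟩⟩,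
  ⟨36, true, ⟨3, 1, 1, 4, 4, 1, 1, 0, 3, 1, 0, 3, 0, 0, 1, 2⟩⟩,
  ⟨17, true, ⟨0, 0, 4, 0, 0, 2, 2, 2, 1, 3, 2, 4, 0, 1, 2, 4⟩⟩,
  ⟨22, true, ⟨4, 0, 4, 1, 1, 3, 3, 1, 0, 0, 4, 2, 0, 0, 0, 2⟩⟩,
  ⟨1, false, ⟨2, 3, 3, 0, 3, 3, 2, 0, 2, 3, 2, 1, 0, 0, 1, 1⟩⟩,
  ⟨8, false, ⟨3, 1, 0, 4, 3, 0, 1, 2, 0, 0, 0, 1, 1, 0, 4, 3⟩⟩,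
  ⟨4, true, ⟨3, 4, 3, 1, 2, 2, 2, 3, 1, 2, 0, 4, 1, 0, 3, 1⟩⟩,
  ⟨5, false, ⟨1, 3, 4, 0, 3, 0, 2, 0, 4, 2, 1, 2, 0, 0, 2, 1⟩⟩,
  ⟨2, true, ⟨0, 2, 1, 0, 3, 0, 0, 4, 0, 2, 1, 3, 0, 0, 2, 0⟩⟩,
  ⟨4, false, ⟨0, 3, 4, 3, 1, 1, 1, 4, 3, 1, 0, 2, 1, 0, 4, 3⟩⟩,
  ⟨1, false, ⟨3, 2, 1, 4, 0, 1, 3, 0, 3, 2, 3, 4, 0, 0, 1, 1⟩⟩,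
  ⟨41, true, ⟨0, 3, 3, 3, 4, 4, 1, 3, 3, 0, 2, 0, 0, 1, 0, 1⟩⟩,
  ⟨6, true, ⟨0, 0, 4, 2, 1, 3, 0, 0, 4, 4, 0, 0, 0, 0, 2, 3⟩⟩,
  ⟨22, true, ⟨1, 0, 1, 2, 1, 3, 2, 3, 0, 0, 1, 3, 0, 0, 0, 2⟩⟩,
  ⟨6, false, ⟨2, 3, 4, 1, 1, 0, 2, 0, 4, 1, 3, 4, 0, 0, 1, 1⟩⟩,
  ⟨20, false, ⟨2, 4, 0, 3, 3, 3, 1, 3, 4, 2, 4, 1, 1, 0, 3, 1⟩⟩,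
  ⟨4, false, ⟨1, 2, 1, 3, 3, 4, 4, 3, 3, 1, 1, 3, 0, 0, 1, 2⟩⟩,
  ⟨0, true, ⟨0, 0, 2, 1, 2, 1, 3, 0, 4, 1, 0, 2, 0, 0, 2, 2⟩⟩,
  ⟨0, false, ⟨4, 1, 1, 4, 4, 4, 1, 1, 1, 4, 1, 4, 0, 0, 2, 2⟩⟩,
  ⟨35, true, ⟨3, 1, 0, 1, 3, 3, 4, 1, 0, 4, 1, 2, 0, 1, 1, 3⟩⟩,
  ⟨10, true, ⟨3, 1, 0, 0, 4, 1, 4, 3, 0, 0, 4, 4, 0, 0, 1, 2⟩⟩,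
  ⟨8, false, ⟨3, 3, 1, 3, 4, 0, 1, 2, 4, 1, 4, 2, 0, 1, 2, 4⟩⟩,
  ⟨9, true, ⟨3, 3, 0, 3, 2, 1, 1, 0, 0, 0, 3, 4, 0, 0, 1, 4⟩⟩,
  ⟨11, true, ⟨0, 0, 4, 4, 4, 1, 0, 3, 2, 4, 3, 0, 0, 0, 1, 2⟩⟩,
  ⟨22, false, ⟨4, 0, 3, 2, 0, 1, 3, 4, 4, 0, 2, 2, 0, 0, 0, 1⟩⟩,
  ⟨5, false, ⟨1, 4, 4, 3, 1, 0, 0, 1, 1, 3, 3, 4, 0, 1, 2, 4⟩⟩,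
  ⟨19, true, ⟨0, 0, 1, 3, 4, 2, 4, 1, 3, 2, 2, 3, 0, 0, 1, 1⟩⟩,
  ⟨10, false, ⟨0, 4, 1, 2, 1, 4, 0, 1, 0, 0, 4, 4, 0, 0, 1, 0⟩⟩,
  ⟨15, false, ⟨1, 0, 4, 0, 4, 4, 1, 4, 2, 1, 4, 0, 0, 1, 0, 0⟩⟩,
  ⟨1, false, ⟨2, 3, 3, 0, 3, 3, 1, 4, 2, 3, 2, 1, 0, 0, 1, 1⟩⟩,
  ⟨24, true, ⟨1, 4, 0, 0, 3, 1, 1, 1, 1, 1, 2, 1, 0, 1, 3, 3⟩⟩,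
  ⟨2, true, ⟨1, 3, 1, 0, 1, 1, 3, 1, 0, 4, 3, 1, 0, 1, 3, 4⟩⟩,
  ⟨0, true, ⟨4, 2, 3, 0, 3, 0, 4, 4, 4, 0, 2, 0, 0, 1, 0, 0⟩⟩,
  ⟨0, false, ⟨1, 0, 2, 3, 0, 1, 3, 2, 2, 0, 0, 1, 0, 0, 0, 1⟩⟩,
  ⟨12, false, ⟨2, 4, 3, 3, 3, 0, 3, 2, 0, 0, 0, 4, 0, 0, 2, 4⟩⟩,
  ⟨15, true, ⟨0, 0, 4, 1, 4, 4, 2, 2, 3, 2, 4, 1, 0, 0, 2, 2⟩⟩,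
  ⟨12, false, ⟨4, 3, 2, 4, 0, 4, 0, 2, 3, 1, 3, 3, 0, 0, 2, 4⟩⟩,
  ⟨25, false, ⟨1, 3, 0, 3, 2, 2, 4, 4, 3, 4, 2, 2, 0, 0, 2, 1⟩⟩,
  ⟨26, false, ⟨2, 4, 1, 1, 1, 1, 1, 0, 4, 3, 4, 0, 0, 0, 2, 4⟩⟩,
  ⟨17, false, ⟨4, 1, 1, 1, 0, 3, 1, 4, 0, 0, 4, 0, 0, 0, 2, 2⟩⟩,
  ⟨35, false, ⟨2, 4, 2, 3, 4, 2, 3, 2, 4, 1, 1, 0, 0, 1, 3, 3⟩⟩,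
  ⟨9, false, ⟨2, 4, 0, 4, 4, 3, 2, 2, 0, 3, 3, 3, 0, 1, 0, 1⟩⟩,
  ⟨5, true, ⟨0, 0, 3, 0, 0, 1, 3, 3, 3, 4, 0, 1, 0, 0, 2, 1⟩⟩,
  ⟨17, true, ⟨0, 3, 0, 3, 2, 2, 3, 2, 4, 3, 4, 0, 0, 1, 3, 1⟩⟩,
  ⟨36, false, ⟨1, 1, 3, 2, 4, 1, 1, 3, 0, 0, 3, 3, 0, 0, 2, 3⟩⟩,
  ⟨9, false, ⟨4, 4, 2, 1, 1, 3, 2, 3, 0, 0, 1, 3, 0, 0, 2, 3⟩⟩,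
  ⟨2, true, ⟨2, 2, 3, 3, 4, 4, 2, 0, 0, 3, 1, 4, 0, 1, 1, 3⟩⟩,
  ⟨47, false, ⟨4, 2, 2, 4, 4, 2, 1, 1, 2, 4, 0, 3, 1, 0, 4, 3⟩⟩,
  ⟨17, false, ⟨2, 3, 4, 1, 2, 4, 0, 4, 2, 2, 0, 2, 0, 1, 2, 4⟩⟩,
  ⟨37, true, ⟨0, 0, 2, 2, 1, 4, 1, 0, 3, 4, 1, 3, 0, 0, 2, 1⟩⟩,
  ⟨4, true, ⟨0, 0, 1, 1, 4, 1, 4, 0, 2, 2, 0, 3, 0, 0, 2, 3⟩⟩,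
  ⟨11, false, ⟨4, 4, 3, 4, 0, 2, 2, 0, 4, 4, 2, 4, 0, 0, 2, 3⟩⟩,
  ⟨29, false, ⟨3, 1, 3, 1, 2, 4, 3, 1, 3, 3, 2, 2, 0, 2, 2, 1⟩⟩,
  ⟨2, false, ⟨1, 4, 1, 4, 2, 1, 1, 0, 4, 4, 0, 4, 0, 1, 0, 1⟩⟩,
  ⟨6, true, ⟨2, 4, 1, 4, 1, 3, 0, 2, 4, 0, 0, 0, 0, 1, 0, 1⟩⟩,
  ⟨5, true, ⟨1, 0, 4, 3, 1, 2, 0, 3, 3, 4, 0, 1, 0, 1, 3, 3⟩⟩,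
  ⟨45, false, ⟨0, 4, 0, 4, 1, 3, 4, 3, 3, 1, 0, 0, 0, 2, 1, 2⟩⟩,
  ⟨2, false, ⟨0, 4, 4, 2, 1, 2, 3, 2, 0, 2, 4, 0, 0, 0, 1, 0⟩⟩,
  ⟨6, true, ⟨2, 1, 3, 2, 3, 0, 3, 3, 1, 4, 0, 2, 0, 1, 3, 1⟩⟩]

/-- Certificates. -/
def data17 : List (Cert (ZMod 5)) := [
  ⟨19, true, ⟨0, 0, 0, 3, 3, 0, 4, 2, 2, 3, 3, 2, 0, 0, 2, 2⟩⟩,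
  ⟨20, true, ⟨3, 1, 2, 2, 1, 3, 3, 4, 3, 2, 2, 0, 0, 2, 1, 1⟩⟩,
  ⟨9, false, ⟨3, 1, 2, 1, 4, 2, 2, 4, 0, 0, 1, 3, 0, 0, 2, 4⟩⟩,
  ⟨2, false, ⟨2, 2, 3, 3, 0, 1, 2, 2, 0, 0, 3, 0, 0, 1, 1, 3⟩⟩,
  ⟨5, true, ⟨1, 4, 1, 1, 4, 4, 4, 1, 4, 1, 2, 1, 0, 0, 2, 2⟩⟩,
  ⟨28, false, ⟨4, 3, 2, 1, 2, 0, 1, 0, 1, 4, 3, 0, 0, 1, 3, 3⟩⟩,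
  ⟨0, true, ⟨2, 3, 3, 3, 4, 4, 4, 2, 4, 1, 0, 2, 0, 0, 2, 2⟩⟩,
  ⟨0, false, ⟨2, 3, 0, 2, 2, 1, 0, 4, 1, 4, 1, 4, 0, 0, 2, 2⟩⟩,
  ⟨7, false, ⟨0, 0, 4, 4, 1, 4, 1, 4, 0, 1, 4, 0, 0, 0, 1, 0⟩⟩,
  ⟨18, true, ⟨0, 3, 4, 1, 3, 3, 3, 0, 0, 3, 2, 3, 0, 0, 2, 0⟩⟩,
  ⟨19, true, ⟨0, 0, 3, 0, 0, 3, 2, 4, 3, 2, 2, 3, 0, 0, 2, 2⟩⟩,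
  ⟨2, true, ⟨4, 2, 3, 3, 1, 0, 2, 0, 0, 2, 0, 1, 0, 2, 1, 1⟩⟩,
  ⟨32, false, ⟨0, 0, 4, 4, 3, 2, 3, 3, 0, 1, 2, 1, 0, 0, 2, 0⟩⟩,
  ⟨25, true, ⟨0, 1, 1, 1, 3, 4, 4, 2, 3, 4, 1, 3, 0, 1, 3, 1⟩⟩,
  ⟨12, false, ⟨1, 2, 1, 2, 3, 0, 3, 0, 2, 4, 2, 2, 0, 0, 2, 4⟩⟩,
  ⟨34, false, ⟨0, 0, 2, 4, 2, 4, 2, 0, 4, 4, 1, 4, 0, 0, 2, 3⟩⟩,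
  ⟨0, false, ⟨4, 1, 0, 0, 4, 3, 4, 4, 3, 1, 4, 0, 0, 1, 0, 0⟩⟩,
  ⟨5, false, ⟨2, 4, 3, 0, 0, 3, 2, 4, 1, 2, 2, 0, 0, 1, 0, 0⟩⟩,
  ⟨47, true, ⟨1, 1, 1, 1, 2, 4, 3, 3, 3, 3, 0, 2, 0, 0, 2, 3⟩⟩,
  ⟨15, true, ⟨3, 0, 1, 0, 3, 3, 1, 2, 3, 4, 3, 4, 0, 1, 0, 1⟩⟩,
  ⟨0, true, ⟨2, 0, 1, 0, 4, 1, 2, 2, 4, 0, 0, 3, 0, 0, 0, 1⟩⟩,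
  ⟨23, true, ⟨0, 1, 1, 0, 4, 1, 3, 4, 4, 1, 4, 0, 0, 1, 0, 0⟩⟩,
  ⟨8, true, ⟨4, 0, 2, 3, 4, 3, 3, 4, 3, 4, 1, 2, 0, 1, 2, 4⟩⟩,
  ⟨26, true, ⟨4, 3, 3, 1, 4, 1, 0, 1, 2, 4, 2, 1, 0, 0, 1, 2⟩⟩,
  ⟨28, true, ⟨1, 1, 0, 1, 3, 4, 4, 0, 4, 1, 2, 0, 0, 1, 3, 3⟩⟩,
  ⟨57, true, ⟨1, 0, 2, 1, 2, 2, 1, 2, 1, 3, 1, 0, 0, 1, 1, 3⟩⟩,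
  ⟨45, false, ⟨0, 2, 3, 2, 2, 0, 4, 3, 2, 4, 0, 0, 0, 2, 1, 2⟩⟩,
  ⟨16, true, ⟨4, 4, 2, 1, 0, 3, 0, 2, 3, 3, 3, 2, 0, 1, 3, 1⟩⟩,
  ⟨0, true, ⟨2, 2, 3, 3, 1, 3, 2, 4, 4, 1, 1, 2, 0, 1, 1, 3⟩⟩,
  ⟨0, false, ⟨0, 2, 4, 1, 2, 4, 3, 1, 2, 3, 0, 1, 0, 2, 2, 1⟩⟩,
  ⟨8, true, ⟨4, 4, 0, 1, 2, 2, 3, 0, 3, 2, 3, 4, 0, 2, 2, 1⟩⟩,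
  ⟨5, true, ⟨1, 2, 0, 0, 4, 4, 4, 3, 4, 0, 2, 2, 0, 2, 1, 2⟩⟩,
  ⟨6, true, ⟨1, 1, 4, 4, 0, 2, 4, 4, 2, 2, 4, 3, 0, 2, 1, 2⟩⟩,
  ⟨8, true, ⟨0, 0, 3, 0, 0, 4, 3, 0, 3, 1, 4, 1, 0, 0, 2, 4⟩⟩,
  ⟨29, true, ⟨1, 0, 0, 0, 3, 0, 0, 4, 4, 2, 1, 0, 0, 1, 0, 0⟩⟩,
  ⟨12, false, ⟨1, 3, 3, 1, 3, 2, 2, 3, 0, 4, 3, 4, 0, 2, 1, 2⟩⟩,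
  ⟨3, false, ⟨0, 0, 2, 2, 2, 3, 1, 1, 4, 3, 1, 0, 0, 0, 2, 4⟩⟩,
  ⟨7, false, ⟨4, 1, 0, 3, 1, 0, 1, 1, 3, 2, 0, 2, 0, 0, 1, 1⟩⟩,
  ⟨35, false, ⟨0, 0, 2, 0, 0, 3, 4, 1, 2, 1, 1, 3, 0, 1, 2, 4⟩⟩,
  ⟨3, true, ⟨2, 3, 4, 0, 3, 1, 2, 1, 2, 4, 0, 3, 0, 1, 3, 3⟩⟩,
  ⟨19, false, ⟨0, 0, 3, 0, 0, 1, 4, 0, 3, 2, 1, 2, 0, 0, 1, 1⟩⟩,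
  ⟨15, true, ⟨0, 3, 4, 3, 3, 0, 4, 4, 0, 1, 3, 3, 0, 0, 2, 0⟩⟩,
  ⟨5, true, ⟨3, 4, 4, 1, 2, 3, 1, 2, 4, 3, 0, 0, 1, 0, 4, 3⟩⟩,
  ⟨3, true, ⟨2, 2, 2, 3, 3, 2, 4, 2, 2, 2, 1, 2, 0, 0, 1, 4⟩⟩,
  ⟨8, true, ⟨2, 3, 1, 2, 3, 0, 4, 0, 0, 0, 0, 2, 0, 0, 2, 2⟩⟩,
  ⟨3, false, ⟨2, 2, 3, 3, 0, 4, 4, 2, 3, 3, 0, 2, 0, 0, 1, 4⟩⟩,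
  ⟨3, true, ⟨2, 4, 3, 4, 4, 2, 3, 1, 3, 1, 1, 3, 0, 0, 2, 4⟩⟩,
  ⟨9, true, ⟨0, 0, 2, 0, 0, 2, 0, 0, 2, 1, 4, 0, 0, 1, 1, 3⟩⟩,
  ⟨3, false, ⟨1, 0, 0, 3, 0, 2, 1, 0, 4, 0, 1, 2, 0, 1, 3, 3⟩⟩,
  ⟨12, false, ⟨4, 2, 2, 1, 0, 1, 2, 4, 1, 3, 2, 4, 0, 0, 2, 1⟩⟩,
  ⟨29, true, ⟨1, 2, 0, 4, 1, 1, 1, 4, 1, 3, 3, 0, 1, 0, 4, 3⟩⟩,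
  ⟨5, false, ⟨1, 4, 1, 0, 3, 3, 4, 1, 2, 3, 0, 2, 0, 0, 1, 1⟩⟩,
  ⟨3, false, ⟨2, 3, 2, 3, 2, 1, 0, 4, 4, 4, 3, 0, 1, 0, 4, 3⟩⟩,
  ⟨43, true, ⟨3, 0, 3, 2, 3, 1, 2, 3, 2, 0, 4, 2, 0, 0, 0, 1⟩⟩,
  ⟨2, true, ⟨3, 4, 2, 1, 0, 1, 1, 2, 1, 3, 1, 2, 0, 1, 3, 3⟩⟩,
  ⟨3, true, ⟨3, 4, 3, 1, 3, 1, 4, 2, 2, 3, 4, 2, 1, 0, 3, 1⟩⟩,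
  ⟨4, true, ⟨0, 4, 1, 2, 2, 3, 2, 2, 1, 0, 4, 3, 0, 2, 1, 1⟩⟩,
  ⟨6, true, ⟨0, 0, 4, 4, 1, 4, 4, 4, 4, 2, 4, 0, 0, 0, 2, 1⟩⟩,
  ⟨38, true, ⟨2, 3, 0, 1, 4, 0, 3, 3, 4, 4, 1, 1, 0, 1, 1, 3⟩⟩,
  ⟨4, false, ⟨0, 0, 1, 1, 4, 1, 4, 0, 3, 1, 1, 3, 0, 0, 1, 2⟩⟩,
  ⟨20, true, ⟨0, 4, 3, 4, 2, 1, 4, 0, 3, 3, 2, 3, 0, 1, 0, 1⟩⟩,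
  ⟨2, false, ⟨3, 4, 2, 1, 1, 3, 2, 1, 1, 1, 0, 1, 0, 1, 3, 3⟩⟩,
  ⟨11, true, ⟨4, 3, 4, 2, 2, 2, 0, 4, 2, 4, 3, 0, 0, 0, 1, 2⟩⟩,
  ⟨9, false, ⟨3, 2, 1, 3, 4, 2, 1, 1, 3, 2, 0, 0, 0, 0, 1, 1⟩⟩,
  ⟨11, false, ⟨4, 3, 1, 1, 0, 2, 2, 3, 4, 3, 0, 1, 0, 2, 1, 1⟩⟩,
  ⟨8, true, ⟨0, 0, 4, 2, 3, 4, 2, 0, 0, 2, 4, 2, 0, 0, 2, 0⟩⟩,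
  ⟨2, false, ⟨3, 2, 4, 2, 0, 1, 2, 3, 2, 3, 3, 3, 0, 1, 3, 4⟩⟩,
  ⟨12, false, ⟨1, 3, 1, 3, 1, 4, 4, 3, 4, 2, 3, 1, 0, 0, 2, 1⟩⟩,
  ⟨8, true, ⟨1, 1, 4, 0, 0, 2, 4, 1, 4, 4, 2, 0, 0, 0, 2, 3⟩⟩,
  ⟨78, true, ⟨3, 2, 4, 4, 3, 2, 3, 3, 0, 4, 1, 2, 0, 1, 1, 3⟩⟩,
  ⟨42, true, ⟨2, 2, 1, 2, 2, 4, 0, 0, 2, 0, 3, 1, 0, 2, 1, 1⟩⟩,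
  ⟨4, true, ⟨3, 0, 4, 0, 2, 1, 1, 4, 1, 2, 0, 4, 1, 0, 3, 1⟩⟩,
  ⟨5, false, ⟨1, 4, 2, 0, 0, 4, 4, 4, 2, 3, 0, 0, 0, 2, 1, 1⟩⟩,
  ⟨73, true, ⟨0, 3, 1, 3, 2, 3, 2, 2, 4, 3, 0, 3, 0, 1, 0, 1⟩⟩,
  ⟨4, false, ⟨1, 1, 2, 0, 0, 3, 3, 2, 3, 1, 0, 2, 1, 0, 4, 3⟩⟩,
  ⟨2, false, ⟨2, 4, 0, 0, 0, 0, 2, 4, 0, 0, 3, 0, 0, 1, 0, 0⟩⟩,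
  ⟨4, true, ⟨4, 3, 0, 1, 2, 2, 0, 4, 4, 3, 1, 0, 0, 0, 1, 2⟩⟩,
  ⟨16, true, ⟨2, 1, 2, 3, 2, 3, 2, 4, 1, 3, 3, 1, 0, 0, 1, 3⟩⟩,
  ⟨2, true, ⟨3, 2, 0, 0, 1, 4, 4, 4, 0, 3, 1, 4, 0, 1, 3, 3⟩⟩,
  ⟨4, false, ⟨1, 2, 3, 4, 0, 2, 2, 3, 3, 1, 0, 2, 0, 2, 1, 1⟩⟩,
  ⟨5, false, ⟨1, 4, 3, 2, 0, 1, 3, 1, 2, 3, 2, 4, 0, 0, 1, 1⟩⟩,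
  ⟨12, false, ⟨4, 0, 1, 2, 3, 1, 0, 2, 0, 1, 2, 1, 0, 2, 1, 2⟩⟩,
  ⟨24, true, ⟨0, 1, 3, 0, 2, 0, 2, 1, 0, 3, 4, 1, 1, 0, 4, 3⟩⟩,
  ⟨31, true, ⟨3, 1, 3, 0, 2, 3, 0, 1, 3, 3, 1, 2, 0, 2, 1, 2⟩⟩,
  ⟨9, true, ⟨0, 4, 2, 2, 1, 0, 4, 3, 0, 3, 4, 3, 0, 0, 1, 0⟩⟩,
  ⟨7, false, ⟨4, 4, 1, 0, 4, 1, 2, 4, 2, 1, 2, 0, 0, 1, 0, 0⟩⟩,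
  ⟨6, true, ⟨0, 2, 1, 2, 1, 1, 2, 4, 0, 2, 3, 0, 0, 0, 1, 0⟩⟩,
  ⟨20, true, ⟨3, 2, 0, 0, 4, 4, 1, 1, 3, 2, 1, 4, 0, 0, 2, 2⟩⟩,
  ⟨12, false, ⟨2, 4, 4, 0, 4, 4, 2, 3, 3, 2, 2, 1, 0, 2, 1, 2⟩⟩,
  ⟨76, true, ⟨0, 0, 0, 1, 1, 0, 4, 4, 1, 4, 0, 2, 0, 0, 1, 1⟩⟩]

/-- Certificates. -/
def data18 : List (Cert (ZMod 5)) := [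
  ⟨7, false, ⟨2, 2, 0, 1, 3, 2, 2, 4, 4, 4, 4, 1, 0, 0, 1, 4⟩⟩,
  ⟨25, true, ⟨4, 2, 4, 3, 0, 0, 3, 4, 4, 2, 3, 3, 0, 1, 3, 3⟩⟩,
  ⟨16, true, ⟨4, 3, 1, 3, 4, 1, 1, 1, 4, 2, 4, 0, 0, 1, 1, 3⟩⟩,
  ⟨2, true, ⟨0, 4, 0, 0, 1, 2, 0, 0, 0, 1, 2, 4, 0, 0, 1, 0⟩⟩,
  ⟨48, true, ⟨4, 2, 4, 0, 1, 0, 0, 2, 4, 2, 4, 3, 0, 0, 1, 3⟩⟩,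
  ⟨6, true, ⟨0, 0, 0, 2, 3, 0, 1, 4, 0, 2, 1, 3, 0, 0, 2, 0⟩⟩,
  ⟨6, true, ⟨2, 1, 1, 4, 0, 4, 0, 1, 1, 3, 1, 2, 0, 1, 3, 3⟩⟩,
  ⟨50, true, ⟨1, 4, 1, 0, 1, 0, 1, 0, 3, 0, 3, 4, 0, 2, 1, 1⟩⟩,
  ⟨58, true, ⟨4, 3, 4, 3, 4, 2, 3, 0, 0, 0, 2, 1, 0, 0, 2, 4⟩⟩,
  ⟨59, true, ⟨1, 3, 2, 0, 2, 3, 2, 4, 3, 2, 2, 0, 0, 1, 0, 0⟩⟩,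
  ⟨9, false, ⟨0, 0, 1, 0, 0, 4, 1, 3, 4, 1, 3, 3, 0, 1, 3, 1⟩⟩,
  ⟨16, false, ⟨2, 3, 1, 4, 4, 2, 2, 1, 1, 0, 4, 3, 0, 2, 1, 2⟩⟩,
  ⟨15, false, ⟨2, 3, 3, 0, 4, 2, 2, 1, 4, 1, 2, 3, 0, 0, 1, 1⟩⟩,
  ⟨40, true, ⟨4, 1, 4, 1, 1, 0, 4, 3, 0, 0, 0, 1, 0, 0, 1, 1⟩⟩,
  ⟨16, true, ⟨0, 4, 0, 4, 2, 2, 4, 2, 3, 0, 2, 4, 0, 1, 3, 1⟩⟩,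
  ⟨10, false, ⟨3, 4, 3, 0, 2, 3, 3, 3, 0, 0, 3, 3, 0, 0, 1, 3⟩⟩,
  ⟨7, true, ⟨3, 0, 0, 4, 3, 3, 4, 0, 1, 4, 4, 4, 0, 1, 3, 4⟩⟩,
  ⟨20, false, ⟨3, 4, 1, 2, 0, 4, 1, 0, 2, 1, 1, 3, 0, 1, 2, 4⟩⟩,
  ⟨40, true, ⟨0, 1, 3, 0, 3, 0, 1, 4, 0, 0, 0, 1, 1, 0, 4, 3⟩⟩,
  ⟨1, false, ⟨3, 2, 3, 1, 3, 0, 1, 3, 3, 2, 3, 4, 0, 0, 2, 2⟩⟩,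
  ⟨8, false, ⟨2, 4, 4, 4, 0, 3, 2, 2, 0, 0, 3, 0, 0, 0, 1, 2⟩⟩,
  ⟨22, false, ⟨3, 4, 1, 4, 3, 4, 4, 3, 2, 0, 1, 0, 0, 1, 0, 1⟩⟩,
  ⟨1, false, ⟨2, 3, 0, 2, 1, 2, 2, 0, 2, 3, 2, 1, 0, 0, 2, 2⟩⟩,
  ⟨12, false, ⟨2, 1, 1, 0, 4, 3, 1, 2, 2, 4, 2, 4, 0, 1, 1, 3⟩⟩,
  ⟨8, false, ⟨2, 2, 4, 2, 0, 1, 3, 3, 1, 1, 0, 1, 0, 1, 2, 4⟩⟩,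
  ⟨22, true, ⟨3, 4, 3, 1, 1, 1, 3, 0, 1, 0, 3, 0, 1, 0, 3, 1⟩⟩,
  ⟨24, true, ⟨2, 2, 3, 4, 0, 1, 0, 2, 4, 2, 4, 4, 1, 0, 3, 1⟩⟩,
  ⟨42, true, ⟨1, 4, 3, 0, 4, 0, 1, 4, 2, 0, 3, 1, 0, 2, 1, 1⟩⟩,
  ⟨7, true, ⟨4, 1, 3, 0, 0, 0, 4, 4, 0, 0, 4, 0, 0, 1, 0, 0⟩⟩,
  ⟨6, true, ⟨1, 4, 3, 4, 1, 4, 2, 3, 0, 4, 3, 1, 0, 1, 3, 4⟩⟩,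
  ⟨2, false, ⟨0, 2, 1, 0, 3, 2, 0, 4, 0, 2, 4, 3, 0, 0, 2, 0⟩⟩,
  ⟨3, true, ⟨3, 1, 3, 1, 1, 1, 3, 0, 3, 1, 1, 3, 0, 0, 2, 4⟩⟩,
  ⟨27, true, ⟨4, 4, 1, 1, 0, 4, 0, 1, 1, 1, 3, 4, 0, 0, 1, 4⟩⟩,
  ⟨3, false, ⟨4, 4, 4, 4, 1, 0, 4, 2, 4, 0, 1, 2, 0, 1, 3, 3⟩⟩,
  ⟨27, false, ⟨1, 1, 0, 3, 3, 2, 0, 1, 4, 4, 3, 0, 0, 0, 1, 4⟩⟩,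
  ⟨7, false, ⟨4, 0, 0, 4, 4, 1, 1, 1, 0, 4, 3, 2, 0, 1, 1, 3⟩⟩,
  ⟨7, false, ⟨2, 4, 4, 3, 4, 3, 0, 0, 3, 4, 3, 1, 0, 1, 3, 3⟩⟩,
  ⟨4, false, ⟨0, 4, 0, 2, 1, 0, 0, 0, 3, 1, 0, 2, 0, 2, 1, 1⟩⟩,
  ⟨2, true, ⟨1, 2, 0, 2, 0, 1, 2, 0, 0, 0, 1, 0, 0, 2, 2, 1⟩⟩,
  ⟨4, true, ⟨1, 2, 0, 0, 0, 3, 0, 0, 4, 3, 1, 0, 0, 0, 1, 2⟩⟩,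
  ⟨64, true, ⟨1, 2, 0, 2, 3, 0, 1, 2, 0, 2, 3, 1, 0, 1, 1, 3⟩⟩,
  ⟨16, true, ⟨4, 0, 3, 2, 3, 3, 0, 0, 4, 3, 1, 4, 0, 1, 3, 4⟩⟩,
  ⟨12, true, ⟨1, 3, 2, 1, 2, 3, 1, 2, 3, 4, 0, 2, 0, 0, 1, 3⟩⟩,
  ⟨9, false, ⟨0, 2, 3, 3, 3, 0, 0, 2, 0, 4, 1, 4, 0, 0, 2, 0⟩⟩,
  ⟨1, false, ⟨3, 2, 3, 1, 3, 0, 2, 4, 3, 2, 3, 4, 0, 0, 2, 2⟩⟩,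
  ⟨6, true, ⟨2, 4, 2, 4, 4, 2, 0, 4, 0, 3, 1, 4, 0, 1, 1, 3⟩⟩,
  ⟨5, false, ⟨0, 0, 3, 0, 0, 2, 0, 2, 3, 2, 3, 2, 0, 1, 3, 4⟩⟩,
  ⟨1, false, ⟨2, 3, 0, 2, 1, 2, 1, 4, 2, 3, 2, 1, 0, 0, 2, 2⟩⟩,
  ⟨23, true, ⟨3, 3, 0, 3, 4, 0, 1, 4, 3, 2, 4, 0, 0, 2, 1, 1⟩⟩,
  ⟨3, false, ⟨3, 1, 2, 3, 3, 0, 1, 3, 4, 3, 1, 0, 0, 0, 2, 4⟩⟩,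
  ⟨18, true, ⟨4, 3, 0, 3, 2, 1, 1, 3, 2, 3, 4, 3, 1, 0, 3, 1⟩⟩,
  ⟨6, false, ⟨0, 2, 0, 2, 1, 2, 1, 2, 0, 2, 4, 0, 0, 0, 1, 0⟩⟩,
  ⟨2, true, ⟨2, 4, 0, 0, 2, 1, 2, 4, 0, 4, 3, 0, 0, 1, 0, 0⟩⟩,
  ⟨17, false, ⟨1, 3, 1, 3, 1, 3, 4, 2, 3, 3, 4, 3, 0, 1, 0, 1⟩⟩,
  ⟨11, true, ⟨0, 0, 0, 4, 3, 0, 0, 0, 1, 1, 0, 4, 0, 0, 2, 3⟩⟩,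
  ⟨17, true, ⟨4, 0, 4, 3, 4, 3, 0, 3, 2, 0, 1, 2, 0, 0, 0, 2⟩⟩,
  ⟨50, true, ⟨1, 3, 1, 3, 2, 2, 0, 1, 2, 1, 4, 4, 0, 0, 2, 1⟩⟩,
  ⟨7, true, ⟨2, 2, 3, 2, 0, 2, 2, 0, 3, 3, 0, 3, 0, 1, 3, 3⟩⟩,
  ⟨8, true, ⟨0, 0, 3, 1, 4, 3, 2, 2, 3, 0, 2, 1, 0, 0, 0, 2⟩⟩,
  ⟨2, true, ⟨0, 2, 3, 1, 3, 3, 1, 1, 0, 4, 3, 0, 0, 0, 2, 0⟩⟩,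
  ⟨57, false, ⟨3, 4, 1, 0, 1, 1, 4, 1, 3, 0, 4, 3, 0, 2, 2, 1⟩⟩,
  ⟨37, true, ⟨1, 2, 3, 1, 4, 1, 3, 0, 3, 2, 3, 2, 0, 1, 3, 4⟩⟩,
  ⟨0, true, ⟨4, 3, 4, 3, 3, 4, 3, 4, 4, 1, 1, 2, 0, 1, 1, 3⟩⟩,
  ⟨0, false, ⟨1, 2, 0, 2, 3, 4, 4, 2, 2, 3, 0, 1, 0, 2, 2, 1⟩⟩,
  ⟨18, false, ⟨3, 1, 0, 0, 0, 4, 1, 2, 4, 3, 2, 0, 0, 0, 2, 4⟩⟩,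
  ⟨12, false, ⟨0, 0, 4, 1, 1, 1, 3, 4, 4, 3, 4, 0, 0, 0, 2, 4⟩⟩,
  ⟨4, false, ⟨4, 3, 1, 4, 0, 3, 4, 2, 3, 1, 1, 3, 0, 0, 1, 2⟩⟩,
  ⟨12, false, ⟨2, 4, 3, 2, 4, 2, 1, 1, 2, 4, 2, 4, 0, 0, 2, 4⟩⟩,
  ⟨4, true, ⟨3, 3, 0, 3, 4, 4, 3, 1, 1, 0, 4, 3, 0, 2, 1, 1⟩⟩,
  ⟨1, false, ⟨3, 2, 3, 1, 3, 0, 3, 0, 3, 2, 3, 4, 0, 0, 2, 2⟩⟩,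
  ⟨6, true, ⟨4, 0, 3, 2, 1, 1, 0, 3, 0, 2, 0, 1, 0, 2, 1, 1⟩⟩,
  ⟨29, false, ⟨1, 0, 2, 1, 4, 4, 2, 0, 1, 1, 4, 4, 0, 1, 1, 3⟩⟩,
  ⟨1, false, ⟨2, 3, 0, 2, 1, 2, 0, 3, 2, 3, 2, 1, 0, 0, 2, 2⟩⟩,
  ⟨2, true, ⟨4, 3, 4, 1, 4, 3, 0, 3, 2, 2, 0, 2, 0, 2, 1, 1⟩⟩,
  ⟨9, false, ⟨2, 2, 0, 2, 4, 3, 1, 2, 0, 0, 1, 2, 0, 0, 1, 4⟩⟩,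
  ⟨8, true, ⟨1, 0, 4, 4, 2, 1, 2, 0, 2, 0, 4, 1, 0, 0, 0, 1⟩⟩,
  ⟨0, true, ⟨4, 0, 1, 2, 1, 1, 2, 4, 4, 0, 0, 3, 0, 0, 0, 1⟩⟩,
  ⟨0, false, ⟨3, 2, 2, 0, 3, 4, 1, 4, 3, 1, 4, 0, 0, 1, 0, 0⟩⟩,
  ⟨7, false, ⟨2, 3, 4, 3, 1, 2, 0, 0, 0, 2, 4, 3, 0, 1, 3, 4⟩⟩,
  ⟨5, false, ⟨1, 1, 2, 1, 1, 3, 2, 3, 4, 3, 2, 0, 0, 1, 2, 4⟩⟩,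
  ⟨5, true, ⟨1, 4, 2, 4, 0, 3, 4, 2, 4, 1, 4, 1, 0, 1, 0, 1⟩⟩,
  ⟨30, true, ⟨2, 4, 3, 0, 1, 1, 4, 0, 1, 2, 1, 3, 0, 0, 2, 4⟩⟩,
  ⟨9, false, ⟨0, 0, 4, 0, 0, 3, 3, 1, 1, 0, 2, 1, 0, 2, 2, 1⟩⟩,
  ⟨0, true, ⟨1, 0, 4, 0, 0, 3, 0, 4, 4, 0, 2, 0, 0, 1, 0, 0⟩⟩,
  ⟨0, false, ⟨2, 0, 2, 4, 1, 1, 3, 3, 2, 0, 0, 1, 0, 0, 0, 1⟩⟩,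
  ⟨2, false, ⟨0, 2, 1, 0, 3, 4, 0, 4, 4, 3, 4, 0, 0, 1, 0, 0⟩⟩,
  ⟨3, true, ⟨1, 0, 3, 4, 4, 3, 4, 3, 2, 3, 4, 2, 1, 0, 3, 1⟩⟩,
  ⟨86, true, ⟨2, 3, 2, 0, 1, 2, 3, 2, 4, 1, 1, 4, 0, 0, 2, 2⟩⟩,
  ⟨2, false, ⟨4, 2, 3, 3, 3, 3, 2, 0, 0, 1, 2, 3, 0, 2, 1, 1⟩⟩,
  ⟨7, false, ⟨1, 0, 0, 3, 1, 1, 3, 0, 0, 4, 3, 2, 0, 1, 3, 3⟩⟩]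

/-- Certificates. -/
def data19 : List (Cert (ZMod 5)) := [
  ⟨11, false, ⟨1, 2, 0, 2, 4, 0, 0, 0, 4, 3, 0, 1, 1, 0, 4, 3⟩⟩,
  ⟨5, true, ⟨2, 1, 2, 4, 4, 0, 2, 4, 0, 1, 1, 3, 0, 2, 1, 1⟩⟩,
  ⟨30, false, ⟨2, 4, 3, 3, 3, 4, 3, 0, 2, 4, 2, 0, 0, 0, 1, 2⟩⟩,
  ⟨19, true, ⟨0, 0, 3, 0, 0, 3, 3, 0, 3, 2, 2, 3, 0, 0, 2, 2⟩⟩,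
  ⟨0, true, ⟨4, 1, 4, 0, 1, 2, 0, 4, 4, 1, 0, 2, 0, 0, 2, 2⟩⟩,
  ⟨0, false, ⟨0, 0, 4, 0, 0, 3, 4, 2, 1, 4, 1, 4, 0, 0, 2, 2⟩⟩,
  ⟨8, false, ⟨2, 0, 3, 3, 2, 3, 0, 1, 1, 0, 2, 2, 0, 0, 0, 2⟩⟩,
  ⟨1, false, ⟨2, 3, 0, 2, 1, 2, 4, 2, 2, 3, 2, 1, 0, 0, 2, 2⟩⟩,
  ⟨26, true, ⟨4, 3, 0, 3, 2, 4, 1, 1, 1, 1, 3, 4, 0, 2, 2, 1⟩⟩,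
  ⟨6, false, ⟨2, 0, 1, 0, 2, 4, 1, 3, 4, 4, 0, 4, 0, 1, 0, 1⟩⟩,
  ⟨15, false, ⟨3, 1, 1, 1, 4, 3, 0, 2, 3, 3, 3, 3, 0, 1, 0, 1⟩⟩,
  ⟨4, true, ⟨1, 1, 0, 1, 3, 0, 0, 0, 2, 2, 0, 3, 0, 0, 2, 3⟩⟩,
  ⟨3, true, ⟨1, 1, 3, 3, 1, 0, 1, 2, 2, 2, 1, 2, 0, 0, 1, 4⟩⟩,
  ⟨35, true, ⟨1, 4, 1, 4, 0, 3, 4, 2, 3, 2, 4, 2, 0, 0, 2, 2⟩⟩,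
  ⟨3, false, ⟨3, 3, 2, 3, 2, 1, 2, 2, 3, 3, 0, 2, 0, 0, 1, 4⟩⟩,
  ⟨8, false, ⟨3, 2, 4, 3, 0, 3, 0, 2, 0, 0, 2, 0, 0, 0, 2, 2⟩⟩,
  ⟨8, true, ⟨3, 2, 1, 2, 1, 3, 0, 1, 1, 0, 3, 4, 1, 0, 3, 1⟩⟩,
  ⟨2, true, ⟨3, 2, 4, 2, 2, 2, 2, 3, 2, 4, 1, 2, 0, 1, 3, 4⟩⟩,
  ⟨4, false, ⟨2, 4, 0, 2, 4, 0, 0, 0, 3, 1, 0, 2, 1, 0, 4, 3⟩⟩,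
  ⟨11, true, ⟨0, 1, 1, 3, 4, 4, 3, 1, 3, 0, 2, 4, 0, 2, 1, 1⟩⟩,
  ⟨4, true, ⟨3, 1, 0, 4, 2, 0, 0, 0, 1, 2, 0, 4, 1, 0, 3, 1⟩⟩,
  ⟨26, true, ⟨1, 0, 3, 1, 3, 0, 4, 0, 4, 4, 2, 1, 0, 2, 2, 1⟩⟩,
  ⟨2, false, ⟨4, 3, 4, 1, 1, 4, 3, 2, 2, 1, 2, 4, 0, 2, 1, 1⟩⟩,
  ⟨26, false, ⟨0, 4, 4, 4, 4, 3, 2, 2, 2, 2, 1, 3, 0, 2, 1, 2⟩⟩,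
  ⟨10, true, ⟨1, 2, 4, 4, 2, 3, 0, 0, 0, 0, 2, 2, 0, 0, 2, 4⟩⟩,
  ⟨8, true, ⟨1, 1, 0, 4, 3, 3, 1, 1, 2, 4, 2, 0, 0, 1, 3, 1⟩⟩,
  ⟨8, false, ⟨0, 0, 0, 3, 1, 0, 4, 2, 1, 3, 0, 3, 0, 0, 1, 3⟩⟩,
  ⟨6, false, ⟨2, 3, 2, 0, 1, 1, 1, 0, 1, 1, 0, 1, 0, 1, 3, 3⟩⟩,
  ⟨12, false, ⟨3, 1, 0, 4, 1, 1, 3, 0, 3, 1, 3, 1, 0, 0, 2, 4⟩⟩,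
  ⟨1, false, ⟨3, 2, 3, 1, 3, 0, 0, 2, 3, 2, 3, 4, 0, 0, 2, 2⟩⟩,
  ⟨9, false, ⟨0, 0, 4, 0, 0, 1, 1, 1, 1, 0, 2, 1, 0, 0, 0, 1⟩⟩,
  ⟨32, false, ⟨2, 0, 3, 1, 0, 1, 3, 4, 1, 0, 2, 3, 0, 0, 0, 1⟩⟩,
  ⟨1, false, ⟨2, 3, 0, 2, 1, 2, 3, 1, 2, 3, 2, 1, 0, 0, 2, 2⟩⟩,
  ⟨2, false, ⟨3, 2, 0, 0, 2, 2, 1, 1, 0, 1, 0, 3, 0, 1, 3, 3⟩⟩,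
  ⟨5, true, ⟨1, 1, 0, 0, 4, 4, 1, 4, 4, 0, 1, 0, 0, 1, 0, 0⟩⟩,
  ⟨12, false, ⟨0, 0, 4, 0, 0, 4, 2, 4, 1, 2, 1, 0, 0, 0, 2, 4⟩⟩,
  ⟨6, false, ⟨2, 4, 2, 0, 0, 3, 2, 4, 0, 0, 3, 0, 0, 1, 0, 0⟩⟩,
  ⟨16, false, ⟨2, 2, 0, 3, 2, 2, 3, 0, 2, 0, 1, 2, 0, 2, 2, 1⟩⟩,
  ⟨15, false, ⟨3, 1, 2, 0, 4, 3, 3, 4, 3, 3, 3, 3, 0, 1, 2, 4⟩⟩,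
  ⟨2, true, ⟨4, 1, 3, 2, 2, 0, 2, 3, 0, 2, 3, 3, 0, 1, 2, 4⟩⟩,
  ⟨16, true, ⟨2, 4, 4, 3, 2, 3, 2, 2, 2, 2, 1, 2, 0, 2, 1, 1⟩⟩,
  ⟨67, true, ⟨2, 3, 0, 1, 2, 1, 3, 0, 2, 3, 1, 4, 0, 0, 2, 2⟩⟩,
  ⟨15, false, ⟨0, 1, 1, 3, 4, 2, 0, 0, 3, 0, 3, 4, 0, 2, 1, 1⟩⟩,
  ⟨7, false, ⟨0, 4, 1, 2, 2, 1, 0, 1, 1, 1, 0, 1, 0, 2, 1, 1⟩⟩,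
  ⟨16, false, ⟨4, 4, 3, 0, 1, 0, 3, 4, 1, 1, 2, 4, 0, 0, 1, 4⟩⟩,
  ⟨5, true, ⟨1, 3, 2, 3, 1, 0, 3, 3, 4, 2, 3, 4, 0, 0, 1, 3⟩⟩,
  ⟨26, true, ⟨2, 4, 4, 0, 0, 3, 3, 1, 2, 4, 2, 0, 0, 0, 1, 2⟩⟩,
  ⟨31, true, ⟨3, 2, 4, 0, 2, 0, 0, 4, 0, 1, 2, 0, 0, 1, 0, 0⟩⟩,
  ⟨53, false, ⟨3, 1, 1, 1, 2, 2, 1, 1, 3, 2, 3, 2, 0, 1, 0, 1⟩⟩,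
  ⟨22, false, ⟨0, 1, 2, 2, 3, 1, 0, 3, 0, 0, 3, 1, 0, 0, 2, 0⟩⟩,
  ⟨25, false, ⟨4, 4, 0, 1, 4, 1, 4, 0, 4, 2, 3, 4, 0, 2, 1, 2⟩⟩,
  ⟨1, true, ⟨2, 3, 0, 2, 3, 0, 2, 2, 2, 3, 0, 4, 0, 0, 2, 2⟩⟩,
  ⟨0, true, ⟨1, 4, 0, 2, 3, 0, 1, 1, 4, 1, 0, 2, 0, 0, 2, 2⟩⟩,
  ⟨0, false, ⟨3, 2, 3, 3, 3, 0, 3, 0, 1, 4, 1, 4, 0, 0, 2, 2⟩⟩,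
  ⟨36, false, ⟨3, 3, 1, 3, 3, 2, 2, 1, 0, 0, 1, 1, 0, 0, 1, 4⟩⟩,
  ⟨5, true, ⟨3, 4, 0, 3, 4, 3, 2, 2, 4, 1, 4, 3, 0, 2, 1, 2⟩⟩,
  ⟨17, false, ⟨0, 4, 2, 2, 1, 1, 2, 1, 0, 3, 0, 3, 0, 0, 1, 0⟩⟩,
  ⟨3, false, ⟨1, 2, 2, 4, 4, 2, 1, 0, 4, 3, 1, 0, 0, 0, 2, 4⟩⟩,
  ⟨12, true, ⟨1, 0, 1, 1, 2, 1, 3, 2, 1, 1, 3, 4, 0, 2, 2, 1⟩⟩,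
  ⟨1, true, ⟨3, 2, 3, 1, 0, 3, 0, 4, 3, 2, 0, 1, 0, 0, 2, 2⟩⟩,
  ⟨3, true, ⟨0, 2, 3, 1, 4, 4, 0, 3, 2, 4, 0, 3, 0, 1, 3, 3⟩⟩,
  ⟨7, false, ⟨3, 1, 3, 3, 0, 3, 1, 1, 1, 2, 3, 1, 0, 1, 3, 4⟩⟩,
  ⟨18, false, ⟨4, 2, 2, 0, 3, 1, 0, 3, 4, 2, 4, 4, 0, 0, 1, 3⟩⟩,
  ⟨31, false, ⟨1, 4, 2, 0, 3, 4, 4, 3, 0, 4, 3, 2, 0, 2, 1, 1⟩⟩,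
  ⟨10, false, ⟨0, 3, 2, 2, 1, 4, 3, 0, 0, 4, 3, 3, 0, 0, 1, 0⟩⟩,
  ⟨16, false, ⟨4, 2, 2, 3, 4, 3, 3, 0, 4, 1, 3, 0, 0, 1, 3, 3⟩⟩,
  ⟨9, true, ⟨4, 3, 0, 2, 1, 1, 3, 0, 2, 4, 1, 0, 0, 0, 2, 4⟩⟩,
  ⟨17, true, ⟨2, 1, 2, 4, 2, 2, 1, 0, 4, 2, 0, 2, 0, 0, 2, 1⟩⟩,
  ⟨0, true, ⟨3, 3, 0, 0, 2, 1, 1, 4, 4, 0, 2, 0, 0, 1, 0, 0⟩⟩,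
  ⟨0, false, ⟨3, 0, 2, 0, 2, 1, 3, 4, 2, 0, 0, 1, 0, 0, 0, 1⟩⟩,
  ⟨6, false, ⟨2, 2, 2, 2, 1, 0, 1, 0, 2, 1, 2, 4, 0, 2, 1, 1⟩⟩,
  ⟨55, true, ⟨4, 2, 2, 1, 2, 3, 1, 4, 0, 0, 1, 1, 0, 0, 1, 3⟩⟩,
  ⟨7, true, ⟨3, 1, 1, 2, 3, 2, 0, 2, 0, 3, 1, 4, 0, 2, 1, 1⟩⟩,
  ⟨5, false, ⟨1, 4, 2, 1, 4, 2, 1, 1, 2, 3, 1, 3, 0, 0, 1, 1⟩⟩,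
  ⟨12, false, ⟨4, 3, 1, 0, 4, 0, 3, 4, 2, 2, 1, 3, 0, 2, 1, 2⟩⟩,
  ⟨17, true, ⟨2, 2, 2, 3, 3, 2, 3, 3, 1, 1, 0, 3, 0, 0, 1, 4⟩⟩,
  ⟨1, true, ⟨2, 3, 0, 2, 3, 0, 3, 3, 2, 3, 0, 4, 0, 0, 2, 2⟩⟩,
  ⟨16, false, ⟨4, 3, 0, 1, 2, 1, 1, 4, 1, 1, 4, 2, 1, 0, 3, 1⟩⟩,
  ⟨4, false, ⟨3, 1, 1, 2, 1, 0, 4, 4, 3, 1, 1, 3, 0, 0, 1, 2⟩⟩,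
  ⟨15, false, ⟨2, 3, 2, 0, 1, 3, 2, 1, 4, 3, 3, 1, 0, 1, 3, 3⟩⟩,
  ⟨4, true, ⟨1, 2, 4, 4, 1, 0, 4, 0, 1, 0, 4, 3, 0, 2, 1, 1⟩⟩,
  ⟨20, true, ⟨3, 2, 2, 2, 0, 3, 1, 4, 3, 2, 4, 2, 0, 0, 2, 2⟩⟩,
  ⟨29, false, ⟨2, 0, 2, 1, 1, 3, 0, 4, 2, 4, 2, 3, 0, 2, 1, 1⟩⟩,
  ⟨11, true, ⟨2, 4, 4, 3, 3, 4, 0, 1, 2, 4, 3, 0, 0, 0, 1, 2⟩⟩,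
  ⟨1, true, ⟨3, 2, 3, 1, 0, 3, 4, 3, 3, 2, 0, 1, 0, 0, 2, 2⟩⟩,
  ⟨11, false, ⟨0, 1, 4, 3, 2, 3, 3, 2, 4, 3, 0, 1, 0, 2, 1, 1⟩⟩,
  ⟨4, true, ⟨2, 2, 4, 1, 2, 4, 1, 0, 2, 2, 0, 3, 0, 0, 2, 3⟩⟩,
  ⟨17, false, ⟨2, 1, 1, 3, 1, 4, 0, 3, 0, 2, 1, 0, 1, 0, 4, 3⟩⟩,
  ⟨15, true, ⟨2, 1, 2, 0, 3, 1, 2, 2, 3, 0, 4, 4, 0, 1, 3, 4⟩⟩,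
  ⟨4, false, ⟨4, 4, 3, 1, 2, 4, 0, 0, 3, 3, 4, 3, 0, 0, 2, 3⟩⟩]

/-- Certificates. -/
def data20 : List (Cert (ZMod 5)) := [
  ⟨7, false, ⟨0, 3, 0, 2, 3, 4, 3, 1, 0, 2, 4, 0, 0, 0, 2, 0⟩⟩,
  ⟨11, false, ⟨3, 1, 1, 1, 1, 0, 4, 4, 4, 3, 3, 4, 0, 0, 1, 2⟩⟩,
  ⟨5, false, ⟨0, 2, 0, 1, 1, 0, 0, 0, 1, 3, 0, 2, 0, 2, 1, 1⟩⟩,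
  ⟨35, true, ⟨1, 0, 2, 0, 0, 0, 0, 4, 3, 0, 2, 0, 0, 1, 0, 0⟩⟩,
  ⟨10, false, ⟨2, 0, 3, 2, 1, 1, 0, 4, 4, 0, 4, 1, 0, 0, 0, 1⟩⟩,
  ⟨19, false, ⟨0, 0, 0, 2, 3, 0, 4, 3, 3, 2, 1, 2, 0, 0, 2, 2⟩⟩,
  ⟨0, true, ⟨1, 4, 0, 3, 0, 0, 4, 4, 4, 1, 1, 2, 0, 1, 1, 3⟩⟩,
  ⟨0, false, ⟨2, 2, 1, 3, 4, 4, 0, 3, 2, 3, 0, 1, 0, 2, 2, 1⟩⟩,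
  ⟨7, false, ⟨2, 0, 2, 2, 0, 1, 1, 0, 0, 0, 3, 0, 0, 2, 2, 1⟩⟩,
  ⟨8, true, ⟨4, 3, 4, 3, 3, 4, 0, 3, 4, 3, 1, 4, 0, 0, 1, 2⟩⟩,
  ⟨27, true, ⟨1, 1, 4, 4, 0, 2, 4, 4, 4, 4, 2, 1, 0, 0, 2, 3⟩⟩,
  ⟨1, true, ⟨2, 3, 0, 2, 3, 0, 4, 4, 2, 3, 0, 4, 0, 0, 2, 2⟩⟩,
  ⟨24, false, ⟨1, 4, 2, 0, 4, 2, 3, 0, 1, 1, 4, 1, 1, 0, 3, 1⟩⟩,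
  ⟨58, true, ⟨1, 1, 1, 4, 1, 4, 1, 1, 3, 2, 1, 1, 0, 1, 3, 1⟩⟩,
  ⟨43, false, ⟨2, 3, 0, 3, 2, 4, 4, 3, 1, 3, 3, 3, 0, 1, 0, 1⟩⟩,
  ⟨7, false, ⟨3, 2, 0, 4, 2, 3, 4, 0, 0, 1, 4, 4, 0, 1, 2, 4⟩⟩,
  ⟨10, true, ⟨4, 2, 2, 0, 1, 0, 3, 0, 4, 2, 2, 3, 0, 0, 1, 3⟩⟩,
  ⟨17, false, ⟨3, 0, 4, 0, 4, 3, 2, 3, 3, 0, 1, 4, 0, 0, 0, 2⟩⟩,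
  ⟨6, true, ⟨4, 4, 0, 4, 2, 3, 3, 0, 0, 2, 3, 3, 0, 1, 2, 4⟩⟩,
  ⟨1, true, ⟨3, 2, 3, 1, 0, 3, 3, 2, 3, 2, 0, 1, 0, 0, 2, 2⟩⟩,
  ⟨15, true, ⟨0, 1, 4, 0, 1, 3, 3, 4, 1, 3, 0, 0, 0, 1, 0, 0⟩⟩,
  ⟨33, false, ⟨4, 3, 0, 3, 1, 3, 3, 4, 4, 4, 0, 1, 0, 1, 1, 3⟩⟩,
  ⟨5, false, ⟨0, 3, 3, 2, 3, 4, 2, 4, 2, 1, 2, 3, 1, 0, 3, 1⟩⟩,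
  ⟨6, true, ⟨0, 3, 0, 1, 3, 3, 2, 1, 0, 4, 3, 0, 0, 0, 2, 0⟩⟩,
  ⟨19, true, ⟨0, 0, 1, 3, 4, 2, 3, 0, 3, 2, 2, 3, 0, 0, 1, 1⟩⟩,
  ⟨11, false, ⟨0, 0, 2, 4, 2, 4, 0, 0, 4, 4, 2, 4, 0, 0, 2, 3⟩⟩,
  ⟨40, false, ⟨0, 0, 3, 2, 3, 3, 0, 4, 0, 2, 4, 2, 0, 0, 2, 0⟩⟩,
  ⟨31, true, ⟨3, 4, 1, 0, 4, 1, 3, 0, 3, 1, 4, 3, 0, 1, 3, 4⟩⟩,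
  ⟨6, true, ⟨1, 2, 4, 2, 0, 2, 3, 3, 0, 0, 1, 0, 0, 2, 2, 1⟩⟩,
  ⟨2, false, ⟨4, 1, 3, 2, 3, 2, 0, 3, 0, 3, 0, 2, 0, 1, 2, 4⟩⟩,
  ⟨8, false, ⟨4, 1, 3, 1, 3, 4, 0, 3, 4, 4, 2, 4, 0, 1, 0, 1⟩⟩,
  ⟨11, false, ⟨3, 3, 1, 1, 3, 2, 2, 3, 4, 3, 0, 1, 1, 0, 4, 3⟩⟩,
  ⟨3, true, ⟨4, 1, 3, 2, 0, 0, 4, 4, 2, 3, 4, 2, 1, 0, 3, 1⟩⟩,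
  ⟨8, true, ⟨2, 4, 1, 4, 4, 1, 4, 0, 3, 1, 0, 2, 0, 0, 1, 2⟩⟩,
  ⟨3, false, ⟨1, 4, 1, 2, 0, 3, 3, 2, 4, 4, 3, 0, 1, 0, 4, 3⟩⟩,
  ⟨2, false, ⟨4, 1, 2, 3, 0, 3, 1, 0, 2, 3, 0, 4, 0, 2, 1, 2⟩⟩,
  ⟨1, true, ⟨2, 3, 0, 2, 3, 0, 0, 0, 2, 3, 0, 4, 0, 0, 2, 2⟩⟩,
  ⟨24, false, ⟨3, 3, 2, 2, 3, 0, 3, 4, 1, 1, 4, 1, 1, 0, 3, 1⟩⟩,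
  ⟨6, true, ⟨2, 1, 4, 4, 4, 4, 3, 1, 2, 2, 0, 2, 0, 2, 1, 1⟩⟩,
  ⟨20, true, ⟨2, 1, 4, 0, 0, 1, 1, 3, 1, 3, 0, 0, 0, 1, 3, 4⟩⟩,
  ⟨32, false, ⟨4, 4, 2, 4, 1, 3, 3, 3, 1, 2, 4, 0, 0, 1, 2, 4⟩⟩,
  ⟨10, false, ⟨2, 4, 2, 2, 0, 4, 2, 1, 2, 4, 0, 2, 0, 0, 2, 4⟩⟩,
  ⟨2, false, ⟨3, 4, 4, 2, 3, 1, 1, 4, 2, 1, 2, 0, 0, 0, 1, 3⟩⟩,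
  ⟨18, false, ⟨2, 0, 0, 0, 4, 4, 0, 3, 1, 3, 3, 3, 0, 1, 0, 1⟩⟩,
  ⟨1, true, ⟨3, 2, 3, 1, 0, 3, 2, 1, 3, 2, 0, 1, 0, 0, 2, 2⟩⟩,
  ⟨6, false, ⟨0, 0, 2, 2, 3, 2, 1, 4, 0, 2, 4, 3, 0, 0, 2, 0⟩⟩,
  ⟨7, true, ⟨4, 0, 1, 0, 4, 1, 1, 4, 2, 4, 2, 0, 0, 1, 0, 0⟩⟩,
  ⟨0, true, ⟨1, 0, 1, 4, 3, 1, 2, 1, 4, 0, 0, 3, 0, 0, 0, 1⟩⟩,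
  ⟨0, false, ⟨2, 3, 4, 0, 2, 0, 3, 4, 3, 1, 4, 0, 0, 1, 0, 0⟩⟩,
  ⟨9, true, ⟨4, 2, 1, 2, 3, 0, 0, 4, 3, 2, 1, 2, 0, 1, 0, 1⟩⟩,
  ⟨6, false, ⟨1, 4, 2, 0, 3, 2, 0, 4, 4, 3, 4, 0, 0, 1, 0, 0⟩⟩,
  ⟨3, true, ⟨4, 3, 3, 3, 3, 0, 3, 4, 3, 1, 1, 3, 0, 0, 2, 4⟩⟩,
  ⟨4, false, ⟨3, 2, 3, 4, 3, 2, 2, 3, 3, 1, 0, 2, 1, 0, 4, 3⟩⟩,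
  ⟨2, false, ⟨0, 4, 0, 0, 1, 3, 3, 0, 0, 1, 3, 4, 0, 0, 1, 0⟩⟩,
  ⟨4, true, ⟨3, 2, 1, 3, 2, 4, 4, 1, 1, 2, 0, 4, 1, 0, 3, 1⟩⟩,
  ⟨26, false, ⟨3, 4, 3, 4, 0, 1, 0, 1, 0, 0, 2, 0, 0, 0, 2, 1⟩⟩,
  ⟨5, true, ⟨1, 4, 4, 4, 1, 2, 2, 0, 4, 1, 0, 4, 0, 0, 2, 2⟩⟩,
  ⟨29, false, ⟨0, 0, 4, 3, 1, 2, 1, 0, 4, 1, 4, 0, 0, 0, 2, 2⟩⟩,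
  ⟨42, true, ⟨2, 4, 2, 2, 3, 4, 3, 2, 3, 1, 2, 0, 0, 0, 1, 2⟩⟩,
  ⟨2, false, ⟨3, 3, 3, 2, 4, 2, 1, 1, 2, 1, 1, 2, 0, 2, 1, 2⟩⟩,
  ⟨20, true, ⟨3, 0, 2, 4, 0, 3, 4, 0, 3, 0, 4, 4, 0, 2, 1, 2⟩⟩,
  ⟨1, true, ⟨2, 3, 0, 2, 3, 0, 1, 1, 2, 3, 0, 4, 0, 0, 2, 2⟩⟩,
  ⟨16, false, ⟨0, 3, 3, 0, 4, 2, 0, 4, 3, 0, 0, 0, 0, 1, 0, 0⟩⟩,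
  ⟨35, false, ⟨2, 1, 4, 4, 3, 2, 3, 4, 0, 1, 1, 3, 0, 1, 3, 3⟩⟩,
  ⟨73, true, ⟨0, 0, 3, 1, 1, 2, 1, 4, 0, 4, 4, 1, 0, 0, 1, 0⟩⟩,
  ⟨2, false, ⟨2, 3, 4, 0, 2, 1, 1, 2, 2, 3, 0, 3, 0, 0, 2, 2⟩⟩,
  ⟨2, false, ⟨1, 4, 0, 2, 3, 4, 0, 2, 1, 1, 2, 4, 0, 1, 3, 1⟩⟩,
  ⟨34, false, ⟨0, 0, 4, 1, 4, 4, 4, 1, 3, 2, 2, 4, 0, 0, 2, 2⟩⟩,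
  ⟨6, true, ⟨2, 0, 2, 0, 2, 4, 2, 4, 0, 4, 3, 0, 0, 1, 0, 0⟩⟩,
  ⟨1, true, ⟨3, 2, 3, 1, 0, 3, 1, 0, 3, 2, 0, 1, 0, 0, 2, 2⟩⟩,
  ⟨17, true, ⟨0, 0, 4, 0, 0, 1, 2, 1, 1, 0, 2, 2, 0, 0, 0, 1⟩⟩,
  ⟨3, true, ⟨0, 0, 4, 3, 4, 3, 3, 2, 2, 2, 1, 2, 0, 0, 1, 4⟩⟩,
  ⟨2, false, ⟨1, 3, 1, 0, 2, 1, 0, 4, 0, 3, 0, 2, 0, 1, 3, 4⟩⟩,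
  ⟨3, false, ⟨4, 4, 1, 3, 4, 3, 0, 2, 3, 3, 0, 2, 0, 0, 1, 4⟩⟩,
  ⟨22, false, ⟨4, 0, 2, 0, 1, 1, 3, 1, 3, 0, 3, 1, 0, 0, 0, 1⟩⟩,
  ⟨5, false, ⟨0, 4, 3, 0, 2, 3, 2, 4, 3, 1, 0, 0, 0, 1, 0, 0⟩⟩,
  ⟨9, false, ⟨0, 0, 3, 0, 0, 3, 0, 4, 3, 0, 2, 0, 0, 1, 0, 0⟩⟩,
  ⟨9, true, ⟨3, 0, 2, 3, 3, 3, 0, 0, 4, 1, 4, 1, 1, 0, 4, 3⟩⟩,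
  ⟨31, true, ⟨4, 2, 4, 4, 0, 2, 4, 1, 0, 0, 4, 0, 0, 1, 3, 1⟩⟩,
  ⟨10, true, ⟨4, 3, 4, 1, 0, 2, 2, 3, 3, 1, 2, 2, 0, 2, 1, 1⟩⟩,
  ⟨5, false, ⟨3, 1, 4, 1, 3, 2, 1, 1, 3, 0, 1, 0, 0, 1, 0, 1⟩⟩,
  ⟨22, false, ⟨3, 3, 2, 2, 4, 0, 0, 1, 1, 3, 2, 1, 0, 1, 3, 1⟩⟩,
  ⟨34, false, ⟨1, 1, 1, 4, 4, 4, 2, 3, 3, 0, 1, 3, 0, 2, 2, 1⟩⟩,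
  ⟨8, true, ⟨4, 0, 0, 0, 0, 1, 0, 4, 0, 0, 4, 0, 0, 1, 0, 0⟩⟩,
  ⟨16, false, ⟨0, 4, 0, 0, 3, 0, 2, 0, 0, 4, 0, 4, 0, 0, 2, 0⟩⟩,
  ⟨4, false, ⟨2, 3, 0, 3, 1, 3, 1, 4, 4, 3, 4, 4, 0, 1, 3, 4⟩⟩,
  ⟨3, true, ⟨2, 3, 3, 1, 1, 4, 1, 0, 3, 1, 4, 1, 0, 2, 2, 1⟩⟩,
  ⟨39, false, ⟨0, 2, 0, 3, 2, 1, 2, 4, 1, 4, 2, 4, 0, 1, 3, 4⟩⟩,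
  ⟨5, true, ⟨0, 4, 3, 2, 3, 4, 2, 3, 0, 0, 3, 4, 0, 0, 2, 0⟩⟩,
  ⟨33, false, ⟨1, 2, 3, 0, 1, 2, 0, 4, 3, 0, 2, 4, 0, 1, 3, 1⟩⟩]

/-- Certificates. -/
def data21 : List (Cert (ZMod 5)) := [
  ⟨8, true, ⟨1, 1, 4, 2, 2, 0, 3, 0, 1, 4, 4, 4, 0, 1, 3, 4⟩⟩,
  ⟨11, false, ⟨0, 3, 1, 2, 1, 3, 1, 4, 2, 4, 2, 2, 0, 1, 3, 4⟩⟩,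
  ⟨3, true, ⟨4, 2, 3, 0, 2, 0, 2, 4, 4, 4, 2, 0, 0, 1, 0, 0⟩⟩,
  ⟨16, false, ⟨1, 0, 1, 3, 0, 3, 4, 2, 1, 0, 2, 3, 0, 1, 3, 1⟩⟩,
  ⟨48, true, ⟨2, 2, 1, 3, 3, 0, 4, 0, 2, 2, 1, 1, 0, 0, 2, 3⟩⟩,
  ⟨4, false, ⟨0, 1, 4, 3, 3, 1, 1, 0, 3, 1, 4, 1, 0, 1, 1, 3⟩⟩,
  ⟨18, false, ⟨4, 3, 0, 0, 4, 1, 3, 1, 4, 2, 2, 1, 0, 1, 2, 4⟩⟩,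
  ⟨2, true, ⟨3, 0, 1, 3, 2, 2, 1, 2, 1, 1, 0, 4, 0, 1, 1, 3⟩⟩,
  ⟨10, false, ⟨0, 0, 4, 0, 0, 4, 4, 4, 1, 4, 3, 0, 0, 2, 1, 1⟩⟩,
  ⟨2, false, ⟨0, 2, 3, 2, 4, 3, 3, 4, 2, 2, 0, 3, 0, 1, 3, 1⟩⟩,
  ⟨30, true, ⟨3, 1, 2, 3, 1, 3, 4, 4, 3, 4, 3, 0, 0, 1, 3, 4⟩⟩,
  ⟨8, true, ⟨4, 1, 3, 2, 0, 2, 1, 0, 0, 0, 4, 0, 0, 1, 1, 3⟩⟩,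
  ⟨6, false, ⟨4, 2, 2, 2, 0, 1, 3, 0, 1, 3, 2, 3, 0, 1, 0, 1⟩⟩,
  ⟨20, false, ⟨1, 0, 0, 4, 3, 1, 4, 3, 2, 0, 1, 0, 0, 0, 0, 1⟩⟩,
  ⟨10, true, ⟨0, 0, 1, 0, 0, 4, 4, 4, 4, 1, 2, 0, 0, 2, 1, 1⟩⟩,
  ⟨6, true, ⟨3, 0, 4, 1, 2, 3, 2, 1, 2, 0, 3, 1, 0, 0, 0, 2⟩⟩,
  ⟨12, true, ⟨1, 0, 2, 0, 0, 4, 0, 4, 4, 0, 4, 0, 0, 1, 0, 0⟩⟩,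
  ⟨5, true, ⟨4, 1, 3, 1, 2, 1, 2, 4, 0, 0, 3, 4, 0, 0, 2, 2⟩⟩,
  ⟨25, false, ⟨4, 1, 4, 4, 0, 1, 2, 1, 2, 2, 4, 1, 1, 0, 4, 3⟩⟩,
  ⟨4, false, ⟨1, 0, 1, 3, 2, 1, 0, 4, 4, 3, 4, 4, 0, 1, 3, 4⟩⟩,
  ⟨8, false, ⟨2, 3, 3, 3, 1, 1, 4, 1, 0, 2, 4, 3, 0, 1, 3, 4⟩⟩,
  ⟨7, true, ⟨2, 4, 0, 1, 4, 1, 2, 3, 4, 3, 1, 3, 0, 0, 1, 2⟩⟩,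
  ⟨8, false, ⟨0, 3, 2, 0, 1, 3, 3, 4, 0, 3, 1, 2, 0, 0, 1, 0⟩⟩,
  ⟨3, true, ⟨1, 3, 2, 0, 4, 4, 4, 3, 3, 1, 4, 1, 0, 2, 2, 1⟩⟩,
  ⟨62, false, ⟨3, 0, 4, 3, 2, 2, 3, 0, 1, 2, 2, 2, 0, 2, 2, 1⟩⟩,
  ⟨22, false, ⟨1, 4, 3, 0, 3, 2, 3, 4, 3, 4, 1, 1, 0, 1, 3, 3⟩⟩,
  ⟨6, true, ⟨1, 3, 2, 1, 4, 0, 1, 4, 4, 4, 0, 1, 0, 2, 1, 2⟩⟩,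
  ⟨8, true, ⟨1, 0, 0, 3, 2, 0, 0, 0, 3, 3, 0, 3, 0, 1, 3, 3⟩⟩,
  ⟨5, false, ⟨3, 1, 4, 3, 3, 4, 2, 3, 4, 3, 3, 2, 0, 0, 1, 2⟩⟩,
  ⟨3, true, ⟨2, 4, 2, 0, 3, 4, 0, 4, 4, 4, 2, 0, 0, 1, 0, 0⟩⟩,
  ⟨24, false, ⟨4, 1, 3, 2, 0, 3, 2, 3, 3, 2, 0, 4, 0, 0, 2, 2⟩⟩,
  ⟨20, true, ⟨4, 3, 1, 3, 4, 2, 4, 3, 3, 1, 4, 2, 0, 0, 2, 4⟩⟩,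
  ⟨16, false, ⟨4, 0, 2, 3, 0, 3, 1, 1, 4, 0, 1, 3, 0, 0, 0, 2⟩⟩,
  ⟨58, false, ⟨4, 2, 0, 4, 3, 1, 4, 4, 3, 2, 3, 1, 0, 1, 3, 1⟩⟩,
  ⟨5, false, ⟨3, 4, 0, 0, 0, 1, 1, 3, 1, 3, 2, 0, 0, 0, 2, 1⟩⟩,
  ⟨32, true, ⟨4, 4, 0, 3, 1, 4, 0, 3, 0, 1, 2, 4, 0, 1, 3, 4⟩⟩,
  ⟨15, false, ⟨0, 2, 3, 0, 3, 0, 2, 2, 0, 3, 2, 3, 0, 0, 2, 0⟩⟩,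
  ⟨7, false, ⟨0, 0, 3, 4, 2, 1, 2, 0, 3, 0, 3, 0, 0, 0, 0, 1⟩⟩,
  ⟨19, true, ⟨2, 2, 4, 1, 2, 4, 2, 4, 4, 4, 4, 4, 0, 0, 2, 3⟩⟩,
  ⟨16, true, ⟨1, 4, 2, 4, 0, 3, 1, 4, 0, 0, 1, 0, 0, 0, 2, 2⟩⟩,
  ⟨5, false, ⟨0, 4, 3, 4, 2, 2, 0, 1, 3, 2, 4, 2, 0, 1, 0, 1⟩⟩,
  ⟨16, true, ⟨2, 0, 2, 0, 4, 3, 4, 2, 3, 0, 1, 1, 0, 0, 0, 2⟩⟩,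
  ⟨5, true, ⟨0, 0, 2, 4, 4, 3, 4, 1, 4, 4, 4, 3, 0, 0, 1, 4⟩⟩,
  ⟨2, true, ⟨1, 4, 1, 3, 1, 0, 2, 1, 2, 2, 1, 2, 0, 1, 2, 4⟩⟩,
  ⟨12, true, ⟨4, 4, 0, 4, 0, 4, 4, 0, 0, 0, 4, 0, 0, 1, 2, 4⟩⟩,
  ⟨2, false, ⟨0, 0, 4, 2, 2, 1, 1, 3, 1, 0, 4, 3, 0, 0, 0, 1⟩⟩,
  ⟨19, true, ⟨3, 3, 4, 1, 1, 3, 1, 3, 1, 1, 1, 1, 0, 0, 2, 3⟩⟩,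
  ⟨23, true, ⟨0, 0, 3, 1, 3, 1, 1, 2, 4, 2, 1, 0, 0, 0, 1, 3⟩⟩,
  ⟨24, true, ⟨4, 1, 1, 2, 0, 4, 1, 4, 4, 1, 0, 2, 0, 2, 2, 1⟩⟩,
  ⟨24, false, ⟨4, 0, 3, 4, 2, 1, 0, 4, 3, 2, 2, 4, 0, 1, 1, 3⟩⟩,
  ⟨3, true, ⟨0, 3, 1, 4, 2, 4, 2, 1, 3, 1, 4, 1, 0, 2, 2, 1⟩⟩,
  ⟨3, true, ⟨0, 1, 1, 0, 4, 3, 3, 4, 4, 4, 2, 0, 0, 1, 0, 0⟩⟩,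
  ⟨1, true, ⟨4, 4, 4, 3, 1, 3, 4, 3, 1, 1, 2, 0, 0, 0, 2, 3⟩⟩,
  ⟨4, false, ⟨4, 1, 3, 2, 4, 1, 2, 1, 3, 1, 4, 1, 0, 1, 1, 3⟩⟩,
  ⟨29, true, ⟨2, 0, 3, 4, 2, 3, 4, 3, 4, 0, 4, 1, 0, 0, 0, 2⟩⟩,
  ⟨1, false, ⟨1, 1, 3, 0, 3, 0, 4, 0, 4, 4, 2, 1, 0, 0, 2, 3⟩⟩,
  ⟨10, false, ⟨1, 3, 2, 4, 1, 4, 2, 2, 4, 2, 2, 0, 0, 0, 2, 1⟩⟩,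
  ⟨1, false, ⟨1, 1, 1, 2, 3, 2, 0, 2, 4, 4, 2, 1, 0, 0, 1, 4⟩⟩,
  ⟨62, false, ⟨4, 1, 0, 0, 4, 2, 4, 4, 2, 3, 3, 4, 0, 0, 1, 1⟩⟩,
  ⟨1, true, ⟨4, 4, 2, 0, 0, 4, 0, 0, 1, 1, 2, 0, 0, 0, 1, 4⟩⟩,
  ⟨5, true, ⟨3, 2, 3, 1, 3, 0, 1, 3, 0, 4, 4, 4, 0, 1, 3, 1⟩⟩,
  ⟨16, true, ⟨1, 1, 0, 1, 3, 0, 0, 0, 3, 3, 0, 4, 0, 0, 2, 3⟩⟩,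
  ⟨9, false, ⟨0, 0, 0, 3, 4, 0, 1, 4, 0, 3, 3, 4, 1, 0, 3, 1⟩⟩,
  ⟨8, false, ⟨1, 0, 0, 3, 1, 0, 0, 2, 3, 4, 3, 1, 0, 1, 3, 3⟩⟩,
  ⟨31, false, ⟨3, 1, 2, 0, 1, 2, 0, 2, 0, 1, 0, 1, 0, 2, 1, 2⟩⟩,
  ⟨18, false, ⟨4, 1, 2, 3, 3, 3, 1, 1, 3, 2, 1, 4, 0, 0, 1, 1⟩⟩,
  ⟨1, false, ⟨4, 4, 3, 4, 2, 1, 2, 3, 1, 1, 3, 4, 0, 0, 1, 4⟩⟩,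
  ⟨4, false, ⟨4, 4, 3, 3, 4, 2, 3, 4, 4, 3, 4, 4, 0, 1, 3, 4⟩⟩,
  ⟨1, true, ⟨1, 1, 2, 1, 1, 0, 2, 0, 4, 4, 3, 0, 0, 0, 1, 4⟩⟩,
  ⟨27, true, ⟨3, 2, 2, 4, 3, 3, 3, 2, 1, 4, 0, 2, 0, 0, 1, 1⟩⟩,
  ⟨26, false, ⟨0, 1, 2, 1, 3, 2, 4, 3, 0, 2, 0, 3, 0, 0, 2, 0⟩⟩,
  ⟨7, true, ⟨1, 1, 4, 4, 3, 0, 2, 0, 4, 3, 1, 3, 0, 2, 2, 1⟩⟩,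
  ⟨3, true, ⟨4, 3, 0, 3, 0, 4, 0, 4, 3, 1, 4, 1, 0, 2, 2, 1⟩⟩,
  ⟨1, false, ⟨4, 4, 0, 2, 2, 4, 1, 1, 1, 1, 3, 4, 0, 0, 2, 3⟩⟩,
  ⟨15, false, ⟨0, 0, 1, 1, 2, 3, 2, 4, 4, 0, 2, 3, 0, 0, 0, 2⟩⟩,
  ⟨1, true, ⟨1, 1, 4, 4, 2, 4, 1, 3, 4, 4, 3, 0, 0, 0, 2, 3⟩⟩,
  ⟨7, false, ⟨0, 0, 0, 3, 1, 0, 3, 4, 2, 3, 3, 3, 0, 0, 1, 1⟩⟩,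
  ⟨4, false, ⟨1, 1, 0, 4, 2, 1, 0, 4, 3, 1, 4, 1, 0, 1, 1, 3⟩⟩,
  ⟨3, true, ⟨3, 3, 0, 0, 0, 2, 1, 4, 4, 4, 2, 0, 0, 1, 0, 0⟩⟩,
  ⟨6, false, ⟨3, 0, 3, 4, 4, 1, 2, 2, 2, 2, 0, 3, 0, 1, 3, 1⟩⟩,
  ⟨15, false, ⟨1, 4, 0, 2, 0, 0, 4, 4, 3, 2, 1, 1, 0, 1, 3, 1⟩⟩,
  ⟨16, false, ⟨3, 4, 3, 0, 4, 3, 4, 0, 3, 0, 4, 2, 1, 0, 3, 1⟩⟩,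
  ⟨7, true, ⟨4, 3, 2, 0, 1, 4, 0, 4, 0, 2, 0, 2, 0, 2, 1, 2⟩⟩,
  ⟨2, true, ⟨0, 2, 2, 2, 4, 4, 3, 3, 4, 4, 0, 1, 0, 2, 1, 2⟩⟩,
  ⟨10, false, ⟨4, 2, 3, 4, 2, 4, 2, 2, 3, 3, 2, 2, 0, 2, 1, 2⟩⟩,
  ⟨2, false, ⟨4, 1, 4, 2, 2, 0, 1, 4, 2, 2, 0, 3, 0, 2, 2, 1⟩⟩,
  ⟨6, false, ⟨4, 0, 0, 4, 2, 1, 1, 1, 1, 0, 4, 3, 0, 0, 0, 1⟩⟩,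
  ⟨52, true, ⟨0, 3, 4, 3, 1, 2, 2, 0, 0, 2, 2, 4, 0, 0, 1, 0⟩⟩,
  ⟨8, false, ⟨1, 1, 1, 1, 1, 3, 3, 1, 0, 4, 3, 2, 0, 1, 3, 3⟩⟩,
  ⟨6, true, ⟨4, 2, 0, 1, 1, 3, 3, 3, 2, 2, 1, 2, 0, 1, 2, 4⟩⟩]

/-- Certificates. -/
def data22 : List (Cert (ZMod 5)) := [
  ⟨10, true, ⟨4, 2, 3, 1, 1, 4, 2, 2, 1, 3, 3, 0, 0, 0, 2, 1⟩⟩,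
  ⟨4, false, ⟨3, 1, 4, 3, 0, 0, 2, 4, 4, 3, 4, 4, 0, 1, 3, 4⟩⟩,
  ⟨2, true, ⟨0, 0, 2, 2, 2, 3, 2, 0, 2, 0, 3, 1, 0, 0, 0, 2⟩⟩,
  ⟨7, true, ⟨3, 0, 3, 4, 2, 1, 0, 2, 1, 0, 3, 4, 0, 0, 0, 1⟩⟩,
  ⟨2, false, ⟨0, 0, 4, 0, 0, 3, 3, 2, 1, 3, 2, 3, 0, 1, 0, 1⟩⟩,
  ⟨16, true, ⟨2, 1, 1, 3, 2, 4, 0, 4, 3, 3, 0, 3, 0, 1, 2, 4⟩⟩,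
  ⟨23, false, ⟨0, 0, 3, 2, 1, 1, 3, 0, 2, 4, 3, 3, 0, 0, 2, 4⟩⟩,
  ⟨16, true, ⟨4, 3, 1, 1, 0, 3, 4, 4, 0, 0, 4, 0, 0, 0, 1, 2⟩⟩,
  ⟨5, true, ⟨2, 0, 0, 1, 0, 1, 3, 2, 3, 0, 3, 4, 0, 0, 0, 1⟩⟩,
  ⟨3, true, ⟨3, 3, 4, 2, 3, 4, 3, 2, 3, 1, 4, 1, 0, 2, 2, 1⟩⟩,
  ⟨66, true, ⟨4, 3, 4, 0, 1, 0, 0, 3, 0, 0, 0, 2, 0, 0, 1, 2⟩⟩,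
  ⟨4, false, ⟨3, 1, 2, 1, 0, 1, 3, 2, 3, 1, 4, 1, 0, 1, 1, 3⟩⟩,
  ⟨27, true, ⟨2, 3, 3, 1, 3, 3, 1, 0, 4, 1, 0, 3, 0, 0, 1, 1⟩⟩,
  ⟨5, false, ⟨2, 3, 3, 1, 4, 0, 2, 1, 4, 2, 0, 0, 0, 2, 2, 1⟩⟩,
  ⟨8, false, ⟨3, 3, 3, 3, 1, 4, 3, 2, 0, 1, 0, 3, 0, 2, 1, 1⟩⟩,
  ⟨3, true, ⟨1, 0, 4, 0, 1, 1, 4, 4, 4, 4, 2, 0, 0, 1, 0, 0⟩⟩,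
  ⟨9, false, ⟨1, 0, 1, 3, 4, 2, 0, 0, 0, 2, 2, 1, 0, 2, 1, 1⟩⟩,
  ⟨9, true, ⟨2, 4, 2, 3, 3, 0, 2, 3, 0, 1, 1, 3, 0, 1, 3, 3⟩⟩,
  ⟨10, false, ⟨4, 2, 2, 2, 2, 2, 2, 0, 3, 4, 2, 1, 0, 0, 2, 1⟩⟩,
  ⟨7, false, ⟨2, 2, 2, 3, 0, 2, 2, 1, 0, 0, 3, 0, 0, 1, 3, 1⟩⟩,
  ⟨5, true, ⟨4, 3, 3, 3, 1, 0, 0, 1, 1, 2, 2, 4, 0, 0, 1, 2⟩⟩,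
  ⟨4, true, ⟨0, 0, 4, 0, 0, 2, 3, 0, 1, 1, 2, 4, 0, 1, 1, 3⟩⟩,
  ⟨9, false, ⟨2, 0, 1, 4, 4, 4, 0, 0, 3, 2, 1, 4, 1, 0, 3, 1⟩⟩,
  ⟨25, false, ⟨0, 1, 1, 3, 3, 4, 1, 0, 0, 4, 1, 3, 0, 0, 2, 0⟩⟩,
  ⟨15, true, ⟨0, 1, 3, 2, 1, 1, 3, 0, 0, 4, 1, 4, 0, 0, 1, 0⟩⟩,
  ⟨24, true, ⟨2, 3, 0, 0, 4, 3, 4, 4, 1, 2, 3, 0, 0, 1, 0, 0⟩⟩,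
  ⟨3, true, ⟨2, 2, 4, 3, 1, 2, 4, 1, 2, 4, 4, 4, 0, 1, 1, 3⟩⟩,
  ⟨24, true, ⟨3, 0, 1, 4, 0, 1, 3, 2, 4, 0, 0, 2, 0, 0, 0, 1⟩⟩,
  ⟨2, false, ⟨1, 3, 2, 3, 1, 2, 0, 1, 1, 2, 3, 2, 0, 1, 0, 1⟩⟩,
  ⟨22, false, ⟨3, 4, 2, 1, 1, 0, 1, 1, 2, 1, 3, 3, 0, 0, 1, 3⟩⟩,
  ⟨0, true, ⟨1, 0, 4, 2, 2, 1, 0, 0, 1, 1, 2, 1, 1, 0, 4, 3⟩⟩,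
  ⟨12, true, ⟨2, 2, 0, 0, 1, 1, 1, 4, 2, 4, 3, 0, 0, 1, 0, 0⟩⟩,
  ⟨2, false, ⟨2, 3, 0, 1, 0, 1, 3, 0, 1, 4, 3, 3, 0, 0, 1, 1⟩⟩,
  ⟨1, false, ⟨4, 4, 0, 2, 2, 4, 3, 4, 1, 1, 3, 4, 0, 0, 2, 3⟩⟩,
  ⟨25, false, ⟨0, 2, 3, 3, 3, 2, 0, 0, 0, 4, 4, 4, 0, 0, 2, 0⟩⟩,
  ⟨0, true, ⟨0, 0, 2, 4, 2, 4, 1, 3, 4, 4, 4, 2, 0, 0, 2, 3⟩⟩,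
  ⟨23, false, ⟨2, 0, 2, 2, 3, 3, 1, 0, 0, 0, 3, 2, 0, 0, 0, 2⟩⟩,
  ⟨1, true, ⟨4, 4, 4, 3, 1, 3, 1, 1, 1, 1, 2, 0, 0, 0, 2, 3⟩⟩,
  ⟨10, false, ⟨2, 2, 4, 4, 0, 2, 2, 2, 1, 1, 0, 2, 0, 1, 3, 4⟩⟩,
  ⟨17, false, ⟨4, 3, 2, 0, 4, 4, 1, 3, 2, 2, 4, 3, 0, 2, 1, 2⟩⟩,
  ⟨1, false, ⟨1, 1, 3, 0, 3, 0, 1, 3, 4, 4, 2, 1, 0, 0, 2, 3⟩⟩,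
  ⟨19, true, ⟨3, 3, 2, 3, 0, 4, 4, 0, 1, 1, 1, 1, 0, 0, 1, 4⟩⟩,
  ⟨4, true, ⟨4, 1, 0, 1, 4, 2, 2, 4, 4, 1, 3, 0, 0, 0, 1, 1⟩⟩,
  ⟨3, true, ⟨1, 4, 0, 4, 1, 2, 3, 0, 1, 4, 4, 2, 0, 0, 2, 2⟩⟩,
  ⟨11, true, ⟨4, 1, 2, 2, 4, 2, 2, 4, 2, 3, 4, 0, 0, 0, 1, 1⟩⟩,
  ⟨41, true, ⟨0, 1, 4, 1, 1, 1, 1, 0, 1, 3, 3, 3, 0, 1, 0, 1⟩⟩,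
  ⟨17, false, ⟨0, 0, 0, 2, 1, 0, 2, 4, 0, 2, 3, 0, 0, 0, 1, 0⟩⟩,
  ⟨62, false, ⟨1, 2, 4, 1, 0, 4, 4, 0, 3, 1, 3, 3, 0, 1, 3, 4⟩⟩,
  ⟨28, true, ⟨1, 0, 3, 1, 0, 3, 3, 0, 2, 0, 2, 2, 0, 0, 0, 2⟩⟩,
  ⟨7, false, ⟨0, 2, 4, 0, 3, 4, 4, 1, 0, 4, 4, 3, 0, 0, 2, 0⟩⟩,
  ⟨4, true, ⟨3, 0, 2, 3, 2, 2, 0, 2, 1, 1, 2, 4, 0, 1, 1, 3⟩⟩,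
  ⟨32, false, ⟨4, 4, 0, 3, 2, 1, 3, 4, 0, 2, 0, 3, 0, 1, 3, 4⟩⟩,
  ⟨11, true, ⟨2, 4, 4, 4, 1, 2, 4, 1, 3, 3, 1, 2, 0, 1, 1, 3⟩⟩,
  ⟨3, true, ⟨4, 3, 0, 3, 0, 4, 1, 1, 2, 4, 4, 4, 0, 1, 1, 3⟩⟩,
  ⟨18, true, ⟨1, 4, 2, 2, 2, 1, 1, 0, 0, 1, 1, 3, 1, 0, 3, 1⟩⟩,
  ⟨0, true, ⟨0, 2, 1, 0, 1, 3, 2, 3, 1, 1, 2, 1, 1, 0, 4, 3⟩⟩,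
  ⟨20, true, ⟨2, 4, 1, 3, 0, 3, 0, 1, 2, 4, 4, 3, 0, 0, 1, 2⟩⟩,
  ⟨7, false, ⟨0, 0, 2, 0, 0, 4, 1, 1, 2, 1, 3, 2, 0, 2, 1, 2⟩⟩,
  ⟨5, false, ⟨0, 0, 3, 2, 1, 1, 4, 0, 0, 2, 1, 4, 0, 0, 1, 0⟩⟩,
  ⟨37, false, ⟨4, 3, 0, 3, 1, 0, 4, 3, 4, 3, 0, 0, 0, 0, 1, 2⟩⟩,
  ⟨0, true, ⟨2, 2, 0, 4, 4, 1, 4, 3, 4, 4, 4, 2, 0, 0, 2, 3⟩⟩,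
  ⟨7, false, ⟨1, 1, 1, 0, 3, 0, 2, 1, 0, 0, 0, 1, 0, 0, 2, 3⟩⟩,
  ⟨32, false, ⟨2, 1, 3, 4, 4, 4, 3, 2, 3, 4, 3, 0, 0, 0, 1, 3⟩⟩,
  ⟨2, false, ⟨0, 4, 3, 4, 1, 1, 0, 3, 0, 4, 4, 3, 0, 0, 1, 0⟩⟩,
  ⟨25, true, ⟨3, 3, 2, 3, 3, 4, 2, 4, 3, 1, 0, 0, 1, 0, 3, 1⟩⟩,
  ⟨5, false, ⟨1, 3, 0, 1, 0, 3, 2, 2, 1, 3, 1, 1, 0, 1, 3, 1⟩⟩,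
  ⟨4, true, ⟨2, 3, 4, 4, 1, 0, 3, 1, 4, 1, 3, 0, 0, 0, 1, 1⟩⟩,
  ⟨1, false, ⟨1, 1, 1, 2, 3, 2, 1, 1, 4, 4, 2, 1, 0, 0, 1, 4⟩⟩,
  ⟨9, false, ⟨0, 4, 0, 2, 1, 2, 0, 1, 3, 2, 2, 0, 0, 2, 1, 1⟩⟩,
  ⟨1, true, ⟨4, 4, 2, 0, 0, 4, 1, 4, 1, 1, 2, 0, 0, 0, 1, 4⟩⟩,
  ⟨3, true, ⟨0, 0, 2, 3, 4, 4, 2, 3, 1, 4, 4, 2, 0, 0, 2, 2⟩⟩,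
  ⟨9, false, ⟨0, 2, 2, 0, 4, 3, 0, 4, 2, 3, 3, 0, 0, 1, 0, 0⟩⟩,
  ⟨6, false, ⟨0, 1, 4, 1, 1, 0, 0, 4, 1, 2, 3, 2, 0, 1, 0, 1⟩⟩,
  ⟨2, false, ⟨4, 2, 3, 1, 1, 4, 0, 1, 3, 4, 2, 3, 0, 0, 2, 1⟩⟩,
  ⟨4, true, ⟨1, 0, 0, 1, 4, 2, 2, 4, 1, 1, 2, 4, 0, 1, 1, 3⟩⟩,
  ⟨12, true, ⟨0, 3, 4, 0, 3, 3, 1, 4, 1, 1, 0, 0, 0, 1, 0, 0⟩⟩,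
  ⟨5, false, ⟨1, 4, 0, 2, 1, 2, 3, 4, 0, 0, 4, 3, 0, 0, 2, 2⟩⟩,
  ⟨2, false, ⟨2, 0, 3, 2, 0, 3, 3, 4, 1, 4, 1, 3, 1, 0, 4, 3⟩⟩,
  ⟨7, false, ⟨0, 1, 1, 4, 3, 0, 3, 3, 0, 0, 0, 1, 1, 0, 3, 1⟩⟩,
  ⟨11, true, ⟨0, 4, 2, 2, 2, 2, 0, 2, 3, 3, 1, 2, 0, 1, 1, 3⟩⟩,
  ⟨0, true, ⟨4, 4, 3, 3, 0, 0, 4, 1, 1, 1, 2, 1, 1, 0, 4, 3⟩⟩,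
  ⟨24, false, ⟨1, 1, 4, 4, 1, 3, 2, 4, 3, 2, 2, 4, 0, 1, 1, 3⟩⟩,
  ⟨6, false, ⟨0, 0, 4, 1, 1, 1, 3, 3, 0, 4, 4, 3, 0, 0, 1, 0⟩⟩,
  ⟨5, false, ⟨4, 0, 3, 3, 4, 3, 4, 0, 0, 0, 4, 3, 0, 0, 0, 2⟩⟩,
  ⟨16, false, ⟨2, 4, 0, 0, 0, 4, 2, 4, 0, 0, 3, 0, 0, 0, 2, 4⟩⟩,
  ⟨0, true, ⟨4, 4, 3, 4, 1, 3, 2, 3, 4, 4, 4, 2, 0, 0, 2, 3⟩⟩,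
  ⟨7, false, ⟨4, 1, 4, 0, 4, 4, 4, 0, 1, 4, 3, 3, 0, 0, 2, 2⟩⟩,
  ⟨6, false, ⟨4, 4, 4, 1, 4, 2, 4, 3, 2, 1, 3, 2, 0, 1, 3, 1⟩⟩,
  ⟨24, false, ⟨1, 4, 4, 4, 4, 4, 4, 2, 3, 2, 0, 4, 0, 0, 2, 2⟩⟩,
  ⟨18, false, ⟨1, 1, 2, 1, 3, 0, 3, 3, 0, 2, 2, 1, 0, 1, 3, 3⟩⟩]

/-- Certificates. -/
def data23 : List (Cert (ZMod 5)) := [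
  ⟨10, false, ⟨0, 1, 2, 2, 3, 1, 4, 3, 0, 2, 2, 0, 0, 0, 2, 0⟩⟩,
  ⟨15, true, ⟨2, 1, 3, 1, 3, 1, 4, 2, 0, 0, 4, 3, 0, 0, 1, 3⟩⟩,
  ⟨3, true, ⟨4, 1, 4, 2, 2, 1, 1, 1, 1, 4, 4, 2, 0, 0, 2, 2⟩⟩,
  ⟨11, true, ⟨0, 0, 0, 3, 1, 0, 3, 1, 2, 3, 4, 0, 0, 0, 1, 1⟩⟩,
  ⟨8, true, ⟨2, 2, 3, 0, 2, 4, 4, 4, 3, 3, 3, 2, 0, 0, 2, 3⟩⟩,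
  ⟨4, true, ⟨0, 0, 3, 2, 3, 3, 4, 3, 4, 1, 3, 0, 0, 0, 1, 1⟩⟩,
  ⟨26, true, ⟨2, 2, 1, 0, 3, 4, 0, 4, 2, 3, 4, 0, 0, 1, 0, 0⟩⟩,
  ⟨8, true, ⟨3, 1, 1, 0, 2, 3, 2, 1, 1, 4, 0, 2, 0, 2, 1, 2⟩⟩,
  ⟨4, true, ⟨4, 0, 3, 4, 1, 2, 4, 1, 1, 1, 2, 4, 0, 1, 1, 3⟩⟩,
  ⟨5, false, ⟨2, 3, 2, 3, 0, 3, 3, 1, 4, 0, 1, 4, 1, 0, 4, 3⟩⟩,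
  ⟨45, true, ⟨2, 0, 0, 4, 2, 3, 1, 3, 2, 0, 3, 2, 0, 0, 0, 2⟩⟩,
  ⟨5, false, ⟨0, 0, 2, 2, 3, 2, 0, 3, 1, 1, 2, 1, 0, 0, 1, 4⟩⟩,
  ⟨3, true, ⟨3, 0, 2, 3, 3, 3, 0, 1, 2, 4, 4, 4, 0, 1, 1, 3⟩⟩,
  ⟨39, true, ⟨2, 3, 1, 4, 4, 2, 0, 4, 3, 2, 0, 4, 0, 0, 1, 1⟩⟩,
  ⟨9, false, ⟨0, 2, 3, 0, 3, 0, 3, 2, 0, 1, 4, 3, 0, 0, 2, 0⟩⟩,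
  ⟨0, true, ⟨3, 1, 0, 1, 4, 2, 1, 4, 1, 1, 2, 1, 1, 0, 4, 3⟩⟩,
  ⟨16, false, ⟨1, 3, 3, 0, 2, 2, 1, 0, 1, 3, 0, 3, 0, 0, 2, 1⟩⟩,
  ⟨12, false, ⟨0, 0, 1, 0, 0, 2, 1, 2, 4, 0, 1, 2, 0, 1, 3, 4⟩⟩,
  ⟨2, false, ⟨1, 1, 3, 1, 1, 0, 3, 0, 0, 0, 0, 1, 0, 0, 1, 4⟩⟩,
  ⟨23, false, ⟨1, 3, 1, 2, 2, 2, 3, 1, 0, 0, 2, 3, 0, 0, 2, 1⟩⟩,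
  ⟨0, true, ⟨1, 1, 1, 4, 3, 0, 0, 3, 4, 4, 4, 2, 0, 0, 2, 3⟩⟩,
  ⟨9, false, ⟨0, 0, 4, 1, 4, 4, 0, 0, 3, 2, 1, 4, 0, 0, 2, 2⟩⟩,
  ⟨2, false, ⟨0, 4, 1, 3, 1, 0, 3, 4, 0, 0, 0, 4, 0, 0, 1, 0⟩⟩,
  ⟨10, false, ⟨4, 4, 2, 4, 2, 0, 2, 4, 2, 4, 0, 4, 0, 1, 0, 1⟩⟩,
  ⟨19, true, ⟨2, 2, 2, 3, 1, 0, 3, 3, 4, 4, 4, 4, 0, 0, 1, 4⟩⟩,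
  ⟨61, false, ⟨0, 4, 4, 2, 1, 3, 2, 0, 0, 1, 4, 2, 0, 0, 1, 0⟩⟩,
  ⟨30, false, ⟨3, 2, 4, 0, 1, 2, 2, 4, 0, 3, 2, 0, 0, 1, 0, 0⟩⟩,
  ⟨36, false, ⟨4, 2, 3, 0, 3, 0, 2, 3, 0, 3, 3, 2, 0, 1, 3, 4⟩⟩,
  ⟨19, true, ⟨3, 3, 2, 3, 0, 4, 3, 1, 1, 1, 1, 1, 0, 0, 1, 4⟩⟩,
  ⟨3, true, ⟨3, 2, 1, 1, 0, 3, 0, 4, 1, 4, 4, 2, 0, 0, 2, 2⟩⟩,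
  ⟨11, true, ⟨3, 2, 4, 1, 2, 4, 1, 2, 2, 3, 4, 0, 0, 0, 1, 1⟩⟩,
  ⟨23, false, ⟨2, 4, 2, 0, 2, 2, 1, 3, 0, 0, 2, 3, 0, 0, 1, 2⟩⟩,
  ⟨2, false, ⟨2, 4, 1, 0, 4, 2, 2, 0, 4, 3, 1, 2, 0, 0, 2, 4⟩⟩,
  ⟨6, false, ⟨1, 1, 2, 4, 3, 3, 0, 3, 1, 4, 1, 3, 1, 0, 4, 3⟩⟩,
  ⟨5, false, ⟨4, 2, 2, 4, 4, 0, 0, 4, 4, 2, 2, 2, 1, 0, 4, 3⟩⟩,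
  ⟨16, false, ⟨0, 0, 3, 3, 3, 2, 3, 3, 4, 4, 0, 2, 0, 0, 1, 4⟩⟩,
  ⟨1, false, ⟨4, 4, 3, 4, 2, 1, 3, 2, 1, 1, 3, 4, 0, 0, 1, 4⟩⟩,
  ⟨16, true, ⟨0, 2, 3, 4, 1, 1, 2, 1, 0, 2, 0, 2, 0, 0, 1, 0⟩⟩,
  ⟨1, true, ⟨1, 1, 2, 1, 1, 0, 3, 4, 4, 4, 3, 0, 0, 0, 1, 4⟩⟩,
  ⟨3, true, ⟨0, 1, 3, 3, 2, 0, 2, 1, 2, 4, 4, 4, 0, 1, 1, 3⟩⟩,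
  ⟨0, true, ⟨2, 3, 2, 4, 3, 4, 3, 2, 1, 1, 2, 1, 1, 0, 4, 3⟩⟩,
  ⟨30, false, ⟨0, 1, 2, 3, 1, 2, 3, 3, 0, 1, 0, 4, 0, 0, 1, 0⟩⟩,
  ⟨9, false, ⟨4, 2, 2, 2, 0, 2, 4, 4, 4, 2, 1, 2, 0, 0, 1, 3⟩⟩,
  ⟨6, false, ⟨0, 4, 1, 4, 1, 0, 1, 4, 0, 0, 0, 4, 0, 0, 1, 0⟩⟩,
  ⟨28, false, ⟨0, 0, 2, 3, 1, 1, 3, 0, 3, 1, 2, 2, 0, 0, 2, 4⟩⟩,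
  ⟨0, true, ⟨3, 3, 4, 4, 0, 2, 3, 3, 4, 4, 4, 2, 0, 0, 2, 3⟩⟩,
  ⟨28, false, ⟨2, 2, 0, 3, 0, 4, 3, 3, 2, 2, 3, 3, 0, 0, 1, 4⟩⟩,
  ⟨22, false, ⟨2, 1, 2, 0, 1, 0, 3, 1, 4, 2, 4, 1, 0, 0, 1, 3⟩⟩,
  ⟨6, false, ⟨0, 0, 0, 3, 1, 0, 1, 3, 4, 3, 3, 3, 0, 0, 1, 2⟩⟩,
  ⟨10, false, ⟨0, 0, 2, 4, 3, 1, 2, 2, 0, 1, 1, 4, 0, 0, 2, 0⟩⟩,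
  ⟨43, false, ⟨4, 1, 1, 2, 1, 3, 1, 3, 4, 2, 2, 1, 0, 1, 2, 4⟩⟩,
  ⟨3, true, ⟨2, 3, 3, 0, 3, 0, 4, 2, 1, 4, 4, 2, 0, 0, 2, 2⟩⟩,
  ⟨5, false, ⟨2, 1, 0, 0, 1, 4, 1, 3, 4, 2, 2, 2, 0, 0, 2, 1⟩⟩,
  ⟨2, false, ⟨1, 0, 2, 3, 4, 4, 0, 0, 2, 1, 3, 2, 0, 1, 3, 1⟩⟩,
  ⟨9, false, ⟨3, 3, 3, 2, 3, 1, 2, 0, 0, 4, 1, 2, 0, 1, 1, 3⟩⟩,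
  ⟨26, true, ⟨4, 0, 2, 2, 0, 2, 1, 1, 2, 3, 4, 0, 1, 0, 3, 1⟩⟩,
  ⟨2, false, ⟨3, 2, 1, 3, 1, 2, 4, 0, 0, 4, 4, 3, 1, 0, 3, 1⟩⟩,
  ⟨4, false, ⟨3, 4, 1, 1, 1, 2, 3, 1, 3, 0, 1, 4, 0, 2, 1, 1⟩⟩,
  ⟨17, true, ⟨1, 0, 3, 0, 3, 1, 4, 0, 4, 0, 3, 2, 0, 0, 0, 1⟩⟩,
  ⟨12, false, ⟨1, 3, 3, 1, 3, 4, 3, 0, 0, 4, 3, 4, 0, 2, 1, 2⟩⟩,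
  ⟨18, false, ⟨1, 1, 0, 4, 4, 2, 2, 1, 0, 2, 2, 2, 0, 2, 1, 2⟩⟩,
  ⟨22, false, ⟨0, 0, 3, 3, 4, 1, 2, 4, 3, 0, 2, 3, 0, 0, 0, 1⟩⟩,
  ⟨8, true, ⟨3, 1, 3, 0, 4, 2, 0, 2, 3, 1, 4, 3, 0, 0, 2, 4⟩⟩,
  ⟨26, true, ⟨4, 2, 0, 2, 0, 2, 4, 4, 0, 0, 4, 0, 0, 0, 1, 3⟩⟩,
  ⟨10, true, ⟨2, 0, 4, 4, 2, 1, 1, 2, 1, 0, 0, 1, 0, 0, 0, 1⟩⟩,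
  ⟨4, false, ⟨3, 1, 3, 1, 1, 2, 3, 1, 0, 3, 0, 4, 0, 1, 1, 3⟩⟩,
  ⟨0, false, ⟨2, 1, 3, 1, 0, 2, 0, 2, 2, 1, 1, 1, 0, 0, 1, 3⟩⟩,
  ⟨1, true, ⟨4, 3, 4, 0, 2, 0, 1, 3, 2, 3, 3, 4, 0, 2, 1, 2⟩⟩,
  ⟨3, false, ⟨0, 0, 3, 4, 2, 1, 0, 0, 2, 2, 0, 0, 0, 0, 1, 4⟩⟩,
  ⟨17, false, ⟨0, 0, 2, 0, 0, 3, 1, 1, 2, 0, 4, 4, 0, 0, 0, 2⟩⟩,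
  ⟨8, true, ⟨1, 1, 2, 4, 0, 4, 0, 1, 0, 0, 1, 0, 0, 2, 1, 2⟩⟩,
  ⟨11, false, ⟨1, 4, 1, 3, 1, 2, 3, 1, 0, 4, 0, 2, 0, 1, 1, 3⟩⟩,
  ⟨3, false, ⟨0, 0, 2, 1, 4, 2, 3, 3, 4, 1, 3, 4, 0, 0, 1, 1⟩⟩,
  ⟨4, true, ⟨2, 4, 0, 3, 0, 2, 3, 0, 0, 0, 3, 0, 0, 1, 3, 3⟩⟩,
  ⟨9, false, ⟨1, 0, 1, 4, 4, 1, 3, 3, 4, 0, 0, 2, 0, 0, 0, 1⟩⟩,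
  ⟨2, false, ⟨0, 4, 2, 1, 4, 4, 0, 3, 1, 3, 2, 4, 0, 1, 2, 4⟩⟩,
  ⟨28, true, ⟨0, 4, 2, 0, 3, 2, 3, 4, 0, 2, 0, 4, 0, 0, 2, 0⟩⟩,
  ⟨0, false, ⟨2, 0, 4, 1, 4, 1, 1, 2, 0, 3, 2, 3, 0, 1, 3, 1⟩⟩,
  ⟨5, true, ⟨4, 1, 3, 1, 3, 0, 4, 3, 2, 3, 4, 4, 0, 0, 2, 2⟩⟩,
  ⟨1, true, ⟨3, 1, 1, 3, 0, 4, 4, 0, 3, 1, 3, 3, 0, 0, 2, 4⟩⟩,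
  ⟨22, false, ⟨0, 4, 3, 4, 2, 0, 0, 4, 3, 3, 1, 3, 0, 1, 0, 1⟩⟩,
  ⟨20, true, ⟨0, 1, 1, 3, 3, 2, 0, 4, 3, 0, 4, 4, 1, 0, 3, 1⟩⟩,
  ⟨3, false, ⟨4, 4, 3, 1, 1, 3, 4, 0, 1, 2, 4, 0, 0, 1, 3, 1⟩⟩,
  ⟨27, true, ⟨0, 4, 4, 2, 3, 3, 3, 2, 0, 4, 0, 1, 0, 0, 2, 0⟩⟩,
  ⟨0, false, ⟨2, 3, 2, 4, 2, 4, 3, 3, 0, 0, 2, 4, 0, 0, 1, 1⟩⟩,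
  ⟨2, false, ⟨3, 1, 3, 1, 0, 4, 0, 4, 1, 2, 3, 2, 0, 0, 2, 4⟩⟩,
  ⟨24, true, ⟨0, 1, 0, 1, 3, 1, 0, 1, 0, 3, 3, 4, 0, 0, 2, 0⟩⟩,
  ⟨7, true, ⟨2, 0, 4, 0, 2, 1, 4, 4, 2, 4, 2, 0, 0, 1, 0, 0⟩⟩,
  ⟨1, true, ⟨4, 3, 2, 0, 3, 0, 2, 1, 0, 1, 2, 1, 0, 2, 1, 2⟩⟩,
  ⟨23, true, ⟨3, 0, 4, 4, 4, 1, 0, 0, 4, 4, 1, 1, 0, 2, 1, 2⟩⟩]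

/-- Certificates. -/
def data24 : List (Cert (ZMod 5)) := [
  ⟨33, false, ⟨1, 4, 0, 2, 0, 3, 0, 4, 4, 1, 1, 3, 0, 0, 2, 2⟩⟩,
  ⟨2, false, ⟨2, 1, 0, 1, 3, 0, 1, 3, 0, 0, 0, 1, 0, 0, 2, 1⟩⟩,
  ⟨8, false, ⟨1, 0, 0, 0, 1, 3, 0, 4, 2, 0, 1, 3, 0, 0, 0, 2⟩⟩,
  ⟨10, true, ⟨4, 1, 0, 0, 0, 2, 4, 4, 3, 2, 4, 0, 0, 1, 0, 0⟩⟩,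
  ⟨33, false, ⟨4, 1, 4, 0, 4, 4, 2, 3, 4, 1, 1, 3, 0, 0, 2, 2⟩⟩,
  ⟨0, false, ⟨3, 3, 0, 1, 2, 4, 4, 4, 2, 2, 4, 2, 0, 0, 2, 3⟩⟩,
  ⟨45, false, ⟨4, 0, 2, 4, 0, 3, 3, 2, 4, 0, 1, 4, 0, 0, 0, 2⟩⟩,
  ⟨11, false, ⟨3, 3, 0, 4, 0, 4, 0, 2, 4, 4, 2, 2, 0, 0, 1, 4⟩⟩,
  ⟨10, false, ⟨3, 0, 1, 1, 2, 1, 1, 2, 4, 0, 0, 4, 0, 0, 0, 1⟩⟩,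
  ⟨5, true, ⟨3, 4, 2, 4, 2, 2, 3, 2, 2, 1, 2, 2, 0, 0, 2, 1⟩⟩,
  ⟨1, true, ⟨1, 0, 2, 3, 3, 1, 4, 2, 0, 4, 3, 4, 0, 2, 1, 2⟩⟩,
  ⟨9, true, ⟨2, 3, 1, 4, 2, 1, 2, 4, 3, 2, 0, 4, 0, 0, 2, 2⟩⟩,
  ⟨26, true, ⟨4, 3, 3, 1, 4, 1, 1, 3, 2, 4, 2, 1, 0, 0, 1, 2⟩⟩,
  ⟨7, false, ⟨2, 3, 2, 3, 4, 0, 0, 1, 1, 2, 3, 1, 0, 1, 3, 4⟩⟩,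
  ⟨38, false, ⟨0, 0, 1, 2, 2, 4, 3, 0, 3, 3, 2, 0, 0, 0, 2, 3⟩⟩,
  ⟨5, true, ⟨4, 2, 2, 4, 4, 3, 3, 4, 0, 0, 2, 4, 0, 0, 2, 1⟩⟩,
  ⟨4, true, ⟨2, 0, 4, 0, 0, 1, 0, 0, 2, 0, 2, 0, 0, 1, 0, 1⟩⟩,
  ⟨37, false, ⟨3, 3, 4, 3, 0, 4, 3, 1, 3, 3, 1, 3, 0, 1, 3, 3⟩⟩,
  ⟨0, false, ⟨1, 1, 2, 4, 3, 1, 3, 2, 2, 1, 2, 2, 0, 2, 1, 2⟩⟩,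
  ⟨1, true, ⟨2, 4, 2, 3, 3, 0, 2, 3, 2, 4, 2, 2, 0, 0, 2, 4⟩⟩,
  ⟨19, false, ⟨2, 2, 3, 4, 4, 1, 2, 1, 2, 0, 1, 0, 1, 0, 3, 1⟩⟩,
  ⟨6, true, ⟨2, 4, 1, 4, 1, 4, 2, 2, 4, 0, 2, 4, 0, 1, 1, 3⟩⟩,
  ⟨14, true, ⟨0, 0, 4, 1, 1, 1, 4, 4, 1, 0, 0, 4, 0, 0, 0, 1⟩⟩,
  ⟨6, false, ⟨2, 1, 4, 4, 1, 3, 0, 1, 4, 4, 2, 4, 0, 1, 3, 3⟩⟩,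
  ⟨37, false, ⟨2, 0, 1, 1, 4, 1, 0, 4, 3, 3, 1, 3, 0, 1, 3, 3⟩⟩,
  ⟨23, false, ⟨2, 1, 2, 4, 0, 1, 4, 1, 1, 3, 4, 2, 0, 0, 2, 1⟩⟩,
  ⟨1, true, ⟨1, 0, 0, 3, 4, 3, 4, 2, 3, 2, 2, 1, 0, 2, 1, 2⟩⟩,
  ⟨7, true, ⟨1, 4, 1, 0, 2, 2, 3, 1, 0, 3, 0, 4, 0, 1, 3, 3⟩⟩,
  ⟨22, false, ⟨4, 0, 2, 0, 1, 1, 3, 0, 3, 0, 3, 1, 0, 0, 0, 1⟩⟩,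
  ⟨18, true, ⟨1, 4, 2, 3, 1, 2, 2, 4, 1, 3, 1, 4, 0, 1, 2, 4⟩⟩,
  ⟨2, false, ⟨1, 4, 3, 3, 3, 0, 1, 2, 0, 0, 0, 4, 0, 0, 2, 2⟩⟩,
  ⟨5, true, ⟨0, 0, 4, 2, 1, 3, 4, 3, 1, 0, 3, 2, 0, 0, 0, 2⟩⟩,
  ⟨0, false, ⟨0, 2, 0, 1, 1, 1, 0, 3, 3, 0, 2, 3, 0, 1, 1, 3⟩⟩,
  ⟨4, false, ⟨2, 0, 2, 4, 3, 0, 3, 0, 3, 1, 3, 0, 0, 1, 2, 4⟩⟩,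
  ⟨12, false, ⟨1, 3, 1, 3, 1, 4, 1, 4, 4, 2, 3, 1, 0, 0, 2, 1⟩⟩,
  ⟨6, false, ⟨4, 0, 0, 4, 0, 1, 1, 0, 3, 0, 4, 3, 0, 2, 2, 1⟩⟩,
  ⟨2, false, ⟨2, 2, 4, 0, 0, 2, 1, 4, 3, 3, 4, 0, 0, 0, 2, 3⟩⟩,
  ⟨5, true, ⟨0, 3, 3, 2, 1, 2, 0, 4, 2, 2, 4, 2, 0, 1, 2, 4⟩⟩,
  ⟨50, true, ⟨4, 3, 3, 0, 3, 4, 3, 4, 2, 4, 1, 1, 0, 0, 1, 2⟩⟩,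
  ⟨22, false, ⟨0, 4, 1, 3, 3, 1, 1, 4, 0, 0, 2, 4, 0, 0, 2, 0⟩⟩,
  ⟨10, false, ⟨1, 2, 2, 2, 1, 2, 3, 4, 1, 0, 1, 1, 0, 2, 2, 1⟩⟩,
  ⟨10, false, ⟨0, 0, 1, 2, 1, 2, 3, 3, 1, 4, 3, 1, 0, 0, 2, 2⟩⟩,
  ⟨4, true, ⟨2, 2, 0, 1, 2, 4, 2, 0, 1, 1, 1, 0, 0, 0, 2, 3⟩⟩,
  ⟨7, true, ⟨4, 3, 1, 1, 3, 3, 4, 0, 1, 3, 1, 2, 0, 2, 1, 1⟩⟩,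
  ⟨12, false, ⟨4, 2, 2, 1, 0, 1, 4, 0, 1, 3, 2, 4, 0, 0, 2, 1⟩⟩,
  ⟨32, true, ⟨1, 2, 2, 0, 2, 1, 2, 1, 0, 3, 0, 3, 0, 1, 3, 1⟩⟩,
  ⟨2, false, ⟨4, 2, 4, 0, 2, 2, 2, 0, 4, 1, 2, 2, 0, 2, 2, 1⟩⟩,
  ⟨1, true, ⟨3, 1, 0, 1, 3, 0, 2, 4, 0, 0, 0, 1, 0, 0, 2, 4⟩⟩,
  ⟨4, false, ⟨3, 3, 2, 4, 0, 4, 0, 2, 3, 3, 4, 4, 0, 0, 1, 4⟩⟩,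
  ⟨20, false, ⟨3, 1, 2, 1, 4, 1, 1, 1, 3, 1, 1, 0, 0, 0, 1, 2⟩⟩,
  ⟨0, false, ⟨0, 2, 2, 0, 4, 2, 3, 4, 4, 4, 1, 2, 1, 0, 3, 1⟩⟩,
  ⟨11, true, ⟨0, 0, 4, 3, 1, 2, 4, 2, 0, 3, 2, 2, 0, 0, 1, 0⟩⟩,
  ⟨34, false, ⟨3, 2, 3, 1, 0, 3, 0, 4, 2, 3, 4, 4, 0, 0, 2, 2⟩⟩,
  ⟨4, true, ⟨2, 2, 1, 0, 1, 3, 1, 2, 1, 1, 0, 1, 0, 0, 2, 3⟩⟩,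
  ⟨7, true, ⟨3, 1, 4, 2, 3, 2, 3, 2, 0, 3, 1, 4, 0, 2, 1, 1⟩⟩,
  ⟨31, false, ⟨3, 1, 2, 0, 0, 2, 2, 4, 1, 2, 1, 0, 0, 1, 0, 0⟩⟩,
  ⟨0, false, ⟨2, 1, 2, 2, 1, 4, 1, 3, 1, 0, 3, 2, 1, 0, 3, 1⟩⟩,
  ⟨11, true, ⟨3, 3, 0, 0, 0, 3, 1, 4, 2, 2, 2, 0, 0, 1, 0, 0⟩⟩,
  ⟨5, true, ⟨1, 0, 0, 0, 2, 1, 0, 2, 3, 0, 1, 3, 0, 0, 0, 1⟩⟩,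
  ⟨12, false, ⟨2, 4, 3, 3, 3, 0, 0, 1, 0, 0, 0, 4, 0, 0, 2, 4⟩⟩,
  ⟨14, true, ⟨2, 0, 4, 1, 3, 1, 4, 2, 1, 0, 0, 4, 0, 0, 0, 1⟩⟩,
  ⟨9, false, ⟨3, 0, 4, 3, 1, 3, 1, 2, 4, 1, 0, 2, 0, 2, 2, 1⟩⟩,
  ⟨9, true, ⟨2, 1, 4, 0, 4, 4, 3, 0, 3, 2, 2, 4, 0, 1, 1, 3⟩⟩,
  ⟨10, true, ⟨0, 0, 4, 3, 1, 2, 3, 3, 4, 1, 2, 4, 0, 0, 2, 2⟩⟩,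
  ⟨5, true, ⟨0, 3, 0, 0, 3, 3, 0, 0, 0, 2, 3, 2, 0, 0, 2, 0⟩⟩,
  ⟨1, true, ⟨3, 4, 0, 1, 1, 4, 3, 0, 4, 2, 3, 1, 0, 0, 2, 1⟩⟩,
  ⟨3, true, ⟨0, 0, 0, 4, 1, 0, 0, 4, 2, 1, 4, 1, 0, 0, 1, 3⟩⟩,
  ⟨6, true, ⟨3, 0, 3, 4, 4, 2, 0, 4, 1, 2, 4, 1, 0, 1, 3, 4⟩⟩,
  ⟨1, true, ⟨2, 1, 3, 3, 0, 1, 1, 1, 1, 3, 2, 4, 0, 0, 2, 1⟩⟩,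
  ⟨6, false, ⟨1, 1, 3, 0, 0, 2, 1, 4, 4, 4, 3, 0, 0, 1, 0, 0⟩⟩,
  ⟨39, false, ⟨0, 0, 2, 4, 2, 4, 1, 3, 3, 2, 2, 0, 0, 0, 1, 1⟩⟩,
  ⟨4, true, ⟨1, 1, 2, 0, 0, 3, 1, 4, 4, 4, 4, 0, 0, 1, 0, 0⟩⟩,
  ⟨27, true, ⟨3, 2, 1, 2, 3, 4, 1, 4, 1, 3, 1, 0, 0, 1, 3, 4⟩⟩,
  ⟨7, true, ⟨0, 0, 3, 4, 3, 4, 2, 2, 0, 1, 2, 4, 0, 0, 2, 0⟩⟩,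
  ⟨0, false, ⟨3, 0, 4, 1, 3, 1, 1, 0, 0, 0, 2, 4, 0, 0, 0, 1⟩⟩,
  ⟨2, false, ⟨2, 3, 0, 3, 2, 0, 4, 4, 0, 4, 3, 4, 0, 1, 0, 1⟩⟩,
  ⟨32, false, ⟨3, 0, 0, 1, 0, 3, 1, 0, 0, 0, 2, 0, 0, 0, 0, 2⟩⟩,
  ⟨4, false, ⟨1, 0, 4, 3, 0, 4, 2, 0, 2, 0, 4, 1, 0, 1, 3, 4⟩⟩,
  ⟨16, false, ⟨2, 1, 1, 1, 3, 0, 1, 1, 2, 1, 1, 2, 0, 0, 2, 1⟩⟩,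
  ⟨11, false, ⟨1, 4, 1, 3, 3, 0, 3, 0, 4, 3, 4, 0, 0, 1, 2, 4⟩⟩,
  ⟨31, false, ⟨0, 2, 1, 1, 3, 3, 0, 3, 0, 3, 1, 2, 0, 0, 2, 0⟩⟩,
  ⟨1, true, ⟨2, 4, 3, 0, 3, 0, 2, 0, 0, 0, 0, 4, 0, 0, 2, 4⟩⟩,
  ⟨4, true, ⟨0, 3, 4, 1, 1, 2, 4, 2, 0, 1, 4, 4, 0, 0, 1, 0⟩⟩,
  ⟨61, true, ⟨1, 3, 0, 3, 3, 1, 2, 2, 1, 3, 3, 4, 0, 0, 1, 3⟩⟩,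
  ⟨12, false, ⟨3, 4, 0, 3, 2, 3, 0, 1, 2, 3, 3, 4, 0, 2, 1, 2⟩⟩,
  ⟨5, true, ⟨1, 3, 3, 0, 2, 1, 0, 2, 3, 0, 1, 3, 0, 2, 2, 1⟩⟩,
  ⟨5, true, ⟨4, 0, 2, 2, 3, 0, 4, 3, 2, 3, 4, 4, 0, 1, 3, 1⟩⟩,
  ⟨25, true, ⟨3, 1, 0, 3, 1, 1, 3, 4, 4, 0, 2, 0, 1, 0, 3, 1⟩⟩,
  ⟨0, false, ⟨0, 1, 0, 3, 3, 4, 3, 2, 0, 4, 2, 3, 0, 0, 2, 0⟩⟩,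
  ⟨7, false, ⟨4, 2, 4, 0, 2, 4, 0, 4, 0, 2, 4, 0, 0, 1, 0, 0⟩⟩]

/-- Certificates. -/
def data25 : List (Cert (ZMod 5)) := [
  ⟨17, true, ⟨1, 3, 0, 1, 4, 2, 3, 3, 4, 3, 4, 0, 0, 1, 3, 1⟩⟩]

/-- Certificates. -/
def data : List (Cert (ZMod 5)) :=
  data0 ++ data1 ++ data2 ++ data3 ++ data4 ++ data5 ++ data6 ++ data7 ++ data8 ++ data9 ++ data10 ++ data11 ++ data12 ++ data13 ++ data14 ++ data15 ++ data16 ++ data17 ++ data18 ++ data19 ++ data20 ++ data21 ++ data22 ++ data23 ++ data24 ++ data25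

/-- The field elements in enumeration order. -/
def es : List (ZMod 5) := [0, 1, 2, 3, 4]

/-- Square classes. -/
def cs : List ((ZMod 5) × (ZMod 5)) := [(1, 1), (2, 3)]

/-- Class representatives of `SL₂`. -/
def hs : List ((ZMod 5) × (ZMod 5) × (ZMod 5) × (ZMod 5)) := [(1, 0, 0, 1), (0, 1, 4, 0), (0, 1, 4, 1), (0, 1, 4, 2), (0, 1, 4, 3), (0, 1, 4, 4), (0, 2, 2, 2), (0, 2, 2, 3), (4, 0, 0, 4)]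

/-- Conjugacy certificates. -/
def slData0 : List (SLCert (ZMod 5)) := [
  ((0, 1, 4, 0), (0, 1, 4, 0), (0, 1, 4, 0)),
  ((0, 1, 4, 1), (0, 1, 4, 1), (0, 1, 4, 1)),
  ((0, 1, 4, 2), (0, 1, 4, 2), (0, 1, 4, 2)),
  ((0, 1, 4, 3), (0, 1, 4, 3), (0, 1, 4, 3)),
  ((0, 1, 4, 4), (0, 1, 4, 4), (0, 1, 4, 4)),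
  ((0, 2, 2, 0), (0, 1, 4, 0), (1, 1, 2, 3)),
  ((0, 2, 2, 1), (0, 1, 4, 1), (1, 2, 4, 4)),
  ((0, 2, 2, 2), (0, 2, 2, 2), (0, 2, 2, 2)),
  ((0, 2, 2, 3), (0, 2, 2, 3), (0, 2, 2, 3)),
  ((0, 2, 2, 4), (0, 1, 4, 4), (1, 3, 1, 4)),
  ((0, 3, 3, 0), (0, 1, 4, 0), (2, 2, 1, 4)),
  ((0, 3, 3, 1), (0, 1, 4, 1), (1, 1, 3, 4)),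
  ((0, 3, 3, 2), (0, 2, 2, 2), (0, 1, 4, 4)),
  ((0, 3, 3, 3), (0, 2, 2, 3), (0, 1, 4, 1)),
  ((0, 3, 3, 4), (0, 1, 4, 4), (1, 2, 1, 3)),
  ((0, 4, 1, 0), (0, 1, 4, 0), (0, 2, 2, 0)),
  ((0, 4, 1, 1), (0, 1, 4, 1), (0, 2, 2, 3)),
  ((0, 4, 1, 2), (0, 1, 4, 2), (0, 2, 2, 1)),
  ((0, 4, 1, 3), (0, 1, 4, 3), (0, 2, 2, 4)),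
  ((0, 4, 1, 4), (0, 1, 4, 4), (0, 2, 2, 2)),
  ((1, 0, 0, 1), (1, 0, 0, 1), (0, 1, 4, 0)),
  ((1, 0, 1, 1), (0, 1, 4, 2), (2, 3, 0, 3)),
  ((1, 0, 2, 1), (0, 2, 2, 2), (1, 3, 0, 1)),
  ((1, 0, 3, 1), (0, 2, 2, 2), (2, 1, 0, 3)),
  ((1, 0, 4, 1), (0, 1, 4, 2), (1, 4, 0, 1)),
  ((1, 1, 0, 1), (0, 1, 4, 2), (0, 1, 4, 1)),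
  ((1, 1, 1, 2), (0, 1, 4, 3), (0, 1, 4, 2)),
  ((1, 1, 2, 3), (0, 1, 4, 4), (0, 1, 4, 3)),
  ((1, 1, 3, 4), (0, 1, 4, 0), (0, 1, 4, 4)),
  ((1, 1, 4, 0), (0, 1, 4, 1), (0, 1, 4, 0)),
  ((1, 2, 0, 1), (0, 2, 2, 2), (0, 2, 2, 1)),
  ((1, 2, 1, 3), (0, 1, 4, 4), (1, 3, 3, 0)),
  ((1, 2, 2, 0), (0, 1, 4, 1), (1, 2, 1, 3)),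
  ((1, 2, 3, 2), (0, 2, 2, 3), (0, 2, 2, 2)),
  ((1, 2, 4, 4), (0, 1, 4, 0), (1, 1, 4, 0)),
  ((1, 3, 0, 1), (0, 2, 2, 2), (0, 1, 4, 2)),
  ((1, 3, 1, 4), (0, 1, 4, 0), (2, 2, 2, 0)),
  ((1, 3, 2, 2), (0, 2, 2, 3), (0, 1, 4, 4)),
  ((1, 3, 3, 0), (0, 1, 4, 1), (1, 1, 1, 2)),
  ((1, 3, 4, 3), (0, 1, 4, 4), (1, 2, 4, 4)),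
  ((1, 4, 0, 1), (0, 1, 4, 2), (0, 2, 2, 3)),
  ((1, 4, 1, 0), (0, 1, 4, 1), (0, 2, 2, 0)),
  ((1, 4, 2, 4), (0, 1, 4, 0), (0, 2, 2, 2)),
  ((1, 4, 3, 3), (0, 1, 4, 4), (0, 2, 2, 4)),
  ((1, 4, 4, 2), (0, 1, 4, 3), (0, 2, 2, 1)),
  ((2, 0, 0, 3), (0, 1, 4, 0), (1, 3, 4, 3)),
  ((2, 0, 1, 3), (0, 1, 4, 0), (1, 3, 3, 0)),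
  ((2, 0, 2, 3), (0, 1, 4, 0), (1, 3, 2, 2)),
  ((2, 0, 3, 3), (0, 1, 4, 0), (1, 3, 1, 4)),
  ((2, 0, 4, 3), (0, 1, 4, 0), (1, 3, 0, 1)),
  ((2, 1, 0, 3), (0, 1, 4, 0), (0, 1, 4, 3)),
  ((2, 1, 1, 1), (0, 1, 4, 3), (0, 1, 4, 1)),
  ((2, 1, 2, 4), (0, 1, 4, 1), (0, 1, 4, 4)),
  ((2, 1, 3, 2), (0, 1, 4, 4), (0, 1, 4, 2)),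
  ((2, 1, 4, 0), (0, 1, 4, 2), (0, 1, 4, 0)),
  ((2, 2, 0, 3), (0, 1, 4, 0), (1, 1, 1, 2)),
  ((2, 2, 1, 4), (0, 1, 4, 1), (1, 2, 3, 2)),
  ((2, 2, 2, 0), (0, 2, 2, 2), (0, 2, 2, 0)),
  ((2, 2, 3, 1), (0, 2, 2, 3), (0, 2, 2, 1)),
  ((2, 2, 4, 2), (0, 1, 4, 4), (1, 3, 0, 1)),
  ((2, 3, 0, 3), (0, 1, 4, 0), (2, 2, 3, 1)),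
  ((2, 3, 1, 2), (0, 1, 4, 4), (1, 2, 2, 0)),
  ((2, 3, 2, 1), (0, 2, 2, 3), (0, 1, 4, 2)),
  ((2, 3, 3, 0), (0, 2, 2, 2), (0, 1, 4, 0)),
  ((2, 3, 4, 4), (0, 1, 4, 1), (1, 1, 4, 0)),
  ((2, 4, 0, 3), (0, 1, 4, 0), (0, 2, 2, 4)),
  ((2, 4, 1, 0), (0, 1, 4, 2), (0, 2, 2, 0)),
  ((2, 4, 2, 2), (0, 1, 4, 4), (0, 2, 2, 1)),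
  ((2, 4, 3, 4), (0, 1, 4, 1), (0, 2, 2, 2)),
  ((2, 4, 4, 1), (0, 1, 4, 3), (0, 2, 2, 3)),
  ((3, 0, 0, 2), (0, 1, 4, 0), (1, 2, 1, 3)),
  ((3, 0, 1, 2), (0, 1, 4, 0), (1, 2, 2, 0)),
  ((3, 0, 2, 2), (0, 1, 4, 0), (1, 2, 3, 2)),
  ((3, 0, 3, 2), (0, 1, 4, 0), (1, 2, 4, 4)),
  ((3, 0, 4, 2), (0, 1, 4, 0), (1, 2, 0, 1)),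
  ((3, 1, 0, 2), (0, 1, 4, 0), (0, 1, 4, 2)),
  ((3, 1, 1, 4), (0, 1, 4, 2), (0, 1, 4, 4)),
  ((3, 1, 2, 1), (0, 1, 4, 4), (0, 1, 4, 1)),
  ((3, 1, 3, 3), (0, 1, 4, 1), (0, 1, 4, 3)),
  ((3, 1, 4, 0), (0, 1, 4, 3), (0, 1, 4, 0)),
  ((3, 2, 0, 2), (0, 1, 4, 0), (1, 1, 3, 4)),
  ((3, 2, 1, 1), (0, 1, 4, 4), (1, 3, 2, 2)),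
  ((3, 2, 2, 0), (0, 2, 2, 3), (0, 2, 2, 0)),
  ((3, 2, 3, 4), (0, 2, 2, 2), (0, 2, 2, 4)),
  ((3, 2, 4, 3), (0, 1, 4, 1), (1, 2, 0, 1)),
  ((3, 3, 0, 2), (0, 1, 4, 0), (2, 2, 4, 2)),
  ((3, 3, 1, 3), (0, 1, 4, 1), (1, 1, 2, 3)),
  ((3, 3, 2, 4), (0, 2, 2, 2), (0, 1, 4, 3)),
  ((3, 3, 3, 0), (0, 2, 2, 3), (0, 1, 4, 0)),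
  ((3, 3, 4, 1), (0, 1, 4, 4), (1, 2, 0, 1))]

/-- Conjugacy certificates. -/
def slData1 : List (SLCert (ZMod 5)) := [
  ((3, 4, 0, 2), (0, 1, 4, 0), (0, 2, 2, 1)),
  ((3, 4, 1, 0), (0, 1, 4, 3), (0, 2, 2, 0)),
  ((3, 4, 2, 3), (0, 1, 4, 1), (0, 2, 2, 4)),
  ((3, 4, 3, 1), (0, 1, 4, 4), (0, 2, 2, 3)),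
  ((3, 4, 4, 4), (0, 1, 4, 2), (0, 2, 2, 2)),
  ((4, 0, 0, 4), (4, 0, 0, 4), (0, 1, 4, 0)),
  ((4, 0, 1, 4), (0, 1, 4, 3), (2, 2, 0, 3)),
  ((4, 0, 2, 4), (0, 2, 2, 3), (1, 2, 0, 1)),
  ((4, 0, 3, 4), (0, 2, 2, 3), (2, 4, 0, 3)),
  ((4, 0, 4, 4), (0, 1, 4, 3), (1, 1, 0, 1)),
  ((4, 1, 0, 4), (0, 1, 4, 3), (0, 1, 4, 4)),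
  ((4, 1, 1, 3), (0, 1, 4, 2), (0, 1, 4, 3)),
  ((4, 1, 2, 2), (0, 1, 4, 1), (0, 1, 4, 2)),
  ((4, 1, 3, 1), (0, 1, 4, 0), (0, 1, 4, 1)),
  ((4, 1, 4, 0), (0, 1, 4, 4), (0, 1, 4, 0)),
  ((4, 2, 0, 4), (0, 2, 2, 3), (0, 2, 2, 4)),
  ((4, 2, 1, 2), (0, 1, 4, 1), (1, 2, 2, 0)),
  ((4, 2, 2, 0), (0, 1, 4, 4), (1, 3, 4, 3)),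
  ((4, 2, 3, 3), (0, 2, 2, 2), (0, 2, 2, 3)),
  ((4, 2, 4, 1), (0, 1, 4, 0), (1, 1, 0, 1)),
  ((4, 3, 0, 4), (0, 2, 2, 3), (0, 1, 4, 3)),
  ((4, 3, 1, 1), (0, 1, 4, 0), (2, 2, 0, 3)),
  ((4, 3, 2, 3), (0, 2, 2, 2), (0, 1, 4, 1)),
  ((4, 3, 3, 0), (0, 1, 4, 4), (1, 2, 3, 2)),
  ((4, 3, 4, 2), (0, 1, 4, 1), (1, 1, 0, 1)),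
  ((4, 4, 0, 4), (0, 1, 4, 3), (0, 2, 2, 2)),
  ((4, 4, 1, 0), (0, 1, 4, 4), (0, 2, 2, 0)),
  ((4, 4, 2, 1), (0, 1, 4, 0), (0, 2, 2, 3)),
  ((4, 4, 3, 2), (0, 1, 4, 1), (0, 2, 2, 1)),
  ((4, 4, 4, 3), (0, 1, 4, 2), (0, 2, 2, 4))]

/-- Conjugacy certificates. -/
def slData : List (SLCert (ZMod 5)) :=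
  slData0 ++ slData1

theorem covers : CoversSL hs :=
  coversSL_of_check hs slData (by decide +kernel) (by decide +kernel)

theorem cs_spec : ∀ c : ZMod 5, c ≠ 0 → ∃ d ∈ cs, ∃ l : ZMod 5, l ≠ 0 ∧ d.1 = l * l * c ∧ d.1 * d.2 = 1 := by
  decide +kernel

theorem x_pow : M4.pow x 13 = M4.one := by decide +kernel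

theorem x_symp : x.IsSymp := by decide +kernel

theorem y_check : checkY x Y = true := by decide +kernel

theorem checkAll_take_drop : ∀ (n : ℕ) (Ms : List (M4 (ZMod 5))) (ds : List (Cert (ZMod 5))),
    checkAll x Y (Ms.take n) (ds.take n) = true → checkAll x Y (Ms.drop n) (ds.drop n) = true →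
      checkAll x Y Ms ds = true
  | 0, _, _, _, h => by simpa using h
  | _ + 1, [], _, _, _ => rfl
  | _ + 1, _ :: _, [], h, _ => by simp [checkAll] at h
  | n + 1, _ :: Ms, _ :: ds, h, h' => by
      simp only [List.take_succ_cons, checkAll, Bool.and_eq_true] at h
      simp only [List.drop_succ_cons] at h'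
      simp only [checkAll, Bool.and_eq_true]
      exact ⟨h.1, checkAll_take_drop n Ms ds h.2 h'⟩

theorem check_part0 : checkAll x Y ((forms es cs hs).take 380) (data.take 380) = true := by
  decide +kernel

theorem check_part1 : checkAll x Y (((forms es cs hs).drop 380).take 380) ((data.drop 380).take 380) = true := by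
  decide +kernel

theorem check_part2 : checkAll x Y (((forms es cs hs).drop 760).take 380) ((data.drop 760).take 380) = true := by
  decide +kernel

theorem check_part3 : checkAll x Y (((forms es cs hs).drop 1140).take 380) ((data.drop 1140).take 380) = true := by
  decide +kernel

theorem check_part4 : checkAll x Y (((forms es cs hs).drop 1520).take 380) ((data.drop 1520).take 380) = true := by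
  decide +kernel

theorem check_part5 : checkAll x Y ((forms es cs hs).drop 1900) (data.drop 1900) = true := by
  decide +kernel

theorem all_check : checkAll x Y (forms es cs hs) data = true := by
  refine checkAll_take_drop 380 _ _ check_part0 ?_
  refine checkAll_take_drop 380 _ _ check_part1 ?_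
  try simp only [List.drop_drop]
  refine checkAll_take_drop 380 _ _ check_part2 ?_
  try simp only [List.drop_drop]
  refine checkAll_take_drop 380 _ _ check_part3 ?_
  try simp only [List.drop_drop]
  refine checkAll_take_drop 380 _ _ check_part4 ?_
  try simp only [List.drop_drop]
  exact check_part5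

end CfsgLib.SpFourCover.Five
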