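import Cfsg.Agent.SpFourCover.Small

/-!
The certificates over the field with 3 elements (found by search, checked by the kernel).
-/

set_option autoImplicit false
set_option maxHeartbeats 2000000
set_option maxRecDepth 200000

namespace CfsgLib.SpFourCover.Three


local instance fact_prime : Fact (Nat.Prime 3) := ⟨by decide⟩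

/-- The element whose class is squared. -/
def x : M4 (ZMod 3) := ⟨0, 2, 2, 0, 1, 0, 1, 1, 2, 2, 1, 1, 1, 1, 0, 1⟩

/-- Left factors. -/
def Y0 : List (M4 (ZMod 3) × M4 (ZMod 3)) := [
  (⟨0, 0, 2, 1, 2, 2, 1, 0, 1, 0, 0, 2, 0, 0, 0, 2⟩, ⟨2, 1, 0, 2, 2, 0, 1, 1, 0, 2, 1, 0, 1, 1, 0, 2⟩),
  (⟨1, 1, 0, 2, 0, 2, 1, 0, 2, 1, 2, 1, 1, 2, 0, 1⟩, ⟨1, 1, 1, 0, 1, 2, 2, 2, 0, 0, 2, 2, 1, 2, 1, 0⟩),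
  (⟨2, 2, 1, 1, 2, 1, 1, 2, 2, 2, 2, 2, 1, 2, 0, 0⟩, ⟨2, 0, 1, 2, 0, 1, 1, 1, 2, 1, 1, 0, 2, 1, 2, 1⟩),
  (⟨1, 0, 1, 2, 2, 2, 0, 2, 0, 2, 2, 0, 2, 1, 1, 2⟩, ⟨2, 1, 2, 0, 0, 0, 2, 2, 1, 2, 2, 2, 2, 2, 0, 1⟩),
  (⟨0, 1, 0, 0, 2, 1, 2, 0, 0, 0, 1, 1, 2, 1, 1, 0⟩, ⟨1, 1, 1, 1, 1, 0, 0, 1, 0, 2, 2, 1, 0, 1, 2, 2⟩),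
  (⟨2, 0, 1, 1, 1, 0, 2, 1, 0, 1, 1, 2, 1, 1, 1, 0⟩, ⟨0, 2, 0, 1, 1, 1, 2, 2, 0, 2, 1, 0, 0, 0, 1, 0⟩),
  (⟨0, 0, 0, 1, 2, 0, 1, 2, 2, 2, 0, 2, 0, 0, 2, 1⟩, ⟨0, 0, 2, 0, 0, 1, 1, 2, 1, 2, 0, 2, 0, 0, 1, 1⟩),
  (⟨1, 1, 0, 2, 2, 1, 0, 2, 0, 2, 2, 0, 2, 0, 1, 2⟩, ⟨0, 2, 1, 1, 0, 2, 2, 1, 1, 0, 0, 1, 2, 1, 1, 0⟩),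
  (⟨2, 2, 1, 0, 0, 2, 1, 2, 0, 1, 1, 1, 1, 2, 2, 0⟩, ⟨1, 1, 1, 2, 2, 2, 1, 2, 1, 0, 0, 2, 2, 1, 2, 2⟩),
  (⟨1, 0, 2, 2, 0, 2, 1, 1, 2, 0, 2, 1, 0, 1, 2, 1⟩, ⟨0, 1, 0, 0, 1, 0, 2, 0, 1, 1, 2, 1, 2, 1, 2, 0⟩),
  (⟨1, 2, 2, 2, 2, 1, 0, 0, 0, 1, 0, 0, 2, 2, 2, 0⟩, ⟨0, 1, 1, 0, 2, 2, 0, 2, 2, 1, 1, 0, 2, 0, 0, 2⟩),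
  (⟨1, 1, 2, 0, 1, 2, 1, 1, 0, 0, 2, 2, 1, 2, 0, 2⟩, ⟨1, 1, 1, 0, 2, 0, 2, 0, 0, 2, 0, 1, 1, 2, 0, 1⟩),
  (⟨0, 1, 1, 0, 0, 0, 2, 0, 0, 2, 1, 1, 1, 1, 2, 1⟩, ⟨1, 1, 2, 0, 1, 2, 1, 1, 0, 0, 2, 2, 2, 1, 1, 0⟩),
  (⟨0, 1, 2, 2, 2, 2, 1, 2, 0, 2, 0, 2, 2, 2, 0, 2⟩, ⟨2, 2, 0, 0, 0, 1, 1, 2, 2, 1, 1, 1, 1, 1, 2, 1⟩),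
  (⟨1, 2, 0, 2, 2, 0, 2, 2, 1, 0, 1, 0, 2, 1, 2, 0⟩, ⟨0, 2, 1, 1, 0, 2, 0, 1, 2, 0, 0, 0, 1, 2, 0, 0⟩),
  (⟨1, 2, 0, 2, 0, 2, 0, 2, 0, 1, 1, 1, 2, 0, 2, 2⟩, ⟨1, 2, 1, 0, 2, 2, 0, 1, 1, 1, 2, 0, 0, 2, 0, 0⟩),
  (⟨2, 0, 1, 2, 1, 2, 1, 2, 1, 0, 1, 0, 2, 1, 2, 0⟩, ⟨2, 1, 2, 0, 1, 0, 1, 0, 2, 0, 2, 1, 1, 2, 2, 1⟩),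
  (⟨0, 0, 2, 1, 2, 2, 0, 2, 0, 2, 0, 2, 2, 2, 2, 2⟩, ⟨1, 1, 0, 0, 1, 0, 1, 2, 2, 0, 2, 2, 2, 2, 1, 2⟩),
  (⟨0, 0, 1, 1, 2, 1, 0, 2, 0, 2, 1, 2, 2, 1, 2, 2⟩, ⟨2, 2, 0, 1, 0, 2, 0, 1, 1, 0, 2, 0, 2, 0, 1, 2⟩),
  (⟨2, 1, 0, 2, 2, 0, 1, 1, 2, 1, 0, 0, 1, 0, 1, 1⟩, ⟨2, 1, 1, 1, 0, 2, 1, 0, 1, 0, 0, 2, 1, 2, 1, 1⟩),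
  (⟨1, 0, 2, 2, 0, 2, 1, 1, 1, 1, 2, 1, 2, 1, 0, 2⟩, ⟨0, 1, 0, 0, 0, 2, 2, 0, 1, 0, 0, 1, 1, 2, 2, 0⟩),
  (⟨2, 1, 0, 0, 0, 1, 0, 0, 2, 1, 2, 0, 0, 1, 1, 1⟩, ⟨0, 1, 2, 1, 2, 0, 0, 1, 2, 1, 2, 0, 1, 1, 1, 0⟩),
  (⟨0, 0, 2, 0, 0, 0, 2, 2, 1, 2, 2, 1, 0, 1, 0, 2⟩, ⟨0, 0, 1, 2, 2, 2, 0, 0, 2, 0, 1, 2, 1, 1, 0, 2⟩),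
  (⟨0, 0, 2, 1, 2, 2, 2, 2, 2, 1, 2, 1, 2, 2, 0, 0⟩, ⟨2, 2, 0, 2, 1, 2, 1, 1, 0, 2, 0, 1, 0, 2, 1, 1⟩),
  (⟨2, 0, 1, 2, 0, 2, 2, 1, 1, 0, 1, 1, 0, 2, 2, 0⟩, ⟨1, 2, 2, 2, 2, 1, 0, 0, 2, 2, 2, 2, 0, 1, 0, 1⟩),
  (⟨2, 0, 2, 0, 0, 0, 0, 1, 0, 0, 2, 0, 0, 2, 0, 2⟩, ⟨2, 0, 1, 1, 2, 0, 1, 2, 2, 1, 2, 2, 2, 2, 2, 1⟩),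
  (⟨0, 0, 0, 2, 2, 0, 0, 2, 1, 1, 1, 0, 1, 0, 2, 2⟩, ⟨0, 2, 2, 2, 2, 0, 0, 2, 0, 1, 1, 0, 1, 0, 2, 1⟩)]

/-- Left factors. -/
def Y : List (M4 (ZMod 3) × M4 (ZMod 3)) :=
  Y0

/-- Certificates. -/
def data0 : List (Cert (ZMod 3)) := [
  ⟨11, true, ⟨0, 2, 0, 1, 1, 2, 1, 1, 0, 2, 2, 0, 0, 0, 1, 0⟩⟩,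
  ⟨0, false, ⟨0, 1, 1, 0, 1, 1, 0, 1, 0, 1, 0, 1, 0, 0, 1, 0⟩⟩,
  ⟨0, true, ⟨0, 0, 2, 0, 0, 2, 0, 0, 1, 0, 2, 0, 0, 1, 0, 2⟩⟩,
  ⟨23, true, ⟨0, 0, 2, 1, 1, 1, 2, 0, 0, 2, 1, 2, 0, 0, 1, 0⟩⟩,
  ⟨4, false, ⟨0, 1, 1, 2, 1, 1, 2, 0, 0, 2, 1, 2, 0, 0, 1, 0⟩⟩,
  ⟨1, false, ⟨1, 1, 1, 1, 2, 2, 0, 1, 0, 1, 2, 0, 0, 1, 1, 0⟩⟩,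
  ⟨7, false, ⟨1, 2, 0, 0, 1, 2, 2, 2, 1, 1, 1, 0, 0, 1, 0, 0⟩⟩,
  ⟨0, false, ⟨0, 2, 0, 1, 1, 0, 1, 0, 0, 2, 0, 0, 0, 0, 1, 0⟩⟩,
  ⟨0, true, ⟨1, 2, 2, 1, 2, 0, 0, 2, 1, 0, 0, 0, 0, 1, 0, 2⟩⟩,
  ⟨4, false, ⟨2, 2, 2, 0, 1, 0, 2, 2, 0, 1, 2, 0, 0, 1, 0, 0⟩⟩,
  ⟨2, true, ⟨0, 0, 2, 1, 1, 1, 0, 2, 1, 0, 1, 2, 0, 0, 0, 1⟩⟩,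
  ⟨8, true, ⟨2, 1, 2, 2, 1, 0, 2, 1, 2, 1, 2, 0, 0, 0, 1, 1⟩⟩,
  ⟨1, false, ⟨2, 2, 1, 0, 1, 1, 0, 2, 0, 1, 2, 0, 0, 1, 0, 0⟩⟩,
  ⟨9, false, ⟨0, 0, 0, 1, 1, 0, 0, 2, 1, 2, 1, 1, 0, 0, 1, 1⟩⟩,
  ⟨3, true, ⟨0, 1, 2, 0, 2, 0, 2, 1, 2, 2, 0, 2, 0, 1, 1, 0⟩⟩,
  ⟨4, false, ⟨1, 2, 1, 0, 2, 0, 2, 0, 0, 1, 0, 2, 0, 1, 2, 2⟩⟩,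
  ⟨8, true, ⟨2, 1, 1, 1, 0, 1, 1, 2, 2, 1, 0, 1, 0, 0, 1, 1⟩⟩,
  ⟨2, false, ⟨1, 2, 1, 2, 1, 2, 0, 1, 2, 0, 2, 2, 1, 0, 1, 0⟩⟩,
  ⟨1, false, ⟨0, 0, 1, 1, 1, 2, 0, 1, 0, 2, 1, 2, 0, 0, 1, 0⟩⟩,
  ⟨1, false, ⟨1, 2, 2, 0, 2, 1, 0, 2, 0, 1, 0, 2, 0, 1, 2, 2⟩⟩,
  ⟨0, false, ⟨0, 0, 2, 0, 0, 2, 2, 0, 1, 2, 2, 1, 0, 1, 0, 2⟩⟩,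
  ⟨0, true, ⟨0, 1, 2, 0, 1, 2, 0, 2, 1, 0, 0, 0, 0, 1, 0, 0⟩⟩,
  ⟨1, false, ⟨0, 0, 1, 2, 2, 2, 1, 1, 1, 2, 0, 0, 0, 0, 1, 1⟩⟩,
  ⟨0, false, ⟨2, 1, 0, 2, 1, 1, 1, 0, 0, 1, 0, 0, 0, 1, 1, 0⟩⟩,
  ⟨0, true, ⟨0, 2, 0, 1, 1, 2, 1, 1, 0, 2, 2, 0, 0, 0, 1, 0⟩⟩,
  ⟨3, true, ⟨0, 0, 1, 0, 0, 1, 1, 1, 2, 1, 1, 0, 0, 1, 2, 2⟩⟩,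
  ⟨10, false, ⟨0, 2, 0, 2, 1, 2, 2, 2, 0, 2, 2, 1, 0, 0, 1, 0⟩⟩,
  ⟨5, true, ⟨0, 1, 0, 1, 1, 2, 2, 2, 0, 0, 1, 1, 0, 0, 1, 0⟩⟩,
  ⟨1, false, ⟨0, 0, 2, 0, 0, 1, 2, 2, 1, 1, 2, 1, 0, 1, 1, 0⟩⟩,
  ⟨3, true, ⟨0, 0, 1, 0, 0, 1, 1, 1, 2, 1, 1, 0, 0, 0, 1, 1⟩⟩,
  ⟨2, false, ⟨1, 2, 1, 2, 2, 2, 1, 1, 2, 0, 2, 2, 1, 0, 1, 0⟩⟩,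
  ⟨0, true, ⟨2, 0, 2, 0, 0, 1, 0, 1, 1, 0, 0, 0, 0, 1, 0, 2⟩⟩,
  ⟨1, false, ⟨1, 2, 0, 1, 1, 0, 2, 2, 1, 2, 0, 0, 0, 0, 1, 1⟩⟩,
  ⟨0, false, ⟨0, 1, 1, 1, 1, 2, 2, 0, 0, 2, 0, 0, 0, 0, 1, 0⟩⟩,
  ⟨0, false, ⟨2, 0, 1, 2, 1, 0, 2, 0, 0, 1, 0, 0, 0, 1, 1, 0⟩⟩,
  ⟨0, true, ⟨0, 1, 0, 1, 1, 1, 1, 1, 0, 2, 2, 0, 0, 0, 1, 0⟩⟩,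
  ⟨1, false, ⟨2, 2, 0, 0, 1, 1, 1, 2, 0, 1, 2, 0, 0, 1, 0, 0⟩⟩,
  ⟨2, true, ⟨0, 0, 2, 1, 1, 1, 0, 0, 1, 0, 1, 2, 0, 0, 0, 1⟩⟩,
  ⟨21, false, ⟨1, 2, 2, 0, 2, 2, 0, 2, 1, 2, 1, 1, 0, 0, 1, 1⟩⟩,
  ⟨2, false, ⟨0, 1, 0, 1, 0, 2, 2, 2, 1, 0, 1, 1, 1, 0, 1, 0⟩⟩,
  ⟨2, true, ⟨0, 0, 2, 0, 0, 1, 0, 0, 1, 0, 0, 0, 0, 0, 0, 1⟩⟩,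
  ⟨0, false, ⟨0, 2, 2, 1, 1, 2, 1, 2, 0, 1, 0, 1, 0, 0, 1, 0⟩⟩,
  ⟨0, true, ⟨1, 1, 1, 2, 1, 0, 2, 2, 1, 0, 2, 0, 0, 1, 0, 2⟩⟩,
  ⟨9, false, ⟨0, 0, 1, 0, 0, 1, 2, 2, 2, 0, 0, 1, 0, 0, 0, 1⟩⟩,
  ⟨3, true, ⟨0, 1, 2, 1, 1, 0, 1, 2, 0, 0, 0, 1, 0, 0, 1, 0⟩⟩,
  ⟨15, true, ⟨2, 1, 2, 0, 2, 2, 2, 0, 1, 2, 2, 2, 0, 0, 1, 1⟩⟩,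
  ⟨1, false, ⟨1, 1, 2, 1, 2, 2, 2, 1, 0, 1, 2, 0, 0, 1, 1, 0⟩⟩,
  ⟨7, true, ⟨0, 1, 2, 2, 1, 2, 0, 0, 0, 0, 1, 1, 0, 0, 1, 0⟩⟩,
  ⟨13, false, ⟨2, 1, 2, 0, 2, 1, 1, 2, 1, 1, 1, 1, 1, 0, 1, 0⟩⟩,
  ⟨26, true, ⟨1, 0, 2, 0, 1, 0, 2, 2, 2, 2, 2, 0, 0, 1, 0, 0⟩⟩,
  ⟨1, false, ⟨1, 2, 0, 0, 2, 1, 2, 2, 0, 1, 0, 2, 0, 1, 2, 2⟩⟩,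
  ⟨4, false, ⟨2, 0, 2, 0, 1, 1, 1, 2, 2, 1, 1, 0, 0, 1, 0, 0⟩⟩,
  ⟨22, true, ⟨2, 1, 2, 0, 2, 2, 1, 2, 2, 2, 2, 1, 1, 0, 1, 0⟩⟩,
  ⟨0, false, ⟨1, 0, 1, 0, 1, 2, 1, 0, 1, 2, 2, 1, 0, 1, 0, 2⟩⟩,
  ⟨0, true, ⟨1, 2, 2, 0, 2, 0, 0, 2, 1, 0, 0, 0, 0, 1, 0, 0⟩⟩,
  ⟨1, true, ⟨0, 1, 1, 0, 2, 2, 1, 2, 2, 2, 0, 0, 0, 1, 0, 0⟩⟩,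
  ⟨2, true, ⟨1, 1, 2, 1, 2, 2, 2, 1, 2, 0, 0, 2, 0, 1, 1, 0⟩⟩,
  ⟨0, true, ⟨1, 2, 0, 2, 1, 0, 0, 0, 2, 1, 0, 0, 0, 0, 1, 1⟩⟩,
  ⟨1, true, ⟨2, 2, 2, 2, 0, 2, 2, 0, 0, 0, 2, 0, 0, 1, 2, 2⟩⟩,
  ⟨0, true, ⟨2, 2, 2, 2, 0, 2, 0, 2, 2, 2, 1, 2, 0, 1, 1, 0⟩⟩,
  ⟨9, false, ⟨1, 1, 1, 0, 0, 2, 2, 1, 2, 1, 2, 1, 1, 0, 1, 0⟩⟩,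
  ⟨0, true, ⟨1, 0, 1, 0, 1, 2, 1, 2, 0, 2, 1, 0, 0, 1, 0, 0⟩⟩,
  ⟨2, true, ⟨0, 2, 0, 0, 1, 2, 1, 0, 2, 0, 1, 2, 0, 1, 1, 0⟩⟩,
  ⟨18, true, ⟨1, 2, 1, 2, 2, 2, 2, 2, 1, 2, 0, 0, 0, 0, 1, 1⟩⟩,
  ⟨15, true, ⟨0, 1, 2, 1, 1, 1, 2, 0, 0, 2, 0, 0, 0, 0, 1, 0⟩⟩,
  ⟨0, true, ⟨2, 0, 0, 1, 2, 2, 1, 1, 0, 2, 0, 1, 0, 1, 2, 2⟩⟩,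
  ⟨4, true, ⟨1, 2, 0, 1, 2, 2, 2, 0, 2, 1, 2, 0, 0, 0, 1, 1⟩⟩,
  ⟨0, true, ⟨2, 1, 2, 2, 2, 0, 0, 1, 0, 2, 1, 0, 0, 1, 1, 0⟩⟩,
  ⟨2, true, ⟨0, 2, 1, 0, 2, 2, 0, 1, 1, 0, 2, 1, 0, 1, 1, 0⟩⟩,
  ⟨20, false, ⟨2, 1, 1, 1, 0, 1, 1, 2, 1, 2, 1, 2, 0, 0, 1, 1⟩⟩,
  ⟨1, true, ⟨0, 0, 2, 0, 0, 2, 1, 2, 1, 2, 0, 1, 0, 1, 1, 0⟩⟩,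
  ⟨2, true, ⟨0, 0, 2, 2, 2, 1, 2, 2, 1, 0, 2, 1, 0, 0, 0, 1⟩⟩,
  ⟨0, true, ⟨0, 2, 1, 1, 1, 0, 1, 2, 0, 1, 2, 1, 0, 0, 1, 0⟩⟩,
  ⟨1, true, ⟨2, 2, 0, 0, 0, 2, 1, 2, 0, 0, 2, 0, 0, 1, 0, 0⟩⟩,
  ⟨15, false, ⟨1, 2, 1, 1, 2, 0, 1, 2, 1, 0, 2, 0, 0, 1, 0, 2⟩⟩,
  ⟨3, false, ⟨2, 1, 1, 1, 2, 2, 1, 2, 1, 2, 0, 1, 0, 0, 1, 1⟩⟩,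
  ⟨11, true, ⟨1, 0, 0, 1, 1, 0, 0, 0, 0, 2, 0, 0, 0, 1, 1, 0⟩⟩,
  ⟨7, true, ⟨2, 0, 2, 1, 2, 1, 1, 1, 0, 0, 2, 2, 0, 0, 0, 1⟩⟩,
  ⟨9, false, ⟨0, 0, 1, 0, 0, 0, 1, 2, 2, 2, 2, 0, 0, 1, 0, 0⟩⟩,
  ⟨1, true, ⟨2, 0, 1, 0, 1, 1, 2, 1, 2, 1, 0, 2, 0, 1, 0, 2⟩⟩,
  ⟨11, false, ⟨0, 1, 1, 2, 2, 2, 0, 0, 2, 0, 0, 0, 0, 1, 0, 2⟩⟩,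
  ⟨7, false, ⟨2, 1, 1, 2, 2, 2, 1, 1, 2, 1, 2, 1, 0, 0, 1, 1⟩⟩,
  ⟨5, true, ⟨1, 0, 1, 0, 2, 0, 2, 2, 0, 1, 1, 2, 0, 1, 0, 2⟩⟩,
  ⟨0, false, ⟨1, 1, 2, 1, 0, 0, 1, 2, 0, 0, 1, 0, 0, 1, 2, 2⟩⟩,
  ⟨1, false, ⟨2, 0, 1, 0, 0, 0, 0, 2, 2, 0, 0, 0, 0, 1, 0, 2⟩⟩,
  ⟨7, true, ⟨2, 0, 0, 2, 2, 1, 1, 1, 0, 0, 2, 2, 0, 0, 0, 1⟩⟩,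
  ⟨0, false, ⟨1, 0, 2, 0, 2, 0, 1, 2, 1, 1, 0, 0, 0, 1, 0, 0⟩⟩,
  ⟨10, true, ⟨2, 0, 0, 1, 1, 0, 0, 1, 0, 1, 1, 2, 0, 1, 2, 2⟩⟩,
  ⟨1, false, ⟨0, 1, 2, 2, 1, 1, 0, 1, 0, 1, 1, 0, 0, 0, 1, 0⟩⟩,
  ⟨2, false, ⟨0, 1, 2, 0, 1, 1, 1, 2, 1, 0, 1, 0, 0, 1, 0, 0⟩⟩]

/-- Certificates. -/
def data1 : List (Cert (ZMod 3)) := [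
  ⟨1, true, ⟨1, 1, 2, 1, 1, 2, 1, 0, 0, 2, 0, 0, 0, 1, 1, 0⟩⟩,
  ⟨11, false, ⟨1, 2, 2, 0, 2, 1, 0, 2, 0, 1, 0, 2, 0, 1, 2, 2⟩⟩,
  ⟨2, false, ⟨1, 2, 0, 0, 2, 1, 2, 2, 2, 2, 1, 0, 0, 1, 0, 0⟩⟩,
  ⟨5, false, ⟨0, 2, 0, 0, 1, 1, 2, 0, 0, 1, 1, 2, 0, 0, 1, 0⟩⟩,
  ⟨0, false, ⟨1, 1, 1, 0, 0, 0, 1, 2, 0, 0, 1, 0, 0, 1, 0, 0⟩⟩,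
  ⟨2, false, ⟨0, 0, 1, 0, 0, 1, 0, 2, 2, 0, 2, 0, 0, 1, 0, 0⟩⟩,
  ⟨4, true, ⟨2, 0, 1, 2, 0, 1, 1, 2, 1, 0, 1, 1, 0, 0, 0, 1⟩⟩,
  ⟨0, false, ⟨2, 2, 2, 1, 1, 2, 2, 0, 1, 2, 0, 1, 0, 1, 0, 2⟩⟩,
  ⟨11, false, ⟨1, 1, 1, 1, 2, 2, 0, 1, 0, 1, 2, 0, 0, 1, 1, 0⟩⟩,
  ⟨1, true, ⟨0, 2, 1, 1, 1, 1, 1, 1, 2, 1, 1, 2, 0, 1, 0, 2⟩⟩,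
  ⟨4, false, ⟨2, 2, 2, 2, 2, 0, 2, 0, 1, 0, 1, 2, 0, 1, 2, 2⟩⟩,
  ⟨1, true, ⟨0, 2, 1, 0, 1, 2, 0, 2, 0, 2, 0, 2, 0, 0, 1, 0⟩⟩,
  ⟨0, false, ⟨2, 1, 1, 2, 1, 0, 0, 1, 1, 2, 2, 2, 0, 0, 1, 1⟩⟩,
  ⟨4, false, ⟨2, 2, 2, 0, 1, 1, 0, 1, 1, 0, 1, 2, 1, 0, 1, 0⟩⟩,
  ⟨2, false, ⟨0, 0, 0, 2, 1, 0, 0, 2, 2, 1, 2, 0, 1, 0, 1, 0⟩⟩,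
  ⟨4, true, ⟨1, 0, 2, 1, 1, 2, 1, 0, 1, 2, 2, 1, 0, 1, 1, 0⟩⟩,
  ⟨7, false, ⟨0, 0, 2, 1, 2, 2, 1, 1, 2, 1, 2, 1, 0, 0, 1, 1⟩⟩,
  ⟨2, false, ⟨1, 0, 1, 1, 2, 2, 1, 2, 1, 2, 1, 0, 1, 0, 1, 0⟩⟩,
  ⟨0, false, ⟨2, 1, 1, 2, 0, 0, 2, 2, 2, 1, 0, 2, 0, 1, 1, 0⟩⟩,
  ⟨1, true, ⟨1, 0, 2, 1, 1, 0, 2, 0, 1, 2, 2, 1, 0, 1, 1, 0⟩⟩,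
  ⟨0, false, ⟨0, 0, 0, 1, 1, 0, 2, 2, 1, 2, 0, 2, 0, 0, 1, 1⟩⟩,
  ⟨14, true, ⟨2, 0, 1, 0, 2, 1, 1, 1, 0, 0, 2, 2, 0, 0, 0, 1⟩⟩,
  ⟨4, false, ⟨0, 2, 1, 1, 1, 1, 2, 1, 2, 0, 1, 0, 0, 1, 0, 2⟩⟩,
  ⟨8, false, ⟨1, 2, 1, 0, 0, 0, 2, 2, 2, 1, 0, 0, 0, 1, 2, 2⟩⟩,
  ⟨2, false, ⟨2, 0, 1, 2, 0, 0, 0, 2, 0, 0, 2, 0, 0, 1, 1, 0⟩⟩,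
  ⟨0, false, ⟨0, 2, 2, 0, 2, 2, 1, 2, 1, 2, 1, 0, 0, 1, 0, 0⟩⟩,
  ⟨1, false, ⟨1, 0, 0, 0, 0, 1, 0, 1, 2, 0, 1, 0, 0, 0, 0, 1⟩⟩,
  ⟨4, true, ⟨0, 2, 1, 1, 1, 0, 1, 2, 2, 1, 1, 2, 0, 1, 0, 2⟩⟩,
  ⟨1, false, ⟨1, 1, 1, 0, 1, 1, 2, 2, 1, 0, 2, 0, 0, 1, 0, 0⟩⟩,
  ⟨0, false, ⟨0, 0, 1, 2, 2, 2, 1, 2, 1, 2, 1, 0, 0, 0, 1, 1⟩⟩,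
  ⟨1, true, ⟨2, 0, 1, 2, 0, 1, 1, 0, 1, 0, 1, 1, 0, 0, 0, 1⟩⟩,
  ⟨1, false, ⟨2, 2, 2, 2, 2, 1, 1, 2, 1, 0, 1, 2, 0, 1, 2, 2⟩⟩,
  ⟨8, false, ⟨2, 2, 0, 2, 2, 0, 0, 0, 2, 1, 0, 0, 0, 1, 2, 2⟩⟩,
  ⟨0, false, ⟨0, 0, 2, 1, 1, 1, 1, 2, 1, 0, 1, 0, 0, 0, 0, 1⟩⟩,
  ⟨7, true, ⟨2, 2, 0, 2, 1, 0, 2, 1, 2, 0, 1, 1, 0, 1, 2, 2⟩⟩,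
  ⟨2, false, ⟨2, 1, 2, 2, 1, 1, 0, 1, 2, 2, 1, 1, 0, 1, 0, 2⟩⟩,
  ⟨4, false, ⟨0, 1, 2, 2, 1, 1, 2, 1, 0, 1, 1, 0, 0, 0, 1, 0⟩⟩,
  ⟨2, false, ⟨2, 0, 2, 0, 0, 0, 0, 2, 0, 0, 2, 0, 0, 1, 0, 2⟩⟩,
  ⟨8, false, ⟨1, 2, 1, 0, 0, 1, 2, 2, 0, 1, 0, 2, 1, 0, 1, 0⟩⟩,
  ⟨7, true, ⟨1, 1, 0, 2, 2, 0, 1, 2, 1, 2, 1, 1, 0, 1, 0, 2⟩⟩,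
  ⟨4, true, ⟨0, 1, 2, 2, 1, 2, 0, 0, 0, 1, 0, 0, 0, 0, 1, 0⟩⟩,
  ⟨4, false, ⟨2, 0, 1, 0, 0, 2, 0, 0, 2, 0, 0, 0, 0, 1, 0, 2⟩⟩,
  ⟨0, false, ⟨2, 0, 2, 2, 1, 2, 0, 0, 1, 1, 1, 1, 0, 1, 1, 0⟩⟩,
  ⟨0, false, ⟨1, 2, 1, 0, 0, 1, 2, 2, 2, 2, 2, 2, 1, 0, 1, 0⟩⟩,
  ⟨7, false, ⟨1, 0, 1, 2, 0, 0, 0, 2, 1, 0, 2, 2, 0, 1, 2, 2⟩⟩,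
  ⟨5, true, ⟨0, 0, 1, 0, 0, 1, 2, 0, 2, 0, 0, 1, 0, 0, 0, 1⟩⟩,
  ⟨3, false, ⟨0, 0, 1, 0, 0, 1, 0, 1, 2, 2, 2, 2, 0, 1, 2, 2⟩⟩,
  ⟨13, false, ⟨1, 0, 2, 1, 1, 2, 1, 0, 0, 2, 0, 0, 0, 1, 1, 0⟩⟩,
  ⟨0, true, ⟨0, 0, 1, 0, 0, 1, 0, 1, 2, 2, 0, 2, 0, 1, 2, 2⟩⟩,
  ⟨1, true, ⟨1, 2, 0, 1, 1, 0, 1, 1, 2, 1, 0, 1, 0, 0, 1, 1⟩⟩,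
  ⟨0, true, ⟨2, 2, 0, 0, 1, 0, 1, 2, 1, 2, 2, 0, 0, 1, 0, 0⟩⟩,
  ⟨16, true, ⟨1, 1, 2, 0, 1, 1, 0, 2, 0, 2, 1, 0, 0, 1, 0, 0⟩⟩,
  ⟨0, true, ⟨0, 0, 1, 0, 0, 1, 2, 2, 2, 2, 0, 2, 0, 1, 1, 0⟩⟩,
  ⟨9, false, ⟨0, 2, 1, 0, 1, 0, 2, 2, 0, 1, 2, 2, 0, 0, 1, 0⟩⟩,
  ⟨1, true, ⟨1, 0, 2, 0, 2, 1, 1, 2, 2, 1, 2, 0, 0, 1, 0, 0⟩⟩,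
  ⟨1, true, ⟨2, 1, 2, 2, 1, 1, 2, 0, 2, 2, 2, 2, 0, 1, 1, 0⟩⟩,
  ⟨7, false, ⟨0, 1, 0, 1, 1, 1, 0, 1, 2, 1, 2, 2, 1, 0, 1, 0⟩⟩,
  ⟨0, true, ⟨0, 2, 2, 1, 1, 0, 0, 1, 2, 1, 1, 0, 0, 1, 2, 2⟩⟩,
  ⟨11, false, ⟨2, 0, 2, 1, 2, 1, 1, 0, 2, 0, 1, 0, 0, 0, 0, 1⟩⟩,
  ⟨0, true, ⟨1, 2, 1, 2, 1, 0, 0, 2, 0, 0, 0, 2, 1, 0, 1, 0⟩⟩,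
  ⟨3, false, ⟨2, 0, 0, 0, 0, 2, 0, 0, 2, 0, 2, 0, 0, 1, 0, 2⟩⟩,
  ⟨0, true, ⟨0, 0, 1, 2, 1, 1, 1, 1, 2, 0, 0, 2, 0, 0, 0, 1⟩⟩,
  ⟨1, true, ⟨1, 0, 1, 2, 2, 1, 1, 2, 1, 1, 1, 1, 1, 0, 1, 0⟩⟩,
  ⟨7, true, ⟨1, 2, 1, 0, 1, 0, 2, 1, 2, 0, 1, 1, 0, 1, 2, 2⟩⟩,
  ⟨4, true, ⟨2, 1, 1, 0, 1, 0, 1, 2, 2, 1, 1, 1, 0, 0, 1, 1⟩⟩,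
  ⟨3, false, ⟨1, 0, 0, 2, 1, 1, 2, 0, 2, 2, 2, 2, 0, 1, 2, 2⟩⟩,
  ⟨1, true, ⟨1, 0, 2, 2, 1, 1, 1, 1, 2, 0, 2, 0, 0, 0, 0, 1⟩⟩,
  ⟨7, true, ⟨2, 2, 2, 2, 0, 2, 2, 0, 1, 2, 1, 1, 1, 0, 1, 0⟩⟩,
  ⟨1, true, ⟨1, 2, 0, 1, 2, 2, 0, 1, 2, 1, 2, 0, 0, 0, 1, 1⟩⟩,
  ⟨4, true, ⟨0, 1, 1, 0, 2, 1, 1, 2, 2, 2, 0, 0, 0, 1, 0, 0⟩⟩,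
  ⟨2, true, ⟨2, 2, 1, 0, 2, 0, 2, 2, 2, 1, 0, 0, 0, 1, 0, 0⟩⟩,
  ⟨4, true, ⟨2, 0, 1, 0, 1, 0, 2, 2, 2, 1, 0, 2, 0, 1, 0, 2⟩⟩,
  ⟨11, false, ⟨0, 2, 2, 0, 2, 0, 1, 2, 1, 0, 2, 0, 0, 1, 0, 0⟩⟩,
  ⟨0, true, ⟨0, 1, 0, 0, 0, 1, 2, 0, 2, 0, 2, 1, 1, 0, 1, 0⟩⟩,
  ⟨13, false, ⟨2, 0, 0, 0, 0, 1, 0, 2, 0, 0, 2, 0, 0, 0, 0, 1⟩⟩,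
  ⟨0, false, ⟨2, 2, 0, 2, 2, 2, 1, 1, 2, 1, 1, 2, 0, 1, 1, 0⟩⟩,
  ⟨3, true, ⟨2, 0, 0, 2, 2, 1, 1, 1, 2, 2, 1, 2, 0, 1, 1, 0⟩⟩,
  ⟨1, false, ⟨0, 0, 1, 0, 0, 2, 2, 2, 2, 1, 1, 0, 0, 1, 0, 0⟩⟩,
  ⟨2, true, ⟨1, 0, 1, 0, 2, 1, 2, 2, 0, 1, 1, 0, 0, 1, 0, 0⟩⟩,
  ⟨2, true, ⟨0, 2, 1, 1, 1, 2, 1, 0, 0, 1, 1, 1, 0, 0, 1, 0⟩⟩,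
  ⟨0, false, ⟨1, 0, 2, 0, 1, 1, 2, 1, 2, 0, 2, 2, 0, 0, 0, 1⟩⟩,
  ⟨0, true, ⟨2, 1, 2, 0, 2, 1, 1, 2, 2, 0, 1, 0, 0, 1, 0, 0⟩⟩,
  ⟨0, true, ⟨1, 0, 2, 2, 0, 1, 2, 1, 2, 0, 2, 1, 0, 1, 2, 2⟩⟩,
  ⟨5, false, ⟨1, 1, 2, 2, 1, 1, 0, 1, 2, 1, 2, 2, 0, 1, 0, 2⟩⟩,
  ⟨0, false, ⟨2, 1, 2, 1, 2, 2, 0, 0, 1, 2, 2, 1, 0, 0, 1, 1⟩⟩,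
  ⟨12, true, ⟨2, 0, 0, 1, 0, 1, 2, 1, 0, 0, 2, 0, 0, 1, 2, 2⟩⟩,
  ⟨7, true, ⟨2, 1, 1, 2, 1, 2, 1, 0, 0, 1, 2, 2, 0, 1, 0, 2⟩⟩,
  ⟨1, false, ⟨1, 0, 2, 0, 2, 1, 1, 0, 1, 0, 0, 1, 0, 0, 0, 1⟩⟩,
  ⟨3, true, ⟨0, 2, 2, 1, 1, 1, 0, 0, 0, 1, 2, 1, 0, 0, 1, 0⟩⟩,
  ⟨1, false, ⟨1, 2, 0, 1, 1, 0, 0, 0, 1, 1, 0, 1, 0, 1, 1, 0⟩⟩]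

/-- Certificates. -/
def data2 : List (Cert (ZMod 3)) := [
  ⟨5, true, ⟨1, 2, 1, 2, 2, 0, 1, 2, 1, 2, 1, 1, 1, 0, 1, 0⟩⟩,
  ⟨9, false, ⟨0, 2, 0, 1, 0, 2, 2, 1, 2, 1, 2, 1, 1, 0, 1, 0⟩⟩,
  ⟨1, false, ⟨1, 2, 1, 0, 1, 0, 2, 1, 1, 1, 0, 1, 0, 1, 2, 2⟩⟩,
  ⟨2, true, ⟨2, 1, 2, 0, 2, 0, 1, 2, 0, 2, 2, 0, 0, 1, 0, 0⟩⟩,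
  ⟨3, true, ⟨2, 1, 2, 0, 2, 1, 1, 2, 0, 2, 0, 1, 0, 1, 2, 2⟩⟩,
  ⟨7, false, ⟨0, 0, 1, 0, 0, 1, 0, 2, 2, 1, 2, 2, 0, 0, 1, 1⟩⟩,
  ⟨8, true, ⟨0, 0, 1, 0, 0, 2, 2, 0, 2, 1, 0, 2, 0, 1, 0, 2⟩⟩,
  ⟨2, false, ⟨1, 0, 0, 1, 0, 0, 0, 2, 1, 0, 1, 1, 0, 1, 1, 0⟩⟩,
  ⟨0, false, ⟨1, 1, 1, 1, 0, 2, 2, 0, 0, 2, 0, 0, 1, 0, 1, 0⟩⟩,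
  ⟨0, true, ⟨2, 0, 0, 2, 2, 1, 1, 1, 1, 0, 2, 0, 0, 0, 0, 1⟩⟩,
  ⟨0, false, ⟨0, 1, 0, 0, 0, 1, 2, 0, 2, 0, 2, 1, 1, 0, 1, 0⟩⟩,
  ⟨13, true, ⟨2, 0, 0, 0, 0, 1, 0, 2, 0, 0, 2, 0, 0, 0, 0, 1⟩⟩,
  ⟨0, true, ⟨2, 2, 0, 2, 2, 2, 1, 1, 2, 1, 1, 2, 0, 1, 1, 0⟩⟩,
  ⟨2, false, ⟨0, 2, 1, 1, 1, 2, 1, 0, 0, 1, 1, 1, 0, 0, 1, 0⟩⟩,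
  ⟨0, true, ⟨1, 0, 2, 0, 1, 1, 2, 1, 2, 0, 2, 2, 0, 0, 0, 1⟩⟩,
  ⟨0, false, ⟨2, 1, 2, 0, 2, 1, 1, 2, 2, 0, 1, 0, 0, 1, 0, 0⟩⟩,
  ⟨3, false, ⟨2, 0, 0, 2, 2, 1, 1, 1, 2, 2, 1, 2, 0, 1, 1, 0⟩⟩,
  ⟨1, true, ⟨0, 0, 1, 0, 0, 2, 2, 2, 2, 1, 1, 0, 0, 1, 0, 0⟩⟩,
  ⟨2, false, ⟨1, 0, 1, 0, 2, 1, 2, 2, 0, 1, 1, 0, 0, 1, 0, 0⟩⟩,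
  ⟨9, true, ⟨0, 2, 0, 1, 0, 2, 2, 1, 2, 1, 2, 1, 1, 0, 1, 0⟩⟩,
  ⟨1, true, ⟨1, 2, 1, 0, 1, 0, 2, 1, 1, 1, 0, 1, 0, 1, 2, 2⟩⟩,
  ⟨2, false, ⟨2, 1, 2, 0, 2, 0, 1, 2, 0, 2, 2, 0, 0, 1, 0, 0⟩⟩,
  ⟨2, true, ⟨1, 0, 0, 1, 0, 0, 0, 2, 1, 0, 1, 1, 0, 1, 1, 0⟩⟩,
  ⟨0, true, ⟨1, 1, 1, 1, 0, 2, 2, 0, 0, 2, 0, 0, 1, 0, 1, 0⟩⟩,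
  ⟨0, false, ⟨2, 0, 0, 2, 2, 1, 1, 1, 1, 0, 2, 0, 0, 0, 0, 1⟩⟩,
  ⟨3, false, ⟨2, 1, 2, 0, 2, 1, 1, 2, 0, 2, 0, 1, 0, 1, 2, 2⟩⟩,
  ⟨7, true, ⟨0, 0, 1, 0, 0, 1, 0, 2, 2, 1, 2, 2, 0, 0, 1, 1⟩⟩,
  ⟨8, false, ⟨0, 0, 1, 0, 0, 2, 2, 0, 2, 1, 0, 2, 0, 1, 0, 2⟩⟩,
  ⟨0, false, ⟨1, 0, 2, 2, 0, 1, 2, 1, 2, 0, 2, 1, 0, 1, 2, 2⟩⟩,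
  ⟨5, true, ⟨1, 1, 2, 2, 1, 1, 0, 1, 2, 1, 2, 2, 0, 1, 0, 2⟩⟩,
  ⟨0, true, ⟨2, 1, 2, 1, 2, 2, 0, 0, 1, 2, 2, 1, 0, 0, 1, 1⟩⟩,
  ⟨3, false, ⟨0, 2, 2, 1, 1, 1, 0, 0, 0, 1, 2, 1, 0, 0, 1, 0⟩⟩,
  ⟨1, true, ⟨1, 2, 0, 1, 1, 0, 0, 0, 1, 1, 0, 1, 0, 1, 1, 0⟩⟩,
  ⟨5, false, ⟨1, 2, 1, 2, 2, 0, 1, 2, 1, 2, 1, 1, 1, 0, 1, 0⟩⟩,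
  ⟨12, false, ⟨2, 0, 0, 1, 0, 1, 2, 1, 0, 0, 2, 0, 0, 1, 2, 2⟩⟩,
  ⟨7, false, ⟨2, 1, 1, 2, 1, 2, 1, 0, 0, 1, 2, 2, 0, 1, 0, 2⟩⟩,
  ⟨1, true, ⟨1, 0, 2, 0, 2, 1, 1, 0, 1, 0, 0, 1, 0, 0, 0, 1⟩⟩,
  ⟨1, true, ⟨2, 0, 2, 0, 1, 2, 1, 2, 2, 1, 1, 0, 0, 1, 0, 0⟩⟩,
  ⟨3, false, ⟨2, 1, 2, 0, 0, 2, 0, 0, 1, 2, 0, 0, 0, 1, 2, 2⟩⟩,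
  ⟨8, false, ⟨1, 0, 0, 0, 0, 0, 0, 2, 1, 0, 1, 0, 0, 1, 0, 2⟩⟩,
  ⟨2, true, ⟨1, 2, 1, 1, 2, 0, 1, 2, 2, 2, 0, 1, 0, 1, 0, 2⟩⟩,
  ⟨0, true, ⟨2, 0, 2, 1, 1, 1, 0, 0, 0, 2, 0, 0, 1, 0, 1, 0⟩⟩,
  ⟨0, false, ⟨0, 0, 2, 0, 0, 1, 0, 2, 1, 0, 2, 0, 0, 0, 0, 1⟩⟩,
  ⟨8, false, ⟨0, 0, 2, 0, 0, 2, 2, 0, 1, 1, 1, 1, 0, 1, 2, 2⟩⟩,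
  ⟨0, true, ⟨1, 1, 2, 1, 1, 1, 0, 0, 2, 1, 1, 2, 0, 1, 1, 0⟩⟩,
  ⟨0, false, ⟨0, 1, 0, 1, 0, 1, 2, 1, 2, 0, 2, 1, 1, 0, 1, 0⟩⟩,
  ⟨23, false, ⟨1, 1, 1, 1, 0, 0, 1, 2, 1, 1, 2, 1, 0, 1, 1, 0⟩⟩,
  ⟨0, true, ⟨0, 0, 2, 0, 0, 1, 0, 2, 1, 2, 2, 1, 0, 0, 1, 1⟩⟩,
  ⟨0, false, ⟨0, 1, 0, 2, 2, 2, 0, 1, 2, 0, 2, 1, 0, 1, 2, 2⟩⟩,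
  ⟨1, true, ⟨2, 0, 2, 0, 1, 1, 1, 0, 1, 0, 0, 1, 0, 0, 0, 1⟩⟩,
  ⟨2, false, ⟨0, 1, 0, 2, 1, 1, 1, 2, 0, 2, 2, 2, 0, 0, 1, 0⟩⟩,
  ⟨7, true, ⟨0, 0, 2, 0, 0, 0, 0, 2, 1, 0, 2, 2, 0, 1, 2, 2⟩⟩,
  ⟨3, false, ⟨2, 1, 2, 0, 2, 1, 1, 2, 0, 2, 0, 1, 1, 0, 1, 0⟩⟩,
  ⟨0, true, ⟨0, 0, 1, 0, 0, 1, 1, 1, 2, 0, 2, 2, 0, 0, 0, 1⟩⟩,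
  ⟨0, false, ⟨1, 2, 0, 0, 1, 2, 2, 2, 2, 0, 1, 0, 0, 1, 0, 0⟩⟩,
  ⟨3, false, ⟨0, 1, 1, 2, 1, 2, 2, 2, 1, 2, 0, 0, 0, 1, 2, 2⟩⟩,
  ⟨10, true, ⟨2, 0, 2, 2, 2, 2, 1, 1, 1, 1, 1, 0, 1, 0, 1, 0⟩⟩,
  ⟨4, true, ⟨1, 2, 0, 0, 2, 0, 0, 0, 0, 1, 0, 2, 0, 1, 2, 2⟩⟩,
  ⟨5, true, ⟨2, 2, 2, 0, 1, 2, 0, 1, 1, 2, 1, 2, 1, 0, 1, 0⟩⟩,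
  ⟨4, true, ⟨2, 2, 0, 0, 1, 0, 1, 2, 0, 1, 2, 0, 0, 1, 0, 0⟩⟩,
  ⟨9, true, ⟨0, 1, 0, 0, 1, 1, 1, 0, 0, 2, 2, 1, 0, 0, 1, 0⟩⟩,
  ⟨8, false, ⟨2, 0, 0, 1, 1, 2, 1, 2, 1, 1, 1, 1, 0, 1, 2, 2⟩⟩,
  ⟨2, true, ⟨2, 1, 1, 2, 2, 1, 0, 1, 2, 0, 2, 2, 0, 1, 1, 0⟩⟩,
  ⟨2, false, ⟨0, 2, 1, 1, 1, 2, 2, 0, 0, 1, 1, 1, 0, 0, 1, 0⟩⟩,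
  ⟨3, true, ⟨0, 0, 1, 0, 0, 1, 0, 1, 2, 2, 2, 2, 0, 1, 2, 2⟩⟩,
  ⟨13, true, ⟨1, 0, 2, 1, 1, 2, 1, 0, 0, 2, 0, 0, 0, 1, 1, 0⟩⟩,
  ⟨0, false, ⟨0, 0, 1, 0, 0, 1, 0, 1, 2, 2, 0, 2, 0, 1, 2, 2⟩⟩,
  ⟨0, false, ⟨0, 0, 1, 0, 0, 1, 2, 2, 2, 2, 0, 2, 0, 1, 1, 0⟩⟩,
  ⟨9, true, ⟨0, 2, 1, 0, 1, 0, 2, 2, 0, 1, 2, 2, 0, 0, 1, 0⟩⟩,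
  ⟨1, false, ⟨1, 0, 2, 0, 2, 1, 1, 2, 2, 1, 2, 0, 0, 1, 0, 0⟩⟩,
  ⟨1, false, ⟨1, 2, 0, 1, 1, 0, 1, 1, 2, 1, 0, 1, 0, 0, 1, 1⟩⟩,
  ⟨0, false, ⟨2, 2, 0, 0, 1, 0, 1, 2, 1, 2, 2, 0, 0, 1, 0, 0⟩⟩,
  ⟨16, false, ⟨1, 1, 2, 0, 1, 1, 0, 2, 0, 2, 1, 0, 0, 1, 0, 0⟩⟩,
  ⟨4, false, ⟨2, 1, 1, 0, 1, 0, 1, 2, 2, 1, 1, 1, 0, 0, 1, 1⟩⟩,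
  ⟨3, true, ⟨1, 0, 0, 2, 1, 1, 2, 0, 2, 2, 2, 2, 0, 1, 2, 2⟩⟩,
  ⟨1, false, ⟨1, 0, 2, 2, 1, 1, 1, 1, 2, 0, 2, 0, 0, 0, 0, 1⟩⟩,
  ⟨2, false, ⟨2, 2, 1, 0, 2, 0, 2, 2, 2, 1, 0, 0, 0, 1, 0, 0⟩⟩,
  ⟨4, false, ⟨2, 0, 1, 0, 1, 0, 2, 2, 2, 1, 0, 2, 0, 1, 0, 2⟩⟩,
  ⟨11, true, ⟨0, 2, 2, 0, 2, 0, 1, 2, 1, 0, 2, 0, 0, 1, 0, 0⟩⟩,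
  ⟨7, false, ⟨2, 2, 2, 2, 0, 2, 2, 0, 1, 2, 1, 1, 1, 0, 1, 0⟩⟩,
  ⟨1, false, ⟨1, 2, 0, 1, 2, 2, 0, 1, 2, 1, 2, 0, 0, 0, 1, 1⟩⟩,
  ⟨4, false, ⟨0, 1, 1, 0, 2, 1, 1, 2, 2, 2, 0, 0, 0, 1, 0, 0⟩⟩,
  ⟨1, false, ⟨2, 1, 2, 2, 1, 1, 2, 0, 2, 2, 2, 2, 0, 1, 1, 0⟩⟩,
  ⟨7, true, ⟨0, 1, 0, 1, 1, 1, 0, 1, 2, 1, 2, 2, 1, 0, 1, 0⟩⟩,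
  ⟨0, false, ⟨0, 2, 2, 1, 1, 0, 0, 1, 2, 1, 1, 0, 0, 1, 2, 2⟩⟩,
  ⟨0, false, ⟨0, 0, 1, 2, 1, 1, 1, 1, 2, 0, 0, 2, 0, 0, 0, 1⟩⟩,
  ⟨1, false, ⟨1, 0, 1, 2, 2, 1, 1, 2, 1, 1, 1, 1, 1, 0, 1, 0⟩⟩,
  ⟨7, false, ⟨1, 2, 1, 0, 1, 0, 2, 1, 2, 0, 1, 1, 0, 1, 2, 2⟩⟩,
  ⟨11, true, ⟨2, 0, 2, 1, 2, 1, 1, 0, 2, 0, 1, 0, 0, 0, 0, 1⟩⟩,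
  ⟨0, false, ⟨1, 2, 1, 2, 1, 0, 0, 2, 0, 0, 0, 2, 1, 0, 1, 0⟩⟩]

/-- Certificates. -/
def data3 : List (Cert (ZMod 3)) := [
  ⟨3, true, ⟨2, 0, 0, 0, 0, 2, 0, 0, 2, 0, 2, 0, 0, 1, 0, 2⟩⟩,
  ⟨1, false, ⟨1, 0, 2, 1, 1, 0, 2, 0, 1, 2, 2, 1, 0, 1, 1, 0⟩⟩,
  ⟨0, true, ⟨0, 0, 0, 1, 1, 0, 2, 2, 1, 2, 0, 2, 0, 0, 1, 1⟩⟩,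
  ⟨14, false, ⟨2, 0, 1, 0, 2, 1, 1, 1, 0, 0, 2, 2, 0, 0, 0, 1⟩⟩,
  ⟨0, true, ⟨0, 2, 2, 0, 2, 2, 1, 2, 1, 2, 1, 0, 0, 1, 0, 0⟩⟩,
  ⟨1, true, ⟨1, 0, 0, 0, 0, 1, 0, 1, 2, 0, 1, 0, 0, 0, 0, 1⟩⟩,
  ⟨4, false, ⟨0, 2, 1, 1, 1, 0, 1, 2, 2, 1, 1, 2, 0, 1, 0, 2⟩⟩,
  ⟨4, true, ⟨0, 2, 1, 1, 1, 1, 2, 1, 2, 0, 1, 0, 0, 1, 0, 2⟩⟩,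
  ⟨8, true, ⟨1, 2, 1, 0, 0, 0, 2, 2, 2, 1, 0, 0, 0, 1, 2, 2⟩⟩,
  ⟨2, true, ⟨2, 0, 1, 2, 0, 0, 0, 2, 0, 0, 2, 0, 0, 1, 1, 0⟩⟩,
  ⟨2, true, ⟨2, 0, 2, 0, 0, 0, 0, 2, 0, 0, 2, 0, 0, 1, 0, 2⟩⟩,
  ⟨8, true, ⟨1, 2, 1, 0, 0, 1, 2, 2, 0, 1, 0, 2, 1, 0, 1, 0⟩⟩,
  ⟨7, false, ⟨1, 1, 0, 2, 2, 0, 1, 2, 1, 2, 1, 1, 0, 1, 0, 2⟩⟩,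
  ⟨0, true, ⟨1, 2, 1, 0, 0, 1, 2, 2, 2, 2, 2, 2, 1, 0, 1, 0⟩⟩,
  ⟨7, true, ⟨1, 0, 1, 2, 0, 0, 0, 2, 1, 0, 2, 2, 0, 1, 2, 2⟩⟩,
  ⟨5, false, ⟨0, 0, 1, 0, 0, 1, 2, 0, 2, 0, 0, 1, 0, 0, 0, 1⟩⟩,
  ⟨4, false, ⟨0, 1, 2, 2, 1, 2, 0, 0, 0, 1, 0, 0, 0, 0, 1, 0⟩⟩,
  ⟨4, true, ⟨2, 0, 1, 0, 0, 2, 0, 0, 2, 0, 0, 0, 0, 1, 0, 2⟩⟩,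
  ⟨0, true, ⟨2, 0, 2, 2, 1, 2, 0, 0, 1, 1, 1, 1, 0, 1, 1, 0⟩⟩,
  ⟨1, true, ⟨1, 1, 1, 0, 1, 1, 2, 2, 1, 0, 2, 0, 0, 1, 0, 0⟩⟩,
  ⟨0, true, ⟨0, 0, 1, 2, 2, 2, 1, 2, 1, 2, 1, 0, 0, 0, 1, 1⟩⟩,
  ⟨1, false, ⟨2, 0, 1, 2, 0, 1, 1, 0, 1, 0, 1, 1, 0, 0, 0, 1⟩⟩,
  ⟨7, false, ⟨2, 2, 0, 2, 1, 0, 2, 1, 2, 0, 1, 1, 0, 1, 2, 2⟩⟩,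
  ⟨2, true, ⟨2, 1, 2, 2, 1, 1, 0, 1, 2, 2, 1, 1, 0, 1, 0, 2⟩⟩,
  ⟨4, true, ⟨0, 1, 2, 2, 1, 1, 2, 1, 0, 1, 1, 0, 0, 0, 1, 0⟩⟩,
  ⟨1, true, ⟨2, 2, 2, 2, 2, 1, 1, 2, 1, 0, 1, 2, 0, 1, 2, 2⟩⟩,
  ⟨8, true, ⟨2, 2, 0, 2, 2, 0, 0, 0, 2, 1, 0, 0, 0, 1, 2, 2⟩⟩,
  ⟨0, true, ⟨0, 0, 2, 1, 1, 1, 1, 2, 1, 0, 1, 0, 0, 0, 0, 1⟩⟩,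
  ⟨5, false, ⟨1, 0, 1, 0, 2, 0, 2, 2, 0, 1, 1, 2, 0, 1, 0, 2⟩⟩,
  ⟨0, true, ⟨1, 1, 2, 1, 0, 0, 1, 2, 0, 0, 1, 0, 0, 1, 2, 2⟩⟩,
  ⟨1, true, ⟨2, 0, 1, 0, 0, 0, 0, 2, 2, 0, 0, 0, 0, 1, 0, 2⟩⟩,
  ⟨1, true, ⟨0, 1, 2, 2, 1, 1, 0, 1, 0, 1, 1, 0, 0, 0, 1, 0⟩⟩,
  ⟨2, true, ⟨0, 1, 2, 0, 1, 1, 1, 2, 1, 0, 1, 0, 0, 1, 0, 0⟩⟩,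
  ⟨1, false, ⟨1, 1, 2, 1, 1, 2, 1, 0, 0, 2, 0, 0, 0, 1, 1, 0⟩⟩,
  ⟨7, false, ⟨2, 0, 0, 2, 2, 1, 1, 1, 0, 0, 2, 2, 0, 0, 0, 1⟩⟩,
  ⟨0, true, ⟨1, 0, 2, 0, 2, 0, 1, 2, 1, 1, 0, 0, 0, 1, 0, 0⟩⟩,
  ⟨10, false, ⟨2, 0, 0, 1, 1, 0, 0, 1, 0, 1, 1, 2, 0, 1, 2, 2⟩⟩,
  ⟨4, true, ⟨2, 2, 2, 2, 2, 0, 2, 0, 1, 0, 1, 2, 0, 1, 2, 2⟩⟩,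
  ⟨1, false, ⟨0, 2, 1, 0, 1, 2, 0, 2, 0, 2, 0, 2, 0, 0, 1, 0⟩⟩,
  ⟨0, true, ⟨2, 1, 1, 2, 1, 0, 0, 1, 1, 2, 2, 2, 0, 0, 1, 1⟩⟩,
  ⟨7, true, ⟨0, 0, 2, 1, 2, 2, 1, 1, 2, 1, 2, 1, 0, 0, 1, 1⟩⟩,
  ⟨2, true, ⟨1, 0, 1, 1, 2, 2, 1, 2, 1, 2, 1, 0, 1, 0, 1, 0⟩⟩,
  ⟨0, true, ⟨2, 1, 1, 2, 0, 0, 2, 2, 2, 1, 0, 2, 0, 1, 1, 0⟩⟩,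
  ⟨4, true, ⟨2, 2, 2, 0, 1, 1, 0, 1, 1, 0, 1, 2, 1, 0, 1, 0⟩⟩,
  ⟨2, true, ⟨0, 0, 0, 2, 1, 0, 0, 2, 2, 1, 2, 0, 1, 0, 1, 0⟩⟩,
  ⟨4, false, ⟨1, 0, 2, 1, 1, 2, 1, 0, 1, 2, 2, 1, 0, 1, 1, 0⟩⟩,
  ⟨11, true, ⟨1, 2, 2, 0, 2, 1, 0, 2, 0, 1, 0, 2, 0, 1, 2, 2⟩⟩,
  ⟨2, true, ⟨1, 2, 0, 0, 2, 1, 2, 2, 2, 2, 1, 0, 0, 1, 0, 0⟩⟩,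
  ⟨5, true, ⟨0, 2, 0, 0, 1, 1, 2, 0, 0, 1, 1, 2, 0, 0, 1, 0⟩⟩,
  ⟨0, true, ⟨2, 2, 2, 1, 1, 2, 2, 0, 1, 2, 0, 1, 0, 1, 0, 2⟩⟩,
  ⟨11, true, ⟨1, 1, 1, 1, 2, 2, 0, 1, 0, 1, 2, 0, 0, 1, 1, 0⟩⟩,
  ⟨1, false, ⟨0, 2, 1, 1, 1, 1, 1, 1, 2, 1, 1, 2, 0, 1, 0, 2⟩⟩,
  ⟨0, true, ⟨1, 1, 1, 0, 0, 0, 1, 2, 0, 0, 1, 0, 0, 1, 0, 0⟩⟩,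
  ⟨2, true, ⟨0, 0, 1, 0, 0, 1, 0, 2, 2, 0, 2, 0, 0, 1, 0, 0⟩⟩,
  ⟨4, false, ⟨2, 0, 1, 2, 0, 1, 1, 2, 1, 0, 1, 1, 0, 0, 0, 1⟩⟩,
  ⟨1, false, ⟨0, 1, 1, 0, 2, 2, 1, 2, 2, 2, 0, 0, 0, 1, 0, 0⟩⟩,
  ⟨2, false, ⟨1, 1, 2, 1, 2, 2, 2, 1, 2, 0, 0, 2, 0, 1, 1, 0⟩⟩,
  ⟨0, false, ⟨1, 2, 0, 2, 1, 0, 0, 0, 2, 1, 0, 0, 0, 0, 1, 1⟩⟩,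
  ⟨0, false, ⟨1, 0, 1, 0, 1, 2, 1, 2, 0, 2, 1, 0, 0, 1, 0, 0⟩⟩,
  ⟨2, false, ⟨0, 2, 0, 0, 1, 2, 1, 0, 2, 0, 1, 2, 0, 1, 1, 0⟩⟩,
  ⟨18, false, ⟨1, 2, 1, 2, 2, 2, 2, 2, 1, 2, 0, 0, 0, 0, 1, 1⟩⟩,
  ⟨1, false, ⟨2, 2, 2, 2, 0, 2, 2, 0, 0, 0, 2, 0, 0, 1, 2, 2⟩⟩,
  ⟨0, false, ⟨2, 2, 2, 2, 0, 2, 0, 2, 2, 2, 1, 2, 0, 1, 1, 0⟩⟩,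
  ⟨9, true, ⟨1, 1, 1, 0, 0, 2, 2, 1, 2, 1, 2, 1, 1, 0, 1, 0⟩⟩,
  ⟨1, false, ⟨2, 2, 0, 0, 0, 2, 1, 2, 0, 0, 2, 0, 0, 1, 0, 0⟩⟩,
  ⟨15, true, ⟨1, 2, 1, 1, 2, 0, 1, 2, 1, 0, 2, 0, 0, 1, 0, 2⟩⟩,
  ⟨3, true, ⟨2, 1, 1, 1, 2, 2, 1, 2, 1, 2, 0, 1, 0, 0, 1, 1⟩⟩,
  ⟨1, false, ⟨2, 0, 1, 0, 1, 1, 2, 1, 2, 1, 0, 2, 0, 1, 0, 2⟩⟩,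
  ⟨11, true, ⟨0, 1, 1, 2, 2, 2, 0, 0, 2, 0, 0, 0, 0, 1, 0, 2⟩⟩,
  ⟨7, true, ⟨2, 1, 1, 2, 2, 2, 1, 1, 2, 1, 2, 1, 0, 0, 1, 1⟩⟩,
  ⟨11, false, ⟨1, 0, 0, 1, 1, 0, 0, 0, 0, 2, 0, 0, 0, 1, 1, 0⟩⟩,
  ⟨7, false, ⟨2, 0, 2, 1, 2, 1, 1, 1, 0, 0, 2, 2, 0, 0, 0, 1⟩⟩,
  ⟨9, true, ⟨0, 0, 1, 0, 0, 0, 1, 2, 2, 2, 2, 0, 0, 1, 0, 0⟩⟩,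
  ⟨15, false, ⟨0, 1, 2, 1, 1, 1, 2, 0, 0, 2, 0, 0, 0, 0, 1, 0⟩⟩,
  ⟨0, false, ⟨2, 0, 0, 1, 2, 2, 1, 1, 0, 2, 0, 1, 0, 1, 2, 2⟩⟩,
  ⟨4, false, ⟨1, 2, 0, 1, 2, 2, 2, 0, 2, 1, 2, 0, 0, 0, 1, 1⟩⟩,
  ⟨1, false, ⟨0, 0, 2, 0, 0, 2, 1, 2, 1, 2, 0, 1, 0, 1, 1, 0⟩⟩,
  ⟨2, false, ⟨0, 0, 2, 2, 2, 1, 2, 2, 1, 0, 2, 1, 0, 0, 0, 1⟩⟩,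
  ⟨0, false, ⟨0, 2, 1, 1, 1, 0, 1, 2, 0, 1, 2, 1, 0, 0, 1, 0⟩⟩,
  ⟨0, false, ⟨2, 1, 2, 2, 2, 0, 0, 1, 0, 2, 1, 0, 0, 1, 1, 0⟩⟩,
  ⟨2, false, ⟨0, 2, 1, 0, 2, 2, 0, 1, 1, 0, 2, 1, 0, 1, 1, 0⟩⟩,
  ⟨20, true, ⟨2, 1, 1, 1, 0, 1, 1, 2, 1, 2, 1, 2, 0, 0, 1, 1⟩⟩,
  ⟨0, true, ⟨0, 1, 1, 0, 1, 1, 0, 1, 0, 1, 0, 1, 0, 0, 1, 0⟩⟩,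
  ⟨0, false, ⟨0, 0, 2, 0, 0, 2, 0, 0, 1, 0, 2, 0, 0, 1, 0, 2⟩⟩,
  ⟨23, false, ⟨0, 0, 2, 1, 1, 1, 2, 0, 0, 2, 1, 2, 0, 0, 1, 0⟩⟩,
  ⟨0, true, ⟨0, 2, 0, 1, 1, 0, 1, 0, 0, 2, 0, 0, 0, 0, 1, 0⟩⟩,
  ⟨0, false, ⟨1, 2, 2, 1, 2, 0, 0, 2, 1, 0, 0, 0, 0, 1, 0, 2⟩⟩,
  ⟨4, true, ⟨2, 2, 2, 0, 1, 0, 2, 2, 0, 1, 2, 0, 0, 1, 0, 0⟩⟩,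
  ⟨4, true, ⟨0, 1, 1, 2, 1, 1, 2, 0, 0, 2, 1, 2, 0, 0, 1, 0⟩⟩,
  ⟨1, true, ⟨1, 1, 1, 1, 2, 2, 0, 1, 0, 1, 2, 0, 0, 1, 1, 0⟩⟩]

/-- Certificates. -/
def data4 : List (Cert (ZMod 3)) := [
  ⟨7, true, ⟨1, 2, 0, 0, 1, 2, 2, 2, 1, 1, 1, 0, 0, 1, 0, 0⟩⟩,
  ⟨1, true, ⟨1, 2, 2, 0, 2, 1, 0, 2, 0, 1, 0, 2, 0, 1, 2, 2⟩⟩,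
  ⟨0, true, ⟨0, 0, 2, 0, 0, 2, 2, 0, 1, 2, 2, 1, 0, 1, 0, 2⟩⟩,
  ⟨0, false, ⟨0, 1, 2, 0, 1, 2, 0, 2, 1, 0, 0, 0, 0, 1, 0, 0⟩⟩,
  ⟨3, false, ⟨0, 0, 1, 0, 0, 1, 1, 1, 2, 1, 1, 0, 0, 1, 2, 2⟩⟩,
  ⟨10, true, ⟨0, 2, 0, 2, 1, 2, 2, 2, 0, 2, 2, 1, 0, 0, 1, 0⟩⟩,
  ⟨5, false, ⟨0, 1, 0, 1, 1, 2, 2, 2, 0, 0, 1, 1, 0, 0, 1, 0⟩⟩,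
  ⟨1, true, ⟨0, 0, 1, 2, 2, 2, 1, 1, 1, 2, 0, 0, 0, 0, 1, 1⟩⟩,
  ⟨0, true, ⟨2, 1, 0, 2, 1, 1, 1, 0, 0, 1, 0, 0, 0, 1, 1, 0⟩⟩,
  ⟨0, false, ⟨0, 2, 0, 1, 1, 2, 1, 1, 0, 2, 2, 0, 0, 0, 1, 0⟩⟩,
  ⟨2, false, ⟨0, 0, 2, 1, 1, 1, 0, 2, 1, 0, 1, 2, 0, 0, 0, 1⟩⟩,
  ⟨8, false, ⟨2, 1, 2, 2, 1, 0, 2, 1, 2, 1, 2, 0, 0, 0, 1, 1⟩⟩,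
  ⟨1, true, ⟨2, 2, 1, 0, 1, 1, 0, 2, 0, 1, 2, 0, 0, 1, 0, 0⟩⟩,
  ⟨8, false, ⟨2, 1, 1, 1, 0, 1, 1, 2, 2, 1, 0, 1, 0, 0, 1, 1⟩⟩,
  ⟨2, true, ⟨1, 2, 1, 2, 1, 2, 0, 1, 2, 0, 2, 2, 1, 0, 1, 0⟩⟩,
  ⟨1, true, ⟨0, 0, 1, 1, 1, 2, 0, 1, 0, 2, 1, 2, 0, 0, 1, 0⟩⟩,
  ⟨9, true, ⟨0, 0, 0, 1, 1, 0, 0, 2, 1, 2, 1, 1, 0, 0, 1, 1⟩⟩,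
  ⟨3, false, ⟨0, 1, 2, 0, 2, 0, 2, 1, 2, 2, 0, 2, 0, 1, 1, 0⟩⟩,
  ⟨4, true, ⟨1, 2, 1, 0, 2, 0, 2, 0, 0, 1, 0, 2, 0, 1, 2, 2⟩⟩]

/-- Certificates. -/
def data : List (Cert (ZMod 3)) :=
  data0 ++ data1 ++ data2 ++ data3 ++ data4

/-- The field elements in enumeration order. -/
def es : List (ZMod 3) := [0, 1, 2]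

/-- Square classes. -/
def cs : List ((ZMod 3) × (ZMod 3)) := [(1, 1), (2, 2)]

/-- Class representatives of `SL₂`. -/
def hs : List ((ZMod 3) × (ZMod 3) × (ZMod 3) × (ZMod 3)) := [(1, 0, 0, 1), (0, 1, 2, 0), (0, 1, 2, 1), (0, 1, 2, 2), (0, 2, 1, 1), (0, 2, 1, 2), (2, 0, 0, 2)]

/-- Conjugacy certificates. -/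
def slData0 : List (SLCert (ZMod 3)) := [
  ((0, 1, 2, 0), (0, 1, 2, 0), (0, 1, 2, 0)),
  ((0, 1, 2, 1), (0, 1, 2, 1), (0, 1, 2, 1)),
  ((0, 1, 2, 2), (0, 1, 2, 2), (0, 1, 2, 2)),
  ((0, 2, 1, 0), (0, 1, 2, 0), (1, 1, 1, 2)),
  ((0, 2, 1, 1), (0, 2, 1, 1), (0, 1, 2, 2)),
  ((0, 2, 1, 2), (0, 2, 1, 2), (0, 1, 2, 1)),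
  ((1, 0, 0, 1), (1, 0, 0, 1), (0, 1, 2, 0)),
  ((1, 0, 1, 1), (0, 2, 1, 2), (1, 1, 0, 1)),
  ((1, 0, 2, 1), (0, 1, 2, 2), (1, 2, 0, 1)),
  ((1, 1, 0, 1), (0, 1, 2, 2), (0, 1, 2, 1)),
  ((1, 1, 1, 2), (0, 1, 2, 0), (0, 1, 2, 2)),
  ((1, 1, 2, 0), (0, 1, 2, 1), (0, 1, 2, 0)),
  ((1, 2, 0, 1), (0, 2, 1, 2), (0, 1, 2, 2)),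
  ((1, 2, 1, 0), (0, 2, 1, 1), (0, 1, 2, 0)),
  ((1, 2, 2, 2), (0, 1, 2, 0), (1, 1, 2, 0)),
  ((2, 0, 0, 2), (2, 0, 0, 2), (0, 1, 2, 0)),
  ((2, 0, 1, 2), (0, 2, 1, 1), (1, 2, 0, 1)),
  ((2, 0, 2, 2), (0, 1, 2, 1), (1, 1, 0, 1)),
  ((2, 1, 0, 2), (0, 1, 2, 1), (0, 1, 2, 2)),
  ((2, 1, 1, 1), (0, 1, 2, 0), (0, 1, 2, 1)),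
  ((2, 1, 2, 0), (0, 1, 2, 2), (0, 1, 2, 0)),
  ((2, 2, 0, 2), (0, 2, 1, 1), (0, 1, 2, 1)),
  ((2, 2, 1, 0), (0, 2, 1, 2), (0, 1, 2, 0)),
  ((2, 2, 2, 1), (0, 1, 2, 0), (1, 1, 0, 1))]

/-- Conjugacy certificates. -/
def slData : List (SLCert (ZMod 3)) :=
  slData0

theorem covers : CoversSL hs :=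
  coversSL_of_check hs slData (by decide +kernel) (by decide +kernel)

theorem cs_spec : ∀ c : ZMod 3, c ≠ 0 → ∃ d ∈ cs, ∃ l : ZMod 3, l ≠ 0 ∧ d.1 = l * l * c ∧ d.1 * d.2 = 1 := by
  decide +kernel

theorem x_pow : M4.pow x 5 = M4.one := by decide +kernel

theorem x_symp : x.IsSymp := by decide +kernel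

theorem y_check : checkY x Y = true := by decide +kernel

theorem all_check : checkAll x Y (forms es cs hs) data = true := by decide +kernel

end CfsgLib.SpFourCover.Three
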